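import Cfsg.Agent.Lib.HSMult.CoverChecks
import Cfsg.Agent.Lib.HSOut.Model
import Cfsg.Agent.Lib.Schur.Labelled
import Cfsg.Prelude.Def_KGroupFacts

/-!
The double cover of the Higman–Sims group from labelled edges between two classes of halves.
-/

set_option autoImplicit false
set_option maxRecDepth 100000
set_option maxHeartbeats 1000000

namespace Cfsg.Agent.HSMult

open Cfsg Cfsg.Agent.Mathieu Cfsg.Agent.HSOut
open scoped commutatorElement

attribute [local irreducible] entry point nbrMask nbrCodes

theorem isSimple_grp : IsSimpleGroup grp := by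
  classical
  haveI : Fintype Hexad22.hexads := Fintype.ofFinite _
  obtain ⟨ψ, hψ, H, hH, hle⟩ := exists_hom_simple
  haveI := hH.1
  haveI : Finite H := Nat.finite_of_card_ne_zero (by rw [hH.2]; norm_num)
  have hc : Nat.card ((grp.subgroupOf autGrp).map ψ) = 44352000 := by
    rw [Subgroup.card_map_of_injective hψ, Nat.card_congr (Subgroup.subgroupOfEquivOfLe grp_le).toEquiv, card_grp]
  have he : (grp.subgroupOf autGrp).map ψ = H :=
    Subgroup.eq_of_le_of_card_ge hle (by rw [hc, hH.2])
  let e : grp ≃* H := (Subgroup.subgroupOfEquivOfLe grp_le).symm.trans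
    (((grp.subgroupOf autGrp).equivMapOfInjective ψ hψ).trans (MulEquiv.subgroupCongr he))
  haveI : Nontrivial grp := e.toEquiv.nontrivial
  exact IsSimpleGroup.isSimpleGroup_of_surjective e.symm.toMonoidHom e.symm.surjective

theorem natDiv (a b : ℕ) : Nat.div a b = a / b := rfl

theorem natMod (a b : ℕ) : Nat.mod a b = a % b := rfl

/-- The halves. -/
abbrev Vert : Type := Fin 704

/-- `g` sends the half `x` to the half `y`. -/
def Moves (g : grp) (x y : Vert) : Prop :=
  ∀ q : Fin 100, (point y.val).testBit ((g : Equiv.Perm (Fin 100)) q).val = (point x.val).testBit q.val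

/-- The neighbours with labels. -/
def nbrs (x : Vert) : List (Vert × ZMod 2) :=
  (nbrCodes x.val).map fun c => (Fin.ofNat 704 (c / 2), ((c % 2 : ℕ) : ZMod 2))

/-- The labelled graph. -/
abbrev covData : Schur.Labelled.Data grp Unit (ZMod 2) where
  P _ := Vert
  act _ := Moves
  nb _ := nbrs

instance (i : Unit) : Finite (covData.P i) := inferInstanceAs (Finite Vert)
instance (i : Unit) : Nonempty (covData.P i) := inferInstanceAs (Nonempty Vert)

theorem point_lt (i : Vert) : point i.val < 2 ^ 100 := by
  have h := points_ok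
  simp only [pointsOK, Bool.and_eq_true, List.all_eq_true, List.mem_range, decide_eq_true_eq] at h
  exact (h.1 i.val i.isLt).1

theorem point_lt_succ {i : ℕ} (hi : i + 1 < 704) : point i < point (i + 1) := by
  have h := points_ok
  simp only [pointsOK, Bool.and_eq_true, List.all_eq_true, List.mem_range, decide_eq_true_eq, Bool.or_eq_true] at h
  exact (h.1 i (by omega)).2.resolve_left (by omega)

theorem point_strictMono {i j : ℕ} (hij : i < j) (hj : j < 704) : point i < point j := by
  induction j with
  | zero => omega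
  | succ j ih =>
    rcases Nat.lt_succ_iff_lt_or_eq.1 hij with h | h
    · exact (ih h (by omega)).trans (point_lt_succ hj)
    · subst h; exact point_lt_succ hj

theorem vert_ext {x y : Vert} (h : ∀ q : Fin 100, (point x.val).testBit q.val = (point y.val).testBit q.val) :
    x = y := by
  have he : point x.val = point y.val := by
    refine Nat.eq_of_testBit_eq fun k => ?_
    rcases Nat.lt_or_ge k 100 with hk | hk
    · exact h ⟨k, hk⟩
    · have := point_lt x
      have := point_lt y
      have h2 : (2 : ℕ) ^ 100 ≤ 2 ^ k := Nat.pow_le_pow_right two_pos hk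
      rw [Nat.testBit_lt_two_pow (by omega), Nat.testBit_lt_two_pow (by omega)]
  rcases lt_trichotomy x.val y.val with h' | h' | h'
  · exact absurd he (point_strictMono h' y.isLt).ne
  · exact Fin.ext h'
  · exact absurd he.symm (point_strictMono h' x.isLt).ne

theorem nbr_facts (x : Vert) {c : ℕ} (hc : c ∈ nbrCodes x.val) :
    c < 1408 ∧ (nbrMask x.val >>> (2 * (c / 2))) % 4 = 1 + c % 2 := by
  have h := rows_ok
  simp only [rowsOK, List.all_eq_true, List.mem_range, Bool.and_eq_true, decide_eq_true_eq, force_eq,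
    beq_iff_eq] at h
  exact h x.val x.isLt c hc

theorem testBit_maskOfCodes {k : ℕ} : ∀ {L : List ℕ}, (maskOfCodes L).testBit k = true → k ∈ L
  | [], h => by simp [maskOfCodes] at h
  | q :: L, h => by
    rw [maskOfCodes, Nat.testBit_or, Bool.or_eq_true, Nat.testBit_two_pow, decide_eq_true_eq] at h
    rcases h with h | h
    · exact h ▸ List.mem_cons_self
    · exact List.mem_cons_of_mem _ (testBit_maskOfCodes h)

theorem mem_nbrs_of_testBit (x : Vert) {k : ℕ} (h : (nbrMask x.val).testBit k = true) :
    (Fin.ofNat 704 (k / 2), ((k % 2 : ℕ) : ZMod 2)) ∈ nbrs x := by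
  have h' := masks_ok
  simp only [masksOK, List.all_eq_true, List.mem_range, beq_iff_eq] at h'
  rw [← h' x.val x.isLt] at h
  exact List.mem_map.2 ⟨k, testBit_maskOfCodes h, rfl⟩

theorem act_one (x y : Vert) : Moves (1 : grp) x y ↔ y = x := by
  refine ⟨fun h => vert_ext fun q => h q, ?_⟩
  rintro rfl q
  rfl

theorem center_grp : Subgroup.center grp = ⊥ := by
  haveI := isSimple_grp
  rcases (Subgroup.center grp).normal_of_characteristic.eq_bot_or_eq_top with h | h
  · exact h
  · exfalso
    have hcomm : Std.Commutative (α := grp) (· * ·) :=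
      ⟨fun a b => Subgroup.mem_center_iff.1 (h ▸ Subgroup.mem_top b : b ∈ Subgroup.center grp) a⟩
    letI : CommGroup grp := { (inferInstance : Group grp) with mul_comm := hcomm.comm }
    have hp := (IsSimpleGroup.prime_card (α := grp))
    rw [card_grp] at hp
    norm_num at hp

theorem good : Schur.Labelled.Good covData where
  act_mul _ g h x y z hxy hyz := fun q => by
    rw [← hxy q]
    exact hyz ((g : Equiv.Perm (Fin 100)) q)
  act_center _ g hg x y := by
    rw [center_grp, Subgroup.mem_bot] at hg
    subst hg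
    exact act_one x y
  nb_func _ x y a b ha hb := by
    obtain ⟨c, hc, he⟩ := List.mem_map.1 (show (y, a) ∈ nbrs x from ha)
    obtain ⟨c', hc', he'⟩ := List.mem_map.1 (show (y, b) ∈ nbrs x from hb)
    simp only [Prod.mk.injEq] at he he'
    obtain ⟨hlt, hm⟩ := nbr_facts x hc
    obtain ⟨hlt', hm'⟩ := nbr_facts x hc'
    have e : c / 2 = c' / 2 := by
      have := congrArg Fin.val (he.1.trans he'.1.symm)
      have h' : c / 2 % 704 = c' / 2 % 704 := this
      omega
    rw [e] at hm
    rw [← he.2, ← he'.2, show c % 2 = c' % 2 by omega]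
  connected _ := by
    refine ⟨(0 : Vert), ?_⟩
    have h := conn_ok
    simp only [connOK, Bool.and_eq_true, List.all_eq_true, Bool.or_eq_true] at h
    obtain ⟨hseen, hedge⟩ := h
    have hlt := CoverOrbital.seenOK_lt _ _ hseen
    intro x
    refine (?_ : ∀ k, k < 704 → ∀ hk : k < 704, Relation.ReflTransGen
      (fun u v => ∃ a, (v, a) ∈ nbrs u) (0 : Vert) ⟨k, hk⟩) x.val x.isLt x.isLt
    refine CoverOrbital.seenOK_sound (P := fun k => ∀ hk : k < 704, Relation.ReflTransGen
      (fun u v => ∃ a, (v, a) ∈ nbrs u) (0 : Vert) ⟨k, hk⟩) _ 1 hseen ?_ ?_ hlt ?_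
    · intro k _ hk _
      obtain rfl : k = 0 := CoverOrbital.eq_zero_of_testBit_one hk
      exact Relation.ReflTransGen.refl
    · intro t ht hj hP hk
      refine (hP hj).tail ?_
      rcases hedge t ht with h' | h'
      · have hm := mem_nbrs_of_testBit ⟨t.2, hj⟩ h'
        rw [show Fin.ofNat 704 (2 * t.1 / 2) = (⟨t.1, hk⟩ : Vert) from
          Fin.ext (by simp [Nat.mod_eq_of_lt hk])] at hm
        exact ⟨_, hm⟩
      · have hm := mem_nbrs_of_testBit ⟨t.2, hj⟩ h'
        rw [show Fin.ofNat 704 ((2 * t.1 + 1) / 2) = (⟨t.1, hk⟩ : Vert) from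
          Fin.ext (by simp [show (2 * t.1 + 1) / 2 = t.1 by omega, Nat.mod_eq_of_lt hk])] at hm
        exact ⟨_, hm⟩
    · intro k hk
      rw [CoverOrbital.eq_zero_of_testBit_one hk]
      norm_num

/-- A generator. -/
noncomputable def genG (g : ℕ) : grp :=
  if h : g < 2 then
    Classical.choose (show ∃ σ : grp, Rep enc (σ : Equiv.Perm (Fin 100)) (HSOut.gens.getD g 0) from by
      have hmem : HSOut.gens.getD g 0 ∈ HSOut.gens := by
        rw [List.getD_eq_getElem _ _ (by simpa [HSOut.gens] using h)]; exact List.getElem_mem _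
      obtain ⟨σ, hσ⟩ := exists_rep (e := enc)
        (List.all_eq_true.1 (show HSOut.gens.all (permOK 100) = true by decide +kernel) _ hmem)
      exact ⟨⟨σ, Subgroup.subset_closure ⟨_, hmem, hσ⟩⟩, hσ⟩)
  else 1

theorem rep_genG {g : ℕ} (hg : g < 2) :
    Rep enc (genG g : Equiv.Perm (Fin 100)) (HSOut.gens.getD g 0) := by
  unfold genG
  rw [dif_pos hg]
  generalize_proofs h
  exact Classical.choose_spec h

theorem img_facts {g : ℕ} (hg : g < 2) (x : Vert) :
    img g x.val < 704 ∧ ∀ q : Fin 100,
      (point (img g x.val)).testBit ((genG g : Equiv.Perm (Fin 100)) q).val = (point x.val).testBit q.val := by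
  have h := points_ok
  simp only [pointsOK, Bool.and_eq_true, List.all_eq_true, List.mem_range, force_eq, decide_eq_true_eq,
    beq_iff_eq] at h
  obtain ⟨h1, h2⟩ := h.2 g hg x.val x.isLt
  refine ⟨h1, fun q => ?_⟩
  have e : ((genG g : Equiv.Perm (Fin 100)) q).val = app (HSOut.gens.getD g 0) q.val := rep_genG hg q
  rw [e]
  exact h2 q.val q.isLt

/-- The image map of a generator. -/
def imgV (g : ℕ) (x : Vert) : Vert := Fin.ofNat 704 (img g x.val)

theorem imgV_val {g : ℕ} (hg : g < 2) (x : Vert) : (imgV g x).val = img g x.val := by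
  simp [imgV, Nat.mod_eq_of_lt (img_facts hg x).1]

theorem imgV_injective {g : ℕ} (hg : g < 2) : Function.Injective (imgV g) := by
  intro x y h
  refine vert_ext fun q => ?_
  have hv : img g x.val = img g y.val := by rw [← imgV_val hg, h, imgV_val hg]
  rw [← (img_facts hg x).2 q, hv, (img_facts hg y).2 q]

/-- The permutation of the halves. -/
noncomputable def permV (g : ℕ) : Equiv.Perm Vert :=
  if hg : g < 2 then Equiv.ofBijective (imgV g) (Finite.injective_iff_bijective.1 (imgV_injective hg)) else 1

/-- The lift of a generator. -/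
noncomputable def liftG (g : ℕ) : grp × ∀ i, Equiv.Perm (covData.P i × ZMod 2) :=
  (genG g, fun _ => Schur.Labelled.lift (D := covData) (i := ()) (permV g) (fun x : Vert => ((tr g x.val : ℕ) : ZMod 2)))

theorem liftG_mem {g : ℕ} (hg : g < 2) : liftG g ∈ Schur.Labelled.M good := by
  refine Schur.Labelled.lift_mem good (D := covData) _ _ (fun _ x q => ?_) (fun _ x e he => ?_)
  · show (point (permV g x).val).testBit _ = _
    rw [permV, dif_pos hg, Equiv.ofBijective_apply, imgV_val hg]
    exact (img_facts hg x).2 q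
  · obtain ⟨c, hc, rfl⟩ := List.mem_map.1 (show e ∈ nbrs x from he)
    obtain ⟨hlt, -⟩ := nbr_facts x hc
    have h := edges_ok
    simp only [edgesOK, List.all_eq_true, List.mem_range, force_eq] at h
    have hb := h g hg x.val x.isLt c hc
    rw [← imgV_val hg] at hb
    have hm := mem_nbrs_of_testBit (imgV g x) hb
    have hp : permV g x = imgV g x := by rw [permV, dif_pos hg, Equiv.ofBijective_apply]
    show (_, _) ∈ nbrs (permV g x)
    rw [hp]
    convert hm using 2
    · show permV g (Fin.ofNat 704 (c / 2)) = _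
      rw [permV, dif_pos hg, Equiv.ofBijective_apply]
      refine Fin.ext ?_
      have hv : (Fin.ofNat 704 (c / 2)).val = c / 2 := by simp [Nat.mod_eq_of_lt (show c / 2 < 704 by omega)]
      rw [imgV_val hg, hv]
      have hh := (img_facts hg ⟨c / 2, by omega⟩).1
      simp only [Fin.ofNat]
      rw [show (2 * img g (c / 2) + (c % 2 + tr g (c / 2) + tr g x.val) % 2) / 2 = img g (c / 2) by omega,
        Nat.mod_eq_of_lt hh]
    · show ((c % 2 : ℕ) : ZMod 2) + ((tr g (Fin.ofNat 704 (c / 2)).val : ℕ) : ZMod 2) - ((tr g x.val : ℕ) : ZMod 2) = _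
      rw [sub_eq_add_neg, ZMod.neg_eq_self_mod_two,
        show (2 * img g (c / 2) + (c % 2 + tr g (c / 2) + tr g x.val) % 2) % 2 =
          (c % 2 + tr g (c / 2) + tr g x.val) % 2 by omega, ZMod.natCast_mod]
      simp [Nat.mod_eq_of_lt (show c / 2 < 704 by omega)]

/-- The index of a covering point. -/
def encC (u : Vert × ZMod 2) : ℕ := 2 * u.1.val + u.2.val

theorem encC_injective : Function.Injective encC := by
  intro a b h
  have := ZMod.val_lt a.2
  have := ZMod.val_lt b.2
  unfold encC at h
  exact Prod.ext (Fin.ext (by omega)) (ZMod.val_injective 2 (by omega))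

theorem encC_liftG {g : ℕ} (hg : g < 2) (u : Vert × ZMod 2) : encC ((liftG g).2 () u) = stepC g (encC u) := by
  have h2 := ZMod.val_lt u.2
  have e1 : encC u / 2 = u.1.val := by unfold encC; omega
  have e2 : encC u % 2 = u.2.val := by unfold encC; omega
  have hl : (liftG g).2 () u = (permV g u.1, u.2 + ((tr g u.1.val : ℕ) : ZMod 2)) := by
    unfold liftG
    exact Schur.Labelled.lift_apply (D := covData) (i := ()) (permV g) (fun x : Vert => ((tr g x.val : ℕ) : ZMod 2)) u
  rw [hl]
  show 2 * (permV g u.1).val + (u.2 + ((tr g u.1.val : ℕ) : ZMod 2)).val = _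
  rw [permV, dif_pos hg, Equiv.ofBijective_apply, imgV_val hg, ZMod.val_add, ZMod.val_natCast, stepC, force_eq,
    force_eq]
  simp only [img, tr, Nat.add_eq, Nat.mul_eq, natDiv, natMod, e1]
  unfold encC
  omega

/-- The lift of a word. -/
noncomputable def liftW (w : List ℕ) : grp × ∀ i, Equiv.Perm (covData.P i × ZMod 2) := (w.map liftG).prod

theorem liftW_cons (g : ℕ) (w : List ℕ) : liftW (g :: w) = liftG g * liftW w := by
  simp [liftW]

theorem liftW_append (a b : List ℕ) : liftW (a ++ b) = liftW a * liftW b := by simp [liftW]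

theorem encC_liftW : ∀ (w : List ℕ), (∀ g ∈ w, g < 2) → ∀ u : Vert × ZMod 2,
    encC ((liftW w).2 () u) = evalC w (encC u)
  | [], _, u => rfl
  | g :: w, hw, u => by
    rw [liftW_cons]
    show encC ((liftG g).2 () ((liftW w).2 () u)) = _
    rw [encC_liftG (hw g List.mem_cons_self), encC_liftW w (fun x hx => hw x (List.mem_cons_of_mem _ hx))]
    rfl

theorem rep_liftW : ∀ (w : List ℕ), (∀ g ∈ w, g < 2) → Rep enc ((liftW w).1 : Equiv.Perm (Fin 100))
    (w.foldr (fun g acc => packMulS 100 (HSOut.gens.getD g 0) acc) (packId 100))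
  | [], _ => rep_packId (by norm_num)
  | g :: w, hw => by
    rw [liftW_cons, List.foldr_cons, packMulS_eq, Prod.fst_mul, Subgroup.coe_mul]
    exact rep_packMul (rep_genG (hw g List.mem_cons_self)) (rep_liftW w fun x hx => hw x (List.mem_cons_of_mem _ hx))

theorem liftW_mem (w : List ℕ) (hw : ∀ g ∈ w, g < 2) : liftW w ∈ Schur.Labelled.M good :=
  Subgroup.list_prod_mem _ fun x hx => by
    obtain ⟨g, hg, rfl⟩ := List.mem_map.1 hx
    exact liftG_mem (hw g hg)

attribute [local irreducible] evalC wordA wordB

/-- The cover. -/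
theorem exists_cover : ∃ (Γ : Type) (_ : Group Γ) (_ : Finite Γ) (σ : Γ →* grp),
    IsStemExtension σ ∧ Nonempty (σ.ker ≃* Multiplicative (ZMod 2)) := by
  haveI := isSimple_grp
  have hperf : _root_.commutator grp = ⊤ := by
    rcases (inferInstance : (_root_.commutator grp).Normal).eq_bot_or_eq_top with h | h
    · exfalso
      have hc : Subgroup.center grp = ⊤ := (commutator_eq_bot_iff_center_eq_top _).1 h
      rw [center_grp] at hc
      have := congrArg (fun K : Subgroup grp => Nat.card K) hc
      simp [card_grp] at this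
    · exact h
  have hp := pair_ok
  simp only [pairOK, Bool.and_eq_true, List.all_eq_true, List.mem_range, force_eq, decide_eq_true_eq,
    beq_iff_eq, List.mem_append] at hp
  obtain ⟨hw, hflip⟩ := hp
  have hAB : ∀ g ∈ wordA ++ wordB, g < 2 := fun g hg => hw g (List.mem_append.1 hg)
  have hBA : ∀ g ∈ wordB ++ wordA, g < 2 := fun g hg => hw g (List.mem_append.1 hg).symm
  have hgens : Subgroup.closure {σ : grp | ∃ g, g < 2 ∧ σ = genG g} = ⊤ := by
    rw [eq_top_iff]
    rintro ⟨σ, hσ⟩ -
    have hle : grp ≤ (Subgroup.closure {σ : grp | ∃ g, g < 2 ∧ σ = genG g}).map grp.subtype := by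
      refine genGroup_le fun τ l hl hτ => ?_
      obtain ⟨g, hg, rfl⟩ := List.mem_iff_getElem.1 hl
      have hg2 : g < 2 := hg
      refine ⟨genG g, Subgroup.subset_closure ⟨g, hg2, rfl⟩, ?_⟩
      refine ((rep_genG hg2).unique ?_)
      rw [List.getD_eq_getElem _ _ hg]
      exact hτ
    obtain ⟨x, hx, e⟩ := hle hσ
    exact (Subtype.ext e : x = ⟨σ, hσ⟩) ▸ hx
  have hC : AddSubgroup.closure {fun _ : Unit => (1 : ZMod 2)} = ⊤ := by
    rw [eq_top_iff]
    intro c _
    have h2 : ∀ a : ZMod 2, a = 0 ∨ a = 1 := by decide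
    rcases h2 (c ()) with h | h
    · rw [show c = 0 from funext fun _ => h]; exact zero_mem _
    · exact AddSubgroup.subset_closure (funext fun _ => h)
  obtain ⟨hst, ⟨eK⟩⟩ := Schur.Labelled.stem good hperf hgens
    (fun s ⟨g, hg, e⟩ => ⟨liftG g, liftG_mem hg, e.symm⟩) hC (fun c hc => by
      rw [Set.mem_singleton_iff] at hc
      subst hc
      refine ⟨liftW wordA, liftW_mem _ (fun g hg => hAB g (List.mem_append_left _ hg)),
        liftW wordB, liftW_mem _ (fun g hg => hAB g (List.mem_append_right _ hg)), ?_⟩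
      rw [← liftW_append, ← liftW_append]
      refine Prod.ext ?_ (funext fun _ => Equiv.ext fun u => ?_)
      · show (liftW (wordA ++ wordB)).1 = 1 * (liftW (wordB ++ wordA)).1
        rw [one_mul]
        exact Subtype.ext (((rep_liftW _ hAB).of_same commute_ok).unique (rep_liftW _ hBA))
      · rw [Prod.snd_mul]
        simp only [Pi.mul_apply, Equiv.Perm.mul_apply]
        have h2 := ZMod.val_lt u.2
        have hu : encC u < 1408 := by
          have := u.1.isLt
          unfold encC
          omega
        obtain ⟨e1, e2⟩ := hflip (encC u) hu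
        rw [← encC_liftW _ hAB, ← encC_liftW _ hBA] at e1 e2
        refine encC_injective ?_
        rw [Schur.Labelled.transl_apply]
        set v := (liftW (wordB ++ wordA)).2 () u
        set w := (liftW (wordA ++ wordB)).2 () u
        have h3 := ZMod.val_lt v.2
        have h4 := ZMod.val_lt w.2
        simp only [natDiv, natMod, Nat.add_eq] at e1 e2
        show _ = 2 * v.1.val + (v.2 + 1).val
        rw [ZMod.val_add, ZMod.val_one]
        change (encC w / 2 = encC v / 2) at e1
        change ((encC w + encC v) % 2 = 1) at e2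
        unfold encC at *
        omega)
  have hc := center_grp
  let q : grp ⧸ Subgroup.center grp ≃* grp :=
    (QuotientGroup.quotientMulEquivOfEq hc).trans QuotientGroup.quotientBot
  refine ⟨Schur.Labelled.M good, inferInstance, inferInstance,
    q.toMonoidHom.comp ((QuotientGroup.mk' (Subgroup.center grp)).comp (Schur.Labelled.proj good)), ?_, ⟨?_⟩⟩
  · obtain ⟨h1, h2, h3⟩ := hst
    have hk := MonoidHom.ker_comp_of_injective
      ((QuotientGroup.mk' (Subgroup.center grp)).comp (Schur.Labelled.proj good)) q.toMonoidHom q.injective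
    exact ⟨q.surjective.comp h1, hk ▸ h2, hk ▸ h3⟩
  · refine (MulEquiv.subgroupCongr (MonoidHom.ker_comp_of_injective _ q.toMonoidHom q.injective)).trans (eK.trans ?_)
    haveI : Unique (Subgroup.center grp) := by rw [hc]; infer_instance
    exact MulEquiv.uniqueProd.trans (AddEquiv.toMultiplicative (AddEquiv.funUnique Unit (ZMod 2)))

end Cfsg.Agent.HSMult
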