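import Cfsg.Agent.Lib.HSOut.Data
import Cfsg.Agent.Lib.HSMult.CoverData
import Cfsg.Agent.Lib.Mathieu.CoverOrbital

/-!
Kernel checks of the data of the double cover of the Higman–Sims group.
-/

set_option autoImplicit false
set_option maxRecDepth 100000
set_option maxHeartbeats 1000000

namespace Cfsg.Agent.HSMult

open Cfsg.Agent.Mathieu

/-- The half with index `i`. -/
def point (i : ℕ) : ℕ := CoverOrbital.look 0 pts i

/-- Twice the image plus the translation. -/
def entry (g i : ℕ) : ℕ := Nat.mod (Nat.shiftRight (imgs.getD g 0) (Nat.mul 11 i)) 2048

/-- The image of an index. -/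
def img (g i : ℕ) : ℕ := Nat.div (entry g i) 2

/-- The translation at an index. -/
def tr (g i : ℕ) : ℕ := Nat.mod (entry g i) 2

/-- The neighbour codes. -/
def nbrCodes (i : ℕ) : List ℕ :=
  force (CoverOrbital.look 0 rows i) fun r =>
    (List.range 50).map fun k => Nat.mod (Nat.shiftRight r (Nat.mul 11 k)) 2048

/-- The neighbours as a set. -/
def nbrMask (i : ℕ) : ℕ := CoverOrbital.look 0 rmasks i

/-- A generator on the covering points. -/
def stepC (g y : ℕ) : ℕ :=
  force y fun y => force (entry g (Nat.div y 2)) fun e =>
    Nat.add (Nat.mul 2 (Nat.div e 2)) (Nat.mod (Nat.add e y) 2)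

/-- A word on the covering points. -/
def evalC : List ℕ → ℕ → ℕ
  | [], y => y
  | g :: w, y => stepC g (evalC w y)

/-- The halves increase and are moved as claimed. -/
def pointsOK : Bool :=
  ((List.range 704).all fun i => decide (point i < 2 ^ 100) &&
    (decide (704 ≤ i + 1) || decide (point i < point (i + 1)))) &&
  (List.range 2).all fun g => force (HSOut.gens.getD g 0) fun l => (List.range 704).all fun i =>
    force (point i) fun m => force (point (img g i)) fun m' => decide (img g i < 704) &&
      (List.range 100).all fun q => m'.testBit (app l q) == m.testBit q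

/-- Bounded codes, the stated sets, one label for each neighbour. -/
def rowsOK : Bool :=
  (List.range 704).all fun i => force (nbrMask i) fun m => (nbrCodes i).all fun c =>
    decide (c < 1408) && (Nat.mod (Nat.shiftRight m (Nat.mul 2 (Nat.div c 2))) 4 == Nat.add 1 (Nat.mod c 2))

/-- A set read off the codes. -/
def maskOfCodes : List ℕ → ℕ
  | [] => 0
  | c :: cs => 2 ^ c ||| maskOfCodes cs

/-- The sets agree with the codes. -/
def masksOK : Bool := (List.range 704).all fun i => maskOfCodes (nbrCodes i) == nbrMask i

/-- The generators preserve the labelled edges. -/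
def edgesOK : Bool :=
  (List.range 2).all fun g => (List.range 704).all fun i =>
    force (nbrMask (img g i)) fun m => force (tr g i) fun t => (nbrCodes i).all fun c =>
      m.testBit (2 * img g (c / 2) + (c % 2 + tr g (c / 2) + t) % 2)

/-- The tree. -/
def connOK : Bool :=
  CoverOrbital.seenOK 704 conn 1 && conn.all fun t =>
    (nbrMask t.2).testBit (2 * t.1) || (nbrMask t.2).testBit (2 * t.1 + 1)

/-- The images of two covering points with the same index differ by the label. -/
def liftsOK : Bool :=
  (List.range 2).all fun g => (List.range 1408).all fun y => decide (stepC g y < 1408)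

/-- The commuting pair lifts to elements commuting up to the translation. -/
def pairOK : Bool :=
  (wordA ++ wordB).all (fun g => decide (g < 2)) &&
  ((List.range 1408).all fun y => force (evalC (wordA ++ wordB) y) fun a => force (evalC (wordB ++ wordA) y) fun b =>
    (Nat.div a 2 == Nat.div b 2) && (Nat.mod (Nat.add a b) 2 == 1))

theorem points_ok : pointsOK = true := by decide +kernel

theorem rows_ok : rowsOK = true := by decide +kernel

theorem masks_ok : masksOK = true := by decide +kernel

theorem edges_ok : edgesOK = true := by decide +kernel

theorem conn_ok : connOK = true := by decide +kernel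

theorem lifts_ok : liftsOK = true := by decide +kernel

theorem pair_ok : pairOK = true := by decide +kernel

theorem commute_ok : samePack 100 ((wordA ++ wordB).foldr (fun g acc => packMulS 100 (HSOut.gens.getD g 0) acc) (packId 100))
    ((wordB ++ wordA).foldr (fun g acc => packMulS 100 (HSOut.gens.getD g 0) acc) (packId 100)) = true := by
  decide +kernel

end Cfsg.Agent.HSMult
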