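import Cfsg.Agent.Lib.Mathieu.ExtensionCert

/-!
Certificate data for the Schur multiplier of the Higman–Sims group on 100 points: a polycyclic Sylow 2-subgroup of
order 512 with three fusing elements, and Sylow subgroups for 3 and 5 with inverting involutions.
-/

set_option autoImplicit false
set_option maxRecDepth 100000

namespace Cfsg.Agent.HSMult

open Cfsg.Agent.Mathieu

/-- Programs from the chain representatives for the elements used below. -/
def slpM : List (ℕ × ℕ × ℕ) := [
  (0x182e5d2c5f52234d3a4537224e3c474a49382d3f1b423958272a562f415a243e43266160441d63170a0b15130610040c0716010911050d02140e03120f5b5c1a1c1e333036204f5550284b29313d003548465e54591f402157344c253b192b6232515308, 10, 108),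
  (0xa2a34632b58013e2e445d0b1f37223d23172f270c60293a08131a183c4207384b043b4a300e51063f5e463343261b4e5a0028395c611c1957324955506235160311522c5f094836530d4d143124051d4c47215445102015405b250f561202411e594f2d, 0, 130),
  (0x3e39634c4f58184b452e195e0c614e2201280608154a023c3f1e5c23200426380a100f4633402b1c2721604117471b3d5a37435659002f1d532c4d5232361162035f095035554816140d2d5731240e5d34070b5444423a1f053b295b2a132530121a5149, 0, 153),
  (0x30e5f353c20174909144c5e153022044b063f08471b5d5c28024f23374e0b2d4d071646614851380a3d603a2f0c241f10583e2e592b18054013271d3411443243291239190f5355560d1c25314a501e625a425436261a215257632c2a5b3b3345410001, 0, 165),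
  (0x6144c3559583e3f090e5f5e152b1f101803490a3d4648612d16514d3a4e0b28230c021b5c5d4f2f08472437380760220420172e3c304b05560f274429121d394334113255132519400d1c53314a57621e2621542a5a1a4245505b3b36632c3352410001, 0, 170),
  (0x3711454906433b28214826091a3d570c2d2b27345a596207320f61335e5554350053221b25503c39291e5d562e1413521d182a0d1702316308052f5b5f4f424730166010030b4a4d3e363a413819460a231f58154e12515c4b200e4c404404011c243f2c, 81, 125),
  (0x3542182556622e31400e3e5d585e1355303900335919244b3b4506270f1a0c292b544f536305222c361d142128125a1f571c2f5b4c0d2a104d4e320a0b1160483707464344160151613a2d3d381e3c3f5f5c1b150352040920230802264a475041491734, 0, 131),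
  (0x313e0e404c0d2a35251842585d1c1f572f0039281219240627454b3b210c1a2b291d4f53220563362c54140f33595a13555e301056622e5b1661320760480b11370a43463d4d51014e3a2d44381e233f5f1b5c1503091752023c4a202608414947500434, 0, 153),
  (0x3020600504172d2f034d18581b62521f2a352b321353111c310156290d1d55362c09101e4908222e280c5a0f3412191a5921330a064b370724463b434547263e39442540233f42413d3a003c38145f514a5754155b5c505d0b4f4e1648610e4c025e6327, 0, 169),
  (0x2e5f614a625e34335b4e4f58554c575435363032595a4d562f60492c211b1d2a281f201e1c18222b291a19173752535d5c5031514b632d483c443b4323262524273d47414240453f463a393e381410160e12091502130d0c0708110a0b010504030f0600, 0, 180),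
  (0x24a0b3b050a110f03264654153a1a09453c16081213421033042406275a1b2c4352475960213d3749531d2f391e58575c3e4f36402b63234c5f311c00174d32562a3f306220255b44506151380c070e48555d1f281418190d5e22292d4e352e4b013441, 93, 127),
  (0x4f5e5b42291c3108033e3f5d5c251355393c500f121a3b28064b2433275a592c4153471b172f005649521d21450c19571526020d231863404e48110a3d60324d373446072d013a0b44166151381e300e5f09541f10142b58364a2e05624c352204202a43, 0, 137),
  (0x500d420e2a26413362034012522513570231452c541a05210f3629632b0c53063c0935192704233949581b224f141d1555185610201c085f4e4d6160012d3d46370b48340a3251073a164344381e3b5b3f595d1f5e5a175c4a4b2f303e474c282e002411, 0, 157),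
  (0x373b0b0a212b4f11483a0e125428570c33450f2c141d5b2931052a6318135d4361590719255124063c151b1708521e5c092650032023414a0447495f3f3d5e01562f2e0d40354e321016394c381a343646555a1f2d5300586044424d3e304b2762221c02, 0, 175),
  (0x500b3b03212645334a0e3a1254230c57114f4163521e052a085b292c18135d063c15511b240725436159191731141d095c2b370a20280f48324c492e015e3d3f560d5f2f104e350440163947381a42364658531f2d5a22556230344b3e444d1c60002702, 0, 189),
  (0x621305592c27384d180a0116112e3a343261562a3545020d3f06092528120e5b2033145508030f301c4f361e4c573940581d5f2f493e412b536300235c1a294b503b195d432d48523751443c1710073d604e540c1f42264621150b4a24045e5a1b224731, 22, 125),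
  (0x1c082f0118430051295c3758331d3a4f6120565b34402e63444b0a384816365f32551411522d494d5035570d4c0e453912022a5d19233f28061e253b09032c53623e0f053c1a2b1359304127174e60241b54100c0b4226465e044a1f475a221507213d31, 0, 149),
  (0x612b37140a48444d0b22535846633634621c5138164e043d5f0149320d35392a500e06572309193125124502561040544f214105151d200f59245b471e283b5d3f2e5e2f1f3e5a4a4b30005c17112d601a42330c2c3a2655071b2708293c13180343524c, 0, 180),
  (0x5f3c2d6063262a1c291b27583952334241564450364e3723202249382146355132545340192b3d62253457484d4f453a5543311a1d18612c3e5d5b28595e3b1f4c4a474b241e2f5c5a303f2e171104081312160c030e02100b010614070905150f0d0a00, 0, 185),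
  (0x332663454a522f3749431d245c18234e3a282e2d584b3e60275a1a364d441c38313f612017415b2a324c516234461f4019482b3d59213b57545e355325505f5630425522471b4f3c5d39291e2c0a080c02010e1511040312160f0b060d13100709140500, 95, 140),
  (0x32173d1d494735395f255d193f48234c28312e384e40185e2956432f4f24512b3a20615c3c1b593730584660341c4b1f443e2d225553274d5a6236421a414a5433215b631e505726452a3b522c01020d090e0a150b040312101306110507140f08160c00, 0, 153),
  (0x39221d090c472f3a0b5f4d584e531f23352d3729125c144f3008552803201c2b3204114660104927380a400f310e4b4c44483405163e2e0d45633b5b62262141331e501a4a425754522a005a2c011b5d3d51191525245e3f026118131756063c07435936, 0, 172),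
  (0x2b18613d3e5e3039251b56581c593f242f2734284c464d4f35224938474e203a321f1d40555f602e29445c4837234b511943315d533c2d17631a3b5052265b54364a2145421e41575a2a33622c01100613120a15020e03040b1108090714050c0d0f1600, 0, 192),
  (0x4229535e4f1b4d060b2d174b2360011c183821111546481a07503c25611944343d4e6324375d00562a4c5854620e201f042b05144a30355f1e3610092e391d5a4555260f28083e0c490d27472c5143032f0a405c13123a3f573b311632525b3302415922, 119, 139),
  (0x450c0f491d4725564f3c5e19244801153d1821054c202b54351e2e105f040e113823634e2939260d421c443662581f464b6034530055273e5a1a4d302d080b502a094a141b5d6137170607282c40025943510a5c16123a3f41331331033b57522f5b3222, 0, 148),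
  (0x272f4153470045253e3157123f364c23350d42384644163a3443323d48510a05624b031f5b5952211815206011014e581c5f104f551d56491b08226114174a1a07372d0b5d28093050062a5a2c403b391e0e045c2b242e193c13020f63330c295e26544d, 0, 169),
  (0x73b375d3a48114d2d5053124629235125423438014e39320d16473d5f4c042a220e301f360954056258202e563f40194b0027315552453c593318491e4a2b1410025e2f57031b284f06210c2c440b431a1c245c170a2615615a4108630f135b3e601d35, 0, 188),
  (0xd0f0b4329262a42635a4112041d241c27561122234e37364550473800464c343d195340543b322562511f484d4b200a1560051a525b07170314184a595e2b573528494f331e2f0c1b0610022c4439081358015c3e0e2e3f2d16305d610931553c5f3a21, 0, 194),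
  (0xf05380704274932212c4d163606351109140a2b46334a41596030201b3a4f02280c0b122f4708011d4e392461545845342a4c3d5a562e22446319005d2923435c3c1a515253503b2d48314b171003620d570e4225401e55265b5f5e183e15131f1c3f37, 37, 138),
  (0x2b210605632a613162254d4f572245341d481419580e151c2051230a4412460f0954533650410b373216390401404e10350d49565f38023d2f5e2e3f473b5a305c241f4b5b003e1e5d59284a17111a182c550c422733263a1303433c071b6029522d084c, 0, 166),
  (0x314303270d2d14092c1a1b1257290c55191d324835362150374d234922464f0f2b3425390b061c0161100e3820454e333a2602072a080a183f5b2e4a243e5e304c4b00475a5d1e3b1f595c2f17115352135440423c16635862411505605156443d5f0428, 0, 177),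
  (0x20343070d261d19181b1a125708550c09140a49454e4d232021504822464f016110060e1c250b0f2b3439383735363a332d31272a29322c3b2f2e00305e3e244c474a4b1f1e5d3f5a595c5b17111552135816423c405f543d5153566041050462634428, 0, 206),
  (0x3c050408240f195c020914585406120c1a5d633b33392a2b312e30292836352350454a4f4c20224b484e46382d3a3411160b510a61014407603d43324d47214900272c2f1d591b415a525356170e1e131557421003402555265f1f3f0d62183e5b5e1c37, 163, 178),
  (0x1a1b144a3028314b03184958552b3533003c5c29360e5f1c23082250384e1151483a6046014d61374316340b634239570c5e532f3e065d2c5a133b0d3d07320a442a26043f27621f2e521909174f201e59405410211225455b155605021d4124470f4c2d, 0, 196),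
  (0x3c18494a3e5e535c031b14585506570c5d1a4b4316464d01516061480b4e11235042080e1c5f226329363938373a34353328312f302b002c2e273b322a260d04443d070a1f13093f5a521962174f15591e1245100240255447201d41215605245b0f4c2d, 0, 200),
  (0xf0b032c295b203130414d1112603a361d37145c55331b1c615043280057462b59545334512521484c35405e49394e10162f015f563802470d042e3f3d3b1f6219265a2d2a44271352090a07174f1a0805580c423e0e24451e06233c4a1522635d4b1832, 6, 171),
  (0x1d1e5d5f2f29370147223c580c0035392b495c283a4e4a2420081802380e454c48363e404b0563310f16345b61103354555e59306056142c135a3207620d3b440a2a263f04273d1f2d091952174f231b53465742251221110b15064d501a411c0343512e, 0, 186),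
  (0x594d62055121192b252722584656113537014c32544044001d1f6048293655310f12304f1c1a4b14280e335b2e3a4e451038612a24180a074a3f02260803501e5c52475f231b3c41040949151734533d063916422c57430c3b3e2d130d5a5d2f0b5e6320, 0, 198),
  (0x2e3e2d3d185e14190d5a5358552f570c591d0128354e4d4b4c2200482146360a321027401c62602b0f11333837454f16394331065663612c3c08025041260304204a4723151e523f1b095c5f17341f5d13123a423b0e5b5407441a2a0b30052425295149, 0, 210),
  (0x4a612d1b375a362f4e571c2b6346395c414f6016040c110a1014060812130e3a42545124342a1a305b293b0703020f265e43383221282c501748470d255d441f050915011d4c233d535f3e224d33584900403c193f2e451e5218313555622059564b270b, 72, 145),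
  (0x4a5158575d18083e060a1c5c241413635b0b4f051e0c124b03231f420d40041610024c5e013f4e5f38392e35363b29332b343031282d3a2a00372c27323d56494752215343175a591d41601b4d0e151a610f5419623c072645464409112050482522552f, 0, 176),
  (0x4f31571a5534104211062a1e3914133330083616540c093505455d3a073b02030b0f50290d25285b38265e484a3c2e2b632d5f6222183e610049603d174332214759375227561b535a412f1d4d0e12581c045c195140012446233f150a4c204b444e1f2c, 0, 186),
  (0x5f523f2a5d2d3e304462271e3c0d3b132c050816390e45553658353a3433405b386356294b00182f60245e4e10540c260407475a221f4a3d1b150b462151431c4f5711121a532550064103234d2e3109170f0219325c482b6120594c0a491d1437012842, 0, 202),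
  (0x4a00454c284e08106158561e335d39242f305b3a020e31185f20353801403c3e165c595e55494b47600f0c48052b296354342c1d14223637211a0b1153464315032351251c1b0657124142504d2e3f2a5a133b193d262d040a6227094452171f32070d4f, 0, 208),
  (0x252745182a354c5d31594b243b202e1e1f1723090e020a120106070d140c0f1d482b1a293734212253635411151304403c52445851563d6242415f16602c364f0b1003082f305b3a4a3e47384d19283f005c26335539325e57435a6149461c1b2d504e05, 80, 184),
  (0x1503624a5251443d1646382640503b3c23475f53635436110b602105372b0f094c5c4902320a2017012e1914220c290e5e350d2d4e071f4b18555d34285931611d1a4f2c3a434557003e255b4d0441423f391e33061312245810275a301c081b2f562a48, 0, 193),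
  (0xd2c273821351f232f2d3a260c322b3b480b4753400460525f421105513c1317015e43021b1807255d2419564463542e39371d004e2a2234455a4c586106593f156216414a570a49463e09104d290336285c0f33311e140e4b081a1c30555b504f12203d, 0, 206),
  (0x44081a362a12251f3055032613501e0e0d5f0b5d3b542c07473a5205350c3c2253392d041b271123012b1937482e020f5c14172832201d310a614c59495806463d45164a103f625a573e15414d29425b1c5e63334b245640346018004f43384e2f512109, 0, 219),
  (0x6584c626110280f221e36314f2a200e331a342438250039273e414626402319211863111d49570a0c48023d3b3c3a350554372e2c09594a165d074752154e0d433f4244550850565b4b124d5a2b1c301429515f04011b035e535c171f2f2d13600b3245, 92, 165),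
  (0xf305c0b4c32190a17132d0e315e512b3406285948025d2e070916373d3a3c2443253e383f443946272340470c053529032f4b1f0d041253361e21524241002645542c4a2a62635b571a33505a0161141c184f5f602056111d0858151b5522104d494e3b, 0, 180),
  (0x342a1f4d0d4e0c4b2d584a050e3d2318450607194801092e37144c2849202b274611623804361021330340325931023a513f3b52162f12575b13435c411c26600f1d611708633e44151a240b5a35225d423c255f0029394f55301e531b542c56505e470a, 0, 203),
  (0xf221d082e49590a61154d05485618204b07371931025d4c06090d283f232524433c44383d3e4727463a4039120e354f114e345816100c5536543357422600413b1e502a4a625b63521a212c5a0117146051295f1c2b5e035c0b1f131b5330042d322f45, 0, 213),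
  (0x241f0b60105e060f1c175305252f032b592734284f384d4c4b2247464948230a43181d400d153d0c1911024e37203551293212145604071b542a335052265763454a0036621e415b2c1a3b425a013e3013313a5f5c0e3f3c614409082d5d582e55391621, 0, 222),
  (0x3b5d43130b5e21030259181a482415071f052947260f1d281e2c3e0d1055451240543a0e4f57344235114639270922193c01231b2b06533d2d37044958164e33365a2e08144a0a5c60524b632f255b17512044613f504c6232314d4156002a305f381c0c, 147, 159),
  (0x4702245d3701274b173f1845203d193c3552050422442a380d084e292d0e263b1f094a480a283a0c031a460b42501125155121064d43121b4f41531c575c2b3e36395f633149004c581e401d2f072e56596254615e0f3255305b335a13102c1614603423, 0, 191),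
  (0x5065d5634511f2913171b221a3d19252127423b54445a0b043037123250090d52622c112d144d3503554816470f46153c430c5e60014b594f3e405c4931575f364c41391c2b1d63001e23582f072a2418264561020e0a205b08282e3f4a1038333a4e53, 0, 200),
  (0x362a4c1c0b32475341005622543825502942043b0f462437275a341243194523402663113d1d4e0d5215480a4b1a072062510517604d1f5b144a0359185702490c2833061b2c4f2b5e1e35102f4439305f3c0e6131093a555c585d3e3f2e082d13160121, 0, 218),
  (0x54c2a170b5142295b560022544d502553471f121a075a344b24373b4319450d52151d484e633d234026110a270f46622032361c603804412b100333490257180c0659285e4f2c141b1e354a2f445d305f550961310e163c132e39083f583e015c3a2d21, 0, 232),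
  (0x3b5a1e4b59172b0353041c334119490f0a461a09313c58132d303f3e0108390c233712431b2f24280b4f025d0e16616350155714515e4a4c5b54485f4e471d293a2e445560324052203626001f062762211145560d2c3d3805421035222a34074d25185c, 79, 168),
  (0x57425258355f48095315444550403c110e46360331494b0d3e4d3f2d0108430c5c4f1239475d4e3a0b37022f0a06386341043b054c3d4a512a212b17241b291d28181c272225191e201a26001f165562540f3356132c5e61145a0759605b341030322e23, 0, 185),
  (0xe2205304c2e0a3b440727064501370f28463e4831164d0d2d623536322c110b3a6125393d2a102b2641025f035049083c4723173f044a201e155c521b541d13571455535a19125d591a0c581f38344b24434f5629634e335b42215160181c5e00402f09, 0, 213),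
  (0x4a2a4d512f5f3e035b6225062c4c31412b3b0b364f1634100e42353a4011450a486321020d183d232643494e463339615032281c5e3f2d001b5a5c5519521d150c585412131e5914531a095d1f380530170f375620082e3c6007274b4422240429470157, 0, 226),
  (0x290f1d2532405200201e452c3602415b3b50485c3a5f092e3c5539443f3e08172303283849270d434b4d2f015d3016054f4c37593556531234145158061c0a182d130e6162332a2b571a631119472654214a0b10246004421f225a1b150c075e464e3d31, 173, 192),
  (0x3b625946353d5d37455a61302c3f4d4a2d503c523a47552e445432484e605b4b4342333856345e51634f2f405c365f3e41493158394c53572b1e231d1c211824291f2620222a28271b1a172519160709060803100a050d0b0c0f141215130e0411020100, 0, 216),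
  (0x505a61463949313c456259302c4c3e41533b37634f3834564b335e4340605b44483654472e55325c523a5f4e51422f4d4a3d5d58353f2d571b2a23181f261d20291c2124271e25222b1a172819160f0609050b1015080d031107130e0a1412040c020100, 0, 230),
  (0x233d374a2f02124f474554583952163a57421b435c085a1d1524630b5b61444d503f005f564c2a51253031171a3e13093c2c53591e05063b2b27030f623832201c0a26601040364933461104215d4e0c35552d2e48010d0e2822344b07191f185e291441, 139, 174),
  (0xb340f48373641503b5b6261300a31444d514612095c595a5754145352551343033a072d332c6011423c080c155d583e0e4b06454a634f052224231e182927261b1d1f19002a172820251c2b2116324c383f012e0d392f5f475e560240103d4e3504491a, 0, 206),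
  (0x570d403d0c4e4f46354c383e0e2f01390b0642123a5805364d450a1137443153515d3b2d4b486343503c5c524109085f3f0403474a491502261e1b20171929001a1d2a2722282b1f24251c18211634105e30132e3255146154620f59565b2c5a07336023, 0, 216),
  (0x3270f380a04150b0747223e094b4401234d06120e16450c421036114e395543503f282d5a26491c1b615c334f3a583c30371a244a6041202b5951540032195e574035343d1f483b4c25536221080d05175d312e2913525f022c1d5b561e182f2a146346, 0, 228),
  (0x23452618634e0b1c2a28103e394a610e4f0642505f2d2c364d0d49111455091a1b5d1e585a1d0c1512135c520331163a3f33415b2f0a4302403b51325919541f53483562344c2b005e25463d2108223824303c2e2044370129270f170747054b56046057, 0, 237),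
  (0x48294b0728224c4a2005043b230f24380b02504f4645123654350c4e1042405b152503261e1f0d5e5f3f3e55163a39443c085c30092e5d012d31615813181c62573411332a2b0a1a06516319144721371741432760001d3d4d522f595653322c1b495a0e, 110, 176),
  (0x5021523207565d164d532f3b42173d435e0b5b153f441f4b4c12044e014023485f250338053529024f3a3c205c46240041604a593037541b331a61582b1118310e191c0a34062d621357632a14470d5a2c3e26274945223955360c091d1e280f10082e51, 0, 198),
  (0x5d28091b37071654595510394501463a4e4f02483d3c492e5e2c224a60263e5c15431d240f5a080b5b4144175f00383f25204c325630504d2a3151621c1a0a13632d182b3334581911570e0614470c35124023271f3b4b42521e3653030d2f2921050461, 0, 224),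
  (0x4c2b36102220504e21323339000f2646615e4f4845472c3702352e4a073a3b0b5b253424292a300e51424405163d3c414060631156045f6258531552131f1a125d09590c1b195a1d55575c1e143828491c433e270a23173f4d2f2d0d03310601184b0854, 0, 233),
  (0x63362b1122605e6162333239000446264e505f4a3d3c352e162c3748073a3b0e51422a443034290b5b2524050245474041204c10560f4f211d1e1559121a1f135d0c5209555a19581b575c5314382d491c3f23270a3e4b4318312806032f0d084d170154, 0, 249),
  (0x4c56205912400e5c192e3c3044355558165d514e461f07045e2447150c60221448343753290f054f631a36214a5a4262005250333b1e5b45412a57262c1d112b0b103d1b133909323a615f25024b013f312d4d27491c0d3e0a1708281838062f43230354, 115, 186),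
  (0x5e2c1e0c2f284c5c2e0f0953300d365a0b165d5b1f4b05174859034a0a1a62630e34132d312b065761581c1815604d2255085f1d01494f101b564e2011332a19512107523732042912545035023e3b473944422726003846243c414045253d433a3f2314, 0, 214),
  (0x5c1d0c3923284a0e262e10581f4922364c5f5748462d3d0a613a010b383460635e00401c18242f4f5b424b4316444d5a550d15453f085d471252500756292133513732112a2004193554141b023e2b091e6253270f1a17303b13053c2c5941312503064e, 0, 228),
  (0x153c56240617144c0f202e58620830224a0e63505a1c33495c193f5e2800554f5b1a453e3159185d48344d434e462d60443816370a0151073d110b323a252c1d571b26392b0910412a545f13024b1e04053642274753031f2140351229520c233b0d2f61, 0, 239),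
  (0x6345190c2343515c3b3359580006461a4f4a5d50532d3531165249480355620e5e421e3e3f4018155b1f1c0d14364d345a284c122f0a4e211d2a0b32102625135f112c093a412b391b54613d024b3c37243022270f443860292e20040756050847170157, 0, 252)]

/-- The rules of the Sylow subgroup, the commuting pair, and the fusing elements. -/
def multPres : Ext.Pres where
  gens := [
    0x6144c3559583e3f090e5f5e152b1f101803490a3d4648612d16514d3a4e0b28230c021b5c5d4f2f08472437380760220420172e3c304b05560f274429121d394334113255132519400d1c53314a57621e2621542a5a1a4245505b3b36632c3352410001,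
    0x2e5f614a625e34335b4e4f58554c575435363032595a4d562f60492c211b1d2a281f201e1c18222b291a19173752535d5c5031514b632d483c443b4323262524273d47414240453f463a393e381410160e12091502130d0c0708110a0b010504030f0600,
    0x500b3b03212645334a0e3a1254230c57114f4163521e052a085b292c18135d063c15511b240725436159191731141d095c2b370a20280f48324c492e015e3d3f560d5f2f104e350440163947381a42364658531f2d5a22556230344b3e444d1c60002702,
    0x5f3c2d6063262a1c291b27583952334241564450364e3723202249382146355132545340192b3d62253457484d4f453a5543311a1d18612c3e5d5b28595e3b1f4c4a474b241e2f5c5a303f2e171104081312160c030e02100b010614070905150f0d0a00,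
    0x2b18613d3e5e3039251b56581c593f242f2734284c464d4f35224938474e203a321f1d40555f602e29445c4837234b511943315d533c2d17631a3b5052265b54364a2145421e41575a2a33622c01100613120a15020e03040b1108090714050c0d0f1600,
    0xd0f0b4329262a42635a4112041d241c27561122234e37364550473800464c343d195340543b322562511f484d4b200a1560051a525b07170314184a595e2b573528494f331e2f0c1b0610022c4439081358015c3e0e2e3f2d16305d610931553c5f3a21,
    0x20343070d261d19181b1a125708550c09140a49454e4d232021504822464f016110060e1c250b0f2b3439383735363a332d31272a29322c3b2f2e00305e3e244c474a4b1f1e5d3f5a595c5b17111552135816423c405f543d5153566041050462634428,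
    0x3c18494a3e5e535c031b14585506570c5d1a4b4316464d01516061480b4e11235042080e1c5f226329363938373a34353328312f302b002c2e273b322a260d04443d070a1f13093f5a521962174f15591e1245100240255447201d41215605245b0f4c2d,
    0x2e3e2d3d185e14190d5a5358552f570c591d0128354e4d4b4c2200482146360a321027401c62602b0f11333837454f16394331065663612c3c08025041260304204a4723151e523f1b095c5f17341f5d13123a423b0e5b5407441a2a0b30052425295149,
    0x4a00454c284e08106158561e335d39242f305b3a020e31185f20353801403c3e165c595e55494b47600f0c48052b296354342c1d14223637211a0b1153464315032351251c1b0657124142504d2e3f2a5a133b193d262d040a6227094452171f32070d4f,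
    0x44081a362a12251f3055032613501e0e0d5f0b5d3b542c07473a5205350c3c2253392d041b271123012b1937482e020f5c14172832201d310a614c59495806463d45164a103f625a573e15414d29425b1c5e63334b245640346018004f43384e2f512109,
    0x241f0b60105e060f1c175305252f032b592734284f384d4c4b2247464948230a43181d400d153d0c1911024e37203551293212145604071b542a335052265763454a0036621e415b2c1a3b425a013e3013313a5f5c0e3f3c614409082d5d582e55391621]
  mats := List.replicate 12 [1]
  rules := [
    ([0, 0], []),
    ([1, 0], [0, 1, 2, 6]),
    ([2, 0], [0, 2, 8]),
    ([3, 0], [0, 3, 6, 8]),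
    ([4, 0], [0, 4, 5, 6, 8]),
    ([5, 0], [0, 5, 8]),
    ([6, 0], [0, 6]),
    ([7, 0], [0, 7, 8]),
    ([8, 0], [0, 8]),
    ([1, 1], []),
    ([2, 1], [1, 2, 7]),
    ([3, 1], [1, 3, 4]),
    ([4, 1], [1, 4]),
    ([5, 1], [1, 5, 8]),
    ([6, 1], [1, 6, 7, 8]),
    ([7, 1], [1, 7]),
    ([8, 1], [1, 8]),
    ([2, 2], []),
    ([3, 2], [2, 3, 5, 6]),
    ([4, 2], [2, 4, 7]),
    ([5, 2], [2, 5]),
    ([6, 2], [2, 6, 8]),
    ([7, 2], [2, 7]),
    ([8, 2], [2, 8]),
    ([3, 3], []),
    ([4, 3], [3, 4]),
    ([5, 3], [3, 5, 8]),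
    ([6, 3], [3, 6]),
    ([7, 3], [3, 7, 8]),
    ([8, 3], [3, 8]),
    ([4, 4], []),
    ([5, 4], [4, 5]),
    ([6, 4], [4, 6, 8]),
    ([7, 4], [4, 7]),
    ([8, 4], [4, 8]),
    ([5, 5], [8]),
    ([6, 5], [5, 6]),
    ([7, 5], [5, 7]),
    ([8, 5], [5, 8]),
    ([6, 6], []),
    ([7, 6], [6, 7]),
    ([8, 6], [6, 8]),
    ([7, 7], []),
    ([8, 7], [7, 8]),
    ([8, 8], []),
    ([2, 0, 6], [0, 6, 2]),
    ([9, 0], [0, 2, 7, 9]),
    ([9, 2], [0, 6, 8, 9]),
    ([9, 3], [3, 4, 5, 9]),
    ([9, 4], [3, 6, 8, 9]),
    ([9, 5], [5, 6, 7, 8, 9]),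
    ([9, 6], [6, 7, 9]),
    ([9, 7], [6, 8, 9]),
    ([9, 8], [8, 9]),
    ([10, 0, 3], [0, 2, 3, 4, 7, 10]),
    ([10, 1], [4, 5, 6, 7, 8, 10]),
    ([10, 2], [1, 5, 10]),
    ([10, 4], [1, 2, 4, 5, 7, 10]),
    ([10, 5], [2, 4, 5, 6, 7, 10]),
    ([10, 6], [6, 8, 10]),
    ([10, 7], [7, 10]),
    ([10, 8], [7, 8, 10]),
    ([11, 1], [1, 8, 11]),
    ([11, 3], [3, 4, 8, 11]),
    ([11, 4], [4, 11]),
    ([11, 5], [4, 5, 8, 11]),
    ([11, 6], [3, 5, 6, 11]),
    ([11, 7], [4, 7, 11]),
    ([11, 8], [8, 11])]

/-- Equations between the tails. -/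
def multEqs : List (List ℕ × List (ℕ × ℕ × Bool) × List (ℕ × ℕ × Bool)) := [
  ([1, 0, 0], [(0, 1, true), (3, 6, true), (2, 2, true), (1, 1, true), (0, 0, true), (2, 21, true), (1, 17, true), (2, 44, true), (1, 39, true)],
    [(1, 0, true)]),
  ([2, 0, 0], [(0, 2, true), (2, 8, true), (1, 2, true), (0, 0, true), (1, 44, true)],
    [(1, 0, true)]),
  ([3, 0, 0], [(0, 3, true), (3, 8, true), (2, 6, true), (1, 3, true), (0, 0, true), (2, 41, true), (1, 39, true), (1, 44, true)],
    [(1, 0, true)]),
  ([4, 0, 0], [(0, 4, true), (4, 8, true), (3, 6, true), (2, 5, true), (1, 4, true), (0, 0, true), (3, 38, true), (2, 36, true), (1, 35, true), (1, 41, true), (2, 44, true), (2, 41, true), (1, 39, true), (1, 44, true)],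
    [(1, 0, true)]),
  ([1, 1, 0], [(0, 9, true)],
    [(1, 1, true), (0, 1, true), (3, 14, true), (2, 10, true), (1, 9, true), (2, 40, true), (3, 42, true), (3, 23, true), (2, 21, true), (1, 17, true), (2, 44, true), (1, 39, true)]),
  ([2, 1, 0], [(0, 10, true), (2, 7, true), (1, 2, true), (0, 1, true), (3, 21, true), (2, 17, true), (3, 44, true)],
    [(1, 1, true), (0, 2, true), (2, 16, true), (1, 10, true), (4, 23, true), (3, 22, true), (2, 17, true), (3, 41, true), (2, 40, true)]),
  ([3, 1, 0], [(0, 11, true), (2, 4, true), (1, 3, true), (0, 1, true), (3, 27, true), (4, 39, true), (4, 34, true), (5, 38, true), (6, 41, true), (7, 44, true)],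
    [(1, 1, true), (0, 3, true), (3, 16, true), (2, 14, true), (1, 11, true), (6, 44, true), (5, 22, true), (4, 21, true), (3, 19, true), (2, 18, true), (5, 32, true), (4, 31, true), (7, 43, true), (8, 41, true), (7, 40, true), (6, 39, true), (7, 44, true), (6, 42, true)]),
  ([4, 1, 0], [(0, 12, true), (1, 4, true), (0, 1, true), (3, 32, true), (5, 38, true), (4, 36, true), (6, 41, true), (5, 39, true), (5, 44, true)],
    [(1, 1, true), (0, 4, true), (4, 16, true), (3, 14, true), (2, 13, true), (1, 12, true), (4, 41, true), (5, 43, true), (6, 44, true), (6, 23, true), (5, 22, true), (4, 21, true), (3, 20, true), (2, 19, true), (4, 37, true), (5, 40, true), (7, 43, true), (6, 42, true), (6, 44, true), (5, 39, true)]),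
  ([5, 1, 0], [(0, 13, true), (2, 8, true), (1, 5, true), (0, 1, true), (3, 36, true), (5, 44, true)],
    [(1, 1, true), (0, 5, true), (2, 16, true), (1, 13, true), (3, 44, true), (2, 20, true)]),
  ([6, 1, 0], [(0, 14, true), (3, 8, true), (2, 7, true), (1, 6, true), (0, 1, true), (3, 39, true), (4, 44, true)],
    [(1, 1, true), (0, 6, true), (1, 14, true), (4, 23, true), (3, 22, true), (2, 21, true), (4, 43, true), (5, 44, true), (4, 40, true), (3, 39, true)]),
  ([7, 1, 0], [(0, 15, true), (1, 7, true), (0, 1, true)],
    [(1, 1, true), (0, 7, true), (2, 16, true), (1, 15, true), (3, 23, true), (2, 22, true), (4, 41, true), (3, 40, true)]),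
  ([8, 1, 0], [(0, 16, true), (1, 8, true), (0, 1, true)],
    [(1, 1, true), (0, 8, true), (1, 16, true), (2, 23, true), (3, 41, true)]),
  ([2, 2, 0], [(0, 17, true)],
    [(1, 2, true), (0, 2, true), (2, 23, true), (1, 17, true), (1, 44, true)]),
  ([3, 2, 0], [(0, 18, true), (3, 6, true), (2, 5, true), (1, 3, true), (0, 2, true), (2, 29, true), (3, 41, true), (4, 44, true), (3, 36, true), (5, 41, true), (4, 39, true)],
    [(1, 2, true), (0, 3, true), (3, 23, true), (2, 21, true), (1, 18, true), (4, 39, true), (4, 44, true)]),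
  ([4, 2, 0], [(0, 19, true), (2, 7, true), (1, 4, true), (0, 2, true), (2, 34, true), (3, 38, true), (4, 41, true), (5, 44, true)],
    [(1, 2, true), (0, 4, true), (4, 23, true), (3, 21, true), (2, 20, true), (1, 19, true), (3, 37, true), (4, 40, true), (6, 44, true)]),
  ([5, 2, 0], [(0, 20, true), (1, 5, true), (0, 2, true), (2, 38, true), (3, 44, true)],
    [(1, 2, true), (0, 5, true), (2, 23, true), (1, 20, true), (3, 44, true)]),
  ([7, 2, 0], [(0, 22, true), (1, 7, true), (0, 2, true), (2, 43, true), (3, 44, true)],
    [(1, 2, true), (0, 7, true), (2, 23, true), (1, 22, true), (3, 44, true)]),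
  ([3, 3, 0], [(0, 24, true)],
    [(1, 3, true), (0, 3, true), (3, 29, true), (2, 27, true), (1, 24, true), (2, 41, true), (1, 39, true), (1, 44, true)]),
  ([4, 3, 0], [(0, 25, true), (1, 4, true), (0, 3, true), (3, 34, true), (2, 32, true), (4, 44, true), (3, 36, true), (4, 39, true)],
    [(1, 3, true), (0, 4, true), (4, 29, true), (3, 27, true), (2, 26, true), (1, 25, true), (4, 41, true), (5, 44, true), (4, 39, true)]),
  ([5, 3, 0], [(0, 26, true), (2, 8, true), (1, 5, true), (0, 3, true), (3, 38, true), (2, 36, true), (4, 44, true)],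
    [(1, 3, true), (0, 5, true), (2, 29, true), (1, 26, true), (3, 44, true)]),
  ([6, 3, 0], [(0, 27, true), (1, 6, true), (0, 3, true), (3, 41, true), (2, 39, true)],
    [(1, 3, true), (0, 6, true), (1, 27, true), (2, 39, true)]),
  ([7, 3, 0], [(0, 28, true), (2, 8, true), (1, 7, true), (0, 3, true), (3, 43, true), (4, 44, true)],
    [(1, 3, true), (0, 7, true), (2, 29, true), (1, 28, true), (3, 44, true), (2, 40, true)]),
  ([4, 4, 0], [(0, 30, true)],
    [(1, 4, true), (0, 4, true), (4, 34, true), (3, 32, true), (2, 31, true), (1, 30, true), (3, 44, true), (2, 36, true), (1, 35, true), (1, 41, true), (2, 41, true), (1, 39, true), (1, 44, true)]),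
  ([5, 4, 0], [(0, 31, true), (1, 5, true), (0, 4, true), (4, 38, true), (3, 36, true), (2, 35, true), (2, 41, true), (3, 44, true)],
    [(1, 4, true), (0, 5, true), (2, 34, true), (1, 31, true), (3, 38, true), (2, 35, true), (2, 44, true)]),
  ([6, 4, 0], [(0, 32, true), (2, 8, true), (1, 6, true), (0, 4, true), (4, 41, true), (3, 39, true), (3, 44, true)],
    [(1, 4, true), (0, 6, true), (1, 32, true), (3, 38, true), (2, 36, true), (4, 41, true), (3, 39, true), (3, 44, true)]),
  ([2, 1, 1], [(0, 10, true), (2, 15, true), (1, 10, true), (0, 9, true), (1, 42, true)],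
    [(1, 9, true)]),
  ([3, 1, 1], [(0, 11, true), (2, 12, true), (1, 11, true), (0, 9, true), (1, 30, true)],
    [(1, 9, true)]),
  ([2, 2, 1], [(0, 17, true)],
    [(1, 10, true), (0, 10, true), (2, 22, true), (1, 17, true), (1, 42, true)]),
  ([3, 2, 1], [(0, 18, true), (3, 14, true), (2, 13, true), (1, 11, true), (0, 10, true), (2, 28, true), (4, 34, true), (3, 33, true), (5, 38, true), (4, 37, true), (6, 44, true), (5, 40, true), (6, 42, true)],
    [(1, 10, true), (0, 11, true), (2, 19, true), (1, 18, true), (4, 32, true), (3, 31, true), (6, 43, true), (7, 43, true), (6, 42, true)]),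
  ([4, 2, 1], [(0, 19, true), (2, 15, true), (1, 12, true), (0, 10, true), (2, 33, true), (3, 42, true)],
    [(1, 10, true), (0, 12, true), (1, 19, true), (3, 42, true)]),
  ([3, 3, 1], [(0, 24, true)],
    [(1, 11, true), (0, 11, true), (2, 25, true), (1, 24, true), (1, 30, true)]),
  ([5, 3, 1], [(0, 26, true), (2, 16, true), (1, 13, true), (0, 11, true), (4, 44, true)],
    [(1, 11, true), (0, 13, true), (2, 29, true), (1, 26, true), (3, 44, true), (2, 31, true)]),
  ([9, 2, 0], [(0, 47, true), (3, 46, true), (2, 8, true), (1, 6, true), (0, 0, true), (1, 23, true), (0, 21, true), (2, 44, true)],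
    [(1, 2, true), (0, 46, true), (3, 47, true), (6, 53, true), (2, 7, true), (1, 2, true), (0, 0, true), (1, 43, true), (2, 44, true), (1, 40, true), (3, 44, true)]),
  ([9, 2, 2], [(0, 47, true), (3, 47, true), (2, 8, true), (1, 6, true), (0, 0, true), (1, 41, true), (0, 39, true), (0, 44, true)],
    [(1, 17, true)]),
  ([9, 3, 0], [(0, 48, true), (3, 46, true), (2, 5, true), (1, 4, true), (0, 3, true), (3, 34, true), (2, 32, true), (4, 44, true), (3, 36, true), (4, 39, true), (4, 38, true), (3, 35, true), (3, 44, true), (3, 23, true), (2, 19, true), (1, 18, true), (4, 32, true), (3, 31, true), (6, 43, true), (7, 44, true), (6, 42, true)],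
    [(1, 3, true), (0, 46, true), (3, 48, true), (6, 51, true), (8, 53, true), (2, 28, true), (4, 34, true), (3, 33, true), (5, 38, true), (4, 37, true), (6, 41, true), (5, 40, true), (7, 43, true), (6, 42, true), (6, 44, true)]),
  ([9, 3, 2], [(0, 48, true), (3, 47, true), (2, 5, true), (1, 4, true), (0, 3, true), (3, 34, true), (2, 32, true), (4, 44, true), (3, 36, true), (4, 39, true), (4, 38, true), (3, 35, true), (3, 44, true), (3, 41, true), (4, 44, true)],
    [(1, 18, true), (0, 47, true), (3, 48, true), (6, 50, true), (10, 51, true), (2, 29, true), (1, 27, true), (3, 34, true), (2, 32, true), (4, 44, true), (3, 36, true), (4, 36, true), (3, 35, true), (3, 41, true), (4, 41, true), (3, 39, true), (3, 43, true), (4, 44, true), (3, 40, true), (4, 42, true)]),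
  ([9, 4, 2], [(0, 49, true), (3, 47, true), (2, 8, true), (1, 6, true), (0, 3, true), (3, 41, true), (2, 39, true), (2, 44, true)],
    [(1, 19, true), (0, 47, true), (3, 49, true), (6, 52, true), (2, 29, true), (1, 27, true), (3, 41, true), (2, 39, true), (2, 44, true)]),
  ([9, 4, 4], [(0, 49, true), (3, 49, true), (2, 29, true), (1, 27, true), (0, 24, true), (1, 41, true), (0, 39, true), (0, 44, true)],
    [(1, 30, true)]),
  ([9, 7, 2], [(0, 52, true), (2, 47, true), (1, 8, true), (0, 6, true), (2, 41, true), (1, 39, true), (1, 44, true)],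
    [(1, 22, true), (0, 47, true), (3, 52, true), (2, 41, true), (1, 39, true), (1, 44, true)]),
  ([10, 0, 3, 0, 3], [(0, 54, true), (5, 54, true), (4, 7, true), (3, 4, true), (2, 3, true), (1, 2, true), (0, 0, true), (1, 29, true), (2, 41, true), (3, 44, true), (2, 32, true), (4, 38, true), (3, 36, true), (5, 41, true), (4, 39, true), (4, 44, true), (5, 23, true), (4, 22, true), (3, 20, true), (2, 19, true), (1, 18, true), (0, 17, true), (2, 32, true), (1, 31, true), (4, 43, true), (5, 38, true), (4, 37, true), (3, 36, true), (2, 35, true), (2, 41, true), (3, 43, true), (4, 44, true), (3, 42, true), (3, 29, true), (2, 27, true), (1, 25, true), (0, 24, true), (2, 34, true), (1, 32, true), (0, 30, true), (1, 44, true)],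
    [(2, 3, true), (1, 0, true), (3, 29, true), (2, 27, true), (1, 24, true), (0, 59, true), (2, 61, true), (1, 43, true), (2, 44, true)]),
  ([10, 1, 0, 3], [(0, 55, true), (5, 54, true), (4, 8, true), (3, 7, true), (2, 6, true), (1, 5, true), (0, 4, true), (4, 38, true), (3, 36, true), (2, 35, true), (2, 41, true), (3, 44, true), (3, 41, true), (2, 39, true), (2, 43, true), (3, 44, true), (3, 23, true), (2, 22, true), (1, 19, true), (3, 42, true), (3, 29, true), (2, 25, true), (4, 34, true), (3, 30, true), (3, 43, true)],
    [(1, 1, true), (4, 27, true), (6, 44, false), (6, 42, false), (7, 43, false), (6, 43, false), (5, 41, false), (5, 35, false), (6, 36, false), (7, 37, false), (8, 44, false), (7, 43, false), (5, 30, false), (6, 31, false), (7, 32, false), (8, 33, false), (9, 34, false), (8, 43, false), (5, 31, false), (6, 32, false), (3, 18, false), (4, 19, false), (2, 11, false), (0, 54, true), (5, 55, true), (10, 56, true), (12, 57, true), (17, 58, true), (22, 60, true), (23, 61, true), (4, 33, true), (3, 30, true), (3, 37, true), (4, 40, true), (5,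 42, true), (5, 16, true), (4, 14, true), (3, 13, true), (2, 11, true), (1, 10, true), (3, 28, true), (5, 34, true), (4, 33, true), (6, 38, true), (5, 37, true), (7, 44, true), (6, 40, true), (7, 42, true), (7, 44, true), (6, 36, true), (5, 35, true), (5, 41, true), (6, 16, true), (5, 14, true), (4, 12, true), (3, 11, true), (2, 10, true), (1, 9, true), (2, 28, true), (4, 34, true), (3, 33, true), (5, 34, true), (4, 33, true), (3, 30, true), (4, 41, true), (3, 40, true), (5, 43, true), (4, 42, true), (4, 44, true), (4, 23, true), (3, 21, true), (2, 18, true), (1, 17, true), (3, 39, true), (3, 44, true), (2, 31, true), (3, 35, true), (3, 43, true), (4, 23, true), (3, 22, true), (2, 19, true), (1, 18, true), (4, 32, true), (3, 31, true), (6, 43, true), (7, 43, true), (6, 42, true), (6, 44, true), (5, 32, true), (4, 31, true), (3, 30, true), (5, 38, true), (4, 36, true), (3, 35, true), (3, 41, true), (4, 44, true), (3, 39, true), (3, 42, true)]),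
  ([10, 1, 1], [(0, 55, true), (5, 55, true), (4, 34, true), (3, 33, true), (2, 32, true), (1, 31, true), (0, 30, true), (2, 43, true), (3, 44, true), (2, 37, true), (1, 36, true), (0, 35, true), (0, 41, true), (1, 43, true), (2, 41, true), (1, 40, true), (0, 39, true), (1, 43, true), (0, 42, true), (0, 44, true)],
    [(1, 9, true)]),
  ([10, 2, 0, 3], [(0, 56, true), (2, 54, true), (1, 5, true), (0, 1, true), (3, 36, true), (5, 23, true), (4, 21, true), (3, 20, true), (2, 17, true), (4, 44, true), (3, 27, true), (2, 26, true), (4, 41, true), (5, 34, true), (4, 32, true), (3, 31, true), (6, 44, true)],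
    [(1, 2, true), (3, 29, true), (4, 39, false), (5, 41, false), (4, 41, false), (4, 35, false), (5, 36, false), (2, 18, false), (0, 54, true), (5, 56, true), (7, 58, true), (12, 59, true), (4, 15, true), (3, 12, true), (2, 11, true), (1, 10, true), (3, 28, true), (5, 34, true), (4, 33, true), (6, 34, true), (5, 33, true), (4, 30, true), (5, 43, true), (4, 42, true), (4, 38, true), (5, 23, true), (4, 20, true), (3, 18, true), (2, 17, true), (4, 36, true), (3, 35, true), (3, 41, true), (4, 44, true), (3, 32, true), (5, 38, true), (4, 36, true), (6, 41, true), (5, 39, true), (5, 43, true), (6, 41, true), (5, 40, true), (7, 44, true)]),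
  ([10, 2, 1], [(0, 56, true), (2, 55, true), (1, 31, true), (2, 35, true), (2, 41, true), (3, 43, true), (4, 44, true)],
    [(1, 10, true), (0, 55, true), (5, 56, true), (7, 60, true), (4, 16, true), (3, 15, true), (2, 14, true), (1, 13, true), (0, 12, true), (3, 41, true), (4, 43, true), (5, 44, true), (4, 42, true), (4, 38, true), (3, 36, true), (2, 35, true), (2, 41, true), (3, 44, true)]),
  ([10, 2, 2], [(0, 56, true), (2, 56, true), (1, 13, true), (0, 9, true), (1, 38, true), (0, 35, true), (0, 44, true)],
    [(1, 17, true)]),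
  ([10, 5, 1], [(0, 58, true), (5, 55, true), (4, 33, true), (3, 32, true), (2, 31, true), (1, 30, true), (3, 43, true), (4, 38, true), (3, 37, true), (2, 36, true), (1, 35, true), (1, 41, true), (2, 43, true), (3, 44, true), (2, 40, true), (1, 39, true), (1, 42, true)],
    [(1, 13, true), (0, 55, true), (5, 58, true), (10, 61, true), (4, 23, true), (3, 22, true), (2, 21, true), (1, 20, true), (0, 19, true), (2, 37, true), (3, 40, true), (5, 43, true), (4, 42, true), (4, 44, true), (3, 32, true), (2, 31, true), (1, 30, true), (3, 38, true), (2, 36, true), (1, 35, true), (1, 41, true), (2, 44, true), (1, 39, true), (1, 42, true)]),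
  ([11, 3, 1], [(0, 63, true), (3, 62, true), (2, 16, true), (1, 12, true), (0, 11, true), (2, 30, true), (2, 44, true)],
    [(1, 11, true), (0, 62, true), (2, 63, true), (5, 64, true), (1, 29, true), (2, 34, true), (3, 44, true), (2, 30, true)]),
  ([11, 5, 1], [(0, 65, true), (3, 62, true), (2, 16, true), (1, 13, true), (0, 12, true), (3, 44, true)],
    [(1, 13, true), (0, 62, true), (2, 65, true), (5, 68, true), (1, 34, true), (2, 38, true), (3, 44, true)]),
  ([11, 6, 1], [(0, 66, true), (3, 62, true), (2, 14, true), (1, 13, true), (0, 11, true), (4, 41, true), (5, 43, true), (6, 44, true)],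
    [(1, 14, true), (0, 62, true), (2, 66, true), (5, 67, true), (7, 68, true), (1, 29, true), (2, 38, true), (3, 41, true), (4, 34, true), (3, 32, true), (2, 31, true), (5, 44, true)]),
  ([11, 6, 3], [(0, 66, true), (3, 63, true), (2, 27, true), (1, 26, true), (0, 24, true), (1, 41, true), (2, 34, true), (1, 32, true), (0, 31, true), (3, 44, true)],
    [(1, 27, true), (0, 63, true), (3, 66, true), (2, 29, true), (1, 25, true), (0, 24, true), (1, 38, true), (2, 41, true)]),
  ([2, 0, 6], [(0, 45, true), (1, 21, true)],
    [(0, 2, true), (2, 41, true)])]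

/-- Derivations closing the normal words, part 0. -/
def multClosing0 : List (List (List (ℕ × ℕ × Bool) × ℕ)) := [
  [([(6, 8, true), (5, 7, true), (4, 5, true), (3, 4, true), (2, 3, true), (1, 2, true), (0, 1, true), (3, 21, true), (2, 17, true), (3, 44, true), (2, 27, true), (3, 39, true), (3, 34, true), (4, 38, true), (5, 41, true), (6, 44, true), (5, 36, true), (4, 35, true), (4, 41, true), (5, 44, true), (6, 44, true)], 130), ([(6, 16, true), (5, 15, true), (4, 13, true), (3, 12, true), (2, 11, true), (1, 10, true), (0, 9, true), (1, 28, true), (3, 34, true), (2, 33, true), (4, 34, true), (3, 33, true), (2, 30, true), (3, 38, true), (2, 37, true), (4, 44, true), (3, 42, true)], 371), ([(6, 23, true), (5, 22, true), (4, 20, true), (3, 19, true), (2, 18, true), (1, 17, true), (3, 32, true), (2, 31, true), (5, 43, true), (6, 38, true), (5, 37, true), (4, 36, true), (3, 35, true), (3, 41, true), (4, 43, true), (5, 44, true), (4, 42, true)], 183), ([(6, 29, true), (5, 28, true), (4, 26, true), (3, 25, true), (2, 24, true), (4, 43, true), (5, 44, true)], 318),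 ([(6, 34, true), (5, 33, true), (4, 31, true), (3, 30, true)], 231), ([(6, 38, true), (5, 37, true), (4, 35, true), (4, 43, true), (5, 44, true)], 153), ([(6, 41, true), (5, 40, true)], 337), ([(6, 43, true), (5, 42, true)], 494), ([(6, 44, true)], 373)],
  [([(4, 7, true), (3, 6, true), (2, 4, true), (1, 2, true), (0, 1, true), (3, 21, true), (2, 17, true), (3, 44, true), (2, 32, true), (4, 38, true), (3, 36, true), (5, 41, true), (4, 39, true), (4, 44, true)], 470), ([(4, 15, true), (3, 14, true), (2, 12, true), (1, 10, true), (0, 9, true), (1, 33, true), (2, 40, true), (3, 42, true), (3, 43, true)], 375), ([(4, 22, true), (3, 21, true), (2, 19, true), (1, 17, true), (2, 40, true), (4, 43, true), (3, 42, true)], 207), ([(4, 28, true), (3, 27, true), (2, 25, true)], 482), ([(4, 33, true), (3, 32, true), (2, 30, true), (3, 43, true)], 491), ([(4, 37, true), (3, 36, true)], 367), ([(4, 40, true), (3, 39, true)], 336), ([(4, 42, true)], 226), ([], 372)],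
  [([(5, 8, true), (4, 7, true), (3, 5, true), (2, 4, true), (1, 3, true), (0, 2, true), (2, 29, true), (3, 41, true), (4, 44, true), (3, 32, true), (5, 38, true), (4, 36, true), (6, 41, true), (5, 39, true), (5, 44, true), (4, 35, true), (4, 44, true), (5, 44, true)], 293), ([(5, 16, true), (4, 15, true), (3, 13, true), (2, 12, true), (1, 11, true), (0, 10, true), (2, 28, true), (4, 34, true), (3, 33, true), (5, 34, true), (4, 33, true), (3, 30, true), (4, 38, true), (3, 37, true), (5, 44, true), (4, 42, true)], 368), ([(5, 23, true), (4, 22, true), (3, 20, true), (2, 19, true), (1, 18, true), (0, 17, true), (2, 32, true), (1, 31, true), (4, 43, true), (5, 38, true), (4, 37, true), (3, 36, true), (2, 35, true), (2, 41, true), (3, 43, true), (4, 44, true), (3, 42, true)], 181), ([(5, 29, true), (4, 28, true), (3, 26, true), (2, 25, true), (1, 24, true), (3, 43, true), (4, 44, true)], 167), ([(5, 34, true), (4, 33, true), (3, 31, true), (2, 30, true)], 228), ([(5, 38, true), (4, 37, true), (3, 35, true), (3, 43, true), (4, 44, true)], 365), ([(5, 41, true),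 (4, 40, true)], 195), ([(5, 43, true), (4, 42, true)], 493), ([(5, 44, true)], 374)],
  [([(3, 7, true), (2, 6, true), (1, 4, true), (0, 2, true), (2, 34, true), (3, 38, true), (4, 41, true), (5, 44, true), (4, 39, true)], 269), ([(3, 15, true), (2, 14, true), (1, 12, true), (0, 10, true), (2, 33, true), (3, 40, true), (4, 42, true), (4, 43, true)], 372), ([(3, 22, true), (2, 21, true), (1, 19, true), (0, 17, true), (1, 40, true), (3, 43, true), (2, 42, true)], 303), ([(3, 28, true), (2, 27, true), (1, 25, true)], 379), ([(3, 33, true), (2, 32, true), (1, 30, true), (2, 43, true)], 488), ([(3, 37, true), (2, 36, true)], 155), ([(3, 40, true), (2, 39, true)], 194), ([(3, 42, true)], 224), ([], 375)],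
  [([(2, 6, true), (1, 2, true), (0, 1, true), (3, 21, true), (2, 17, true), (3, 44, true), (2, 39, true)], 253), ([(2, 14, true), (1, 10, true), (0, 9, true), (1, 40, true), (2, 42, true)], 370), ([(2, 21, true), (1, 17, true)], 301), ([(2, 27, true)], 314), ([(2, 32, true)], 495), ([(2, 36, true)], 361), ([(2, 39, true)], 257), ([], 230), ([], 369)],
  [([(3, 5, true), (2, 3, true), (1, 2, true), (0, 1, true), (3, 21, true), (2, 17, true), (3, 44, true), (2, 27, true), (3, 39, true), (3, 38, true), (4, 44, true)], 214), ([(3, 13, true), (2, 11, true), (1, 10, true), (0, 9, true), (1, 28, true), (3, 34, true), (2, 33, true), (4, 38, true), (3, 37, true), (5, 44, true)], 374), ([(3, 20, true), (2, 18, true), (1, 17, true), (3, 36, true), (2, 35, true), (2, 41, true)], 461), ([(3, 26, true), (2, 24, true)], 486), ([(3, 31, true)], 227), ([(3, 35, true)], 159), ([], 256), ([], 490), ([], 368)],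
  [([(1, 6, true), (0, 2, true), (2, 41, true)], 422), ([(1, 14, true), (0, 10, true), (2, 40, true), (3, 42, true)], 369), ([(1, 21, true), (0, 17, true)], 205), ([(1, 27, true)], 162), ([(1, 32, true)], 492), ([(1, 36, true)], 157), ([(1, 39, true)], 411), ([], 229), ([], 370)],
  [([(2, 5, true), (1, 3, true), (0, 2, true), (2, 29, true), (3, 41, true), (4, 44, true), (3, 36, true)], 347), ([(2, 13, true), (1, 11, true), (0, 10, true), (2, 28, true), (4, 34, true), (3, 33, true), (5, 38, true), (4, 37, true), (6, 44, true)], 373), ([(2, 20, true), (1, 18, true), (0, 17, true), (2, 36, true), (1, 35, true), (1, 41, true)], 463), ([(2, 26, true), (1, 24, true)], 383), ([(2, 31, true)], 225), ([(2, 35, true)], 363), ([], 410), ([], 489), ([], 371)],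
  [([(3, 6, true), (2, 2, true), (1, 1, true), (0, 0, true), (2, 21, true), (1, 17, true), (2, 44, true), (1, 39, true)], 237), ([(3, 14, true), (2, 10, true), (1, 9, true), (2, 40, true), (3, 42, true)], 422), ([(3, 21, true), (2, 17, true)], 52), ([(3, 27, true)], 402), ([(3, 32, true)], 397), ([(3, 36, true)], 294), ([(3, 39, true)], 147), ([], 388), ([], 418)],
  [([(4, 5, true), (3, 3, true), (2, 2, true), (1, 1, true), (0, 0, true), (2, 21, true), (1, 17, true), (2, 44, true), (1, 27, true), (2, 39, true), (2, 38, true), (3, 44, true)], 88), ([(4, 13, true), (3, 11, true), (2, 10, true), (1, 9, true), (2, 28, true), (4, 34, true), (3, 33, true), (5, 38, true), (4, 37, true), (6, 44, true)], 421), ([(4, 20, true), (3, 18, true), (2, 17, true), (4, 36, true), (3, 35, true), (3, 41, true)], 58), ([(4, 26, true), (3, 24, true)], 276), ([(4, 31, true)], 391), ([(4, 35, true)], 96), ([], 146), ([], 399), ([], 419)],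
  [([(5, 7, true), (4, 6, true), (3, 4, true), (2, 2, true), (1, 1, true), (0, 0, true), (2, 21, true), (1, 17, true), (2, 44, true), (1, 32, true), (3, 38, true), (2, 36, true), (4, 41, true), (3, 39, true), (3, 44, true)], 320), ([(5, 15, true), (4, 14, true), (3, 12, true), (2, 10, true), (1, 9, true), (2, 33, true), (3, 40, true), (4, 42, true), (4, 43, true)], 420), ([(5, 22, true), (4, 21, true), (3, 19, true), (2, 17, true), (3, 40, true), (5, 43, true), (4, 42, true)], 184), ([(5, 28, true), (4, 27, true), (3, 25, true)], 274), ([(5, 33, true), (4, 32, true), (3, 30, true), (4, 43, true)], 398), ([(5, 37, true), (4, 36, true)], 288), ([(5, 40, true), (4, 39, true)], 170), ([(5, 42, true)], 390), ([], 417)],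
  [([(7, 8, true), (6, 7, true), (5, 5, true), (4, 4, true), (3, 3, true), (2, 2, true), (1, 1, true), (0, 0, true), (2, 21, true), (1, 17, true), (2, 44, true), (1, 27, true), (2, 39, true), (2, 34, true), (3, 38, true), (4, 41, true), (5, 44, true), (4, 36, true), (3, 35, true), (3, 41, true), (4, 44, true), (5, 44, true)], 84), ([(7, 16, true), (6, 15, true), (5, 13, true), (4, 12, true), (3, 11, true), (2, 10, true), (1, 9, true), (2, 28, true), (4, 34, true), (3, 33, true), (5, 34, true), (4, 33, true), (3, 30, true), (4, 38, true), (3, 37, true), (5, 44, true), (4, 42, true)], 423), ([(7, 23, true), (6, 22, true), (5, 20, true), (4, 19, true), (3, 18, true), (2, 17, true), (4, 32, true), (3, 31, true), (6, 43, true), (7, 38, true), (6, 37, true), (5, 36, true), (4, 35, true), (4, 41, true), (5, 43, true), (6, 44, true), (5, 42, true)], 136), ([(7, 29, true), (6, 28, true), (5, 26, true), (4, 25, true), (3, 24, true), (5, 43, true), (6, 44, true)], 405), ([(7, 34, true), (6, 33, true), (5, 31, true), (4, 30, true)], 389), ([(7, 38, true), (6, 37, true),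 (5, 35, true), (5, 43, true), (6, 44, true)], 102), ([(7, 41, true), (6, 40, true)], 171), ([(7, 43, true), (6, 42, true)], 396), ([(7, 44, true)], 416)],
  [([(3, 5, true), (2, 3, true), (1, 2, true), (0, 0, true), (1, 29, true), (2, 41, true), (3, 44, true), (2, 36, true)], 192), ([(3, 13, true), (2, 11, true), (1, 10, true), (3, 28, true), (5, 34, true), (4, 33, true), (6, 38, true), (5, 37, true), (7, 44, true)], 416), ([(3, 20, true), (2, 18, true), (1, 17, true), (3, 36, true), (2, 35, true), (2, 41, true)], 56), ([(3, 26, true), (2, 24, true)], 117), ([(3, 31, true)], 386), ([(3, 35, true)], 290), ([], 71), ([], 395), ([], 423)],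
  [([(2, 6, true), (1, 2, true), (0, 0, true), (1, 41, true)], 370), ([(2, 14, true), (1, 10, true), (3, 40, true), (4, 42, true)], 418), ([(2, 21, true), (1, 17, true)], 188), ([(2, 27, true)], 267), ([(2, 32, true)], 392), ([(2, 36, true)], 100), ([(2, 39, true)], 70), ([], 384), ([], 422)],
  [([(4, 7, true), (3, 6, true), (2, 4, true), (1, 2, true), (0, 0, true), (1, 34, true), (2, 38, true), (3, 41, true), (4, 44, true), (3, 39, true)], 167), ([(4, 15, true), (3, 14, true), (2, 12, true), (1, 10, true), (3, 33, true), (4, 40, true), (5, 42, true), (5, 43, true)], 417), ([(4, 22, true), (3, 21, true), (2, 19, true), (1, 17, true), (2, 40, true), (4, 43, true), (3, 42, true)], 48), ([(4, 28, true), (3, 27, true), (2, 25, true)], 114), ([(4, 33, true), (3, 32, true), (2, 30, true), (3, 43, true)], 394), ([(4, 37, true), (3, 36, true)], 98), ([(4, 40, true), (3, 39, true)], 351), ([(4, 42, true)], 387), ([], 420)],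
  [([(6, 8, true), (5, 7, true), (4, 5, true), (3, 4, true), (2, 3, true), (1, 2, true), (0, 0, true), (1, 29, true), (2, 41, true), (3, 44, true), (2, 32, true), (4, 38, true), (3, 36, true), (5, 41, true), (4, 39, true), (4, 44, true), (3, 35, true), (3, 44, true), (4, 44, true)], 365), ([(6, 16, true), (5, 15, true), (4, 13, true), (3, 12, true), (2, 11, true), (1, 10, true), (3, 28, true), (5, 34, true), (4, 33, true), (6, 34, true), (5, 33, true), (4, 30, true), (5, 38, true), (4, 37, true), (6, 44, true), (5, 42, true)], 419), ([(6, 23, true), (5, 22, true), (4, 20, true), (3, 19, true), (2, 18, true), (1, 17, true), (3, 32, true), (2, 31, true), (5, 43, true), (6, 38, true), (5, 37, true), (4, 36, true), (3, 35, true), (3, 41, true), (4, 43, true), (5, 44, true), (4, 42, true)], 138), ([(6, 29, true), (5, 28, true), (4, 26, true), (3, 25, true), (2, 24, true), (4, 43, true), (5, 44, true)], 269), ([(6, 34, true), (5, 33, true), (4, 31, true), (3, 30, true)], 385), ([(6, 38, true), (5, 37, true), (4, 35, true), (4, 43, true), (5, 44, true)], 293), ([(6,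 41, true), (5, 40, true)], 350), ([(6, 43, true), (5, 42, true)], 393), ([(6, 44, true)], 421)],
  [([(1, 5, true), (0, 3, true), (3, 38, true), (2, 36, true), (4, 44, true)], 33), ([(1, 13, true), (0, 11, true)], 206), ([(1, 20, true), (0, 18, true), (3, 36, true), (2, 35, true), (2, 41, true)], 382), ([(1, 26, true), (0, 24, true)], 462), ([(1, 31, true)], 90), ([(1, 35, true)], 121), ([], 510), ([], 298), ([], 204)],
  [([(0, 6, true)], 334), ([(0, 14, true)], 202), ([(0, 21, true)], 370), ([(0, 27, true)], 83), ([(0, 32, true)], 303), ([(0, 36, true)], 477), ([(0, 39, true)], 511), ([], 95), ([], 205)],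
  [([(3, 5, true), (2, 4, true), (1, 3, true), (0, 1, true), (3, 27, true), (4, 39, true), (4, 34, true), (5, 38, true), (6, 41, true), (7, 44, true), (6, 36, true), (5, 35, true), (5, 41, true), (6, 44, true)], 112), ([(3, 13, true), (2, 12, true), (1, 11, true), (0, 9, true), (1, 30, true)], 204), ([(3, 20, true), (2, 19, true), (1, 18, true), (4, 32, true), (3, 31, true), (6, 43, true), (7, 38, true), (6, 37, true), (5, 36, true), (4, 35, true), (4, 41, true), (5, 43, true), (6, 44, true)], 319), ([(3, 26, true), (2, 25, true), (1, 24, true)], 182), ([(3, 31, true), (2, 30, true)], 88), ([(3, 35, true)], 475), ([], 306), ([], 297), ([], 206)],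
  [([(2, 6, true), (1, 4, true), (0, 1, true), (3, 32, true), (5, 38, true), (4, 36, true), (6, 41, true), (5, 39, true), (5, 44, true)], 357), ([(2, 14, true), (1, 12, true), (0, 9, true)], 201), ([(2, 21, true), (1, 19, true), (3, 40, true)], 372), ([(2, 27, true), (1, 25, true)], 27), ([(2, 32, true), (1, 30, true)], 301), ([(2, 36, true)], 127), ([(2, 39, true)], 307), ([], 93), ([], 207)],
  [([(2, 7, true), (1, 6, true), (0, 4, true), (4, 41, true), (3, 39, true), (3, 43, true), (4, 44, true)], 61), ([(2, 15, true), (1, 14, true), (0, 12, true), (4, 43, true), (3, 42, true)], 207), ([(2, 22, true), (1, 21, true), (0, 19, true), (2, 40, true), (4, 43, true), (3, 42, true)], 492), ([(2, 28, true), (1, 27, true), (0, 25, true)], 459), ([(2, 33, true), (1, 32, true), (0, 30, true), (1, 43, true)], 299), ([(2, 37, true), (1, 36, true)], 473), ([(2, 40, true), (1, 39, true)], 238), ([(2, 42, true)], 91), ([], 201)],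
  [([(4, 8, true), (3, 7, true), (2, 5, true), (1, 4, true), (0, 3, true), (3, 34, true), (2, 32, true), (4, 44, true), (3, 36, true), (4, 39, true), (4, 38, true), (3, 35, true), (3, 44, true), (3, 43, true), (4, 44, true)], 454), ([(4, 16, true), (3, 15, true), (2, 13, true), (1, 12, true), (0, 11, true), (2, 30, true), (3, 43, true), (4, 44, true)], 203), ([(4, 23, true), (3, 22, true), (2, 20, true), (1, 19, true), (0, 18, true), (3, 32, true), (2, 31, true), (5, 43, true), (6, 38, true), (5, 37, true), (4, 36, true), (3, 35, true), (3, 41, true), (4, 43, true), (5, 44, true), (4, 42, true)], 316), ([(4, 29, true), (3, 28, true), (2, 26, true), (1, 25, true), (0, 24, true), (2, 43, true), (3, 44, true)], 86), ([(4, 34, true), (3, 33, true), (2, 31, true), (1, 30, true)], 94), ([(4, 38, true), (3, 37, true), (2, 35, true), (2, 43, true), (3, 44, true)], 125), ([(4, 41, true), (3, 40, true)], 239), ([(4, 43, true), (3, 42, true)], 302), ([(4, 44, true)], 200)],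
  [([(4, 8, true), (3, 7, true), (2, 5, true), (1, 3, true), (0, 1, true), (3, 27, true), (4, 39, true), (4, 38, true), (5, 44, true), (6, 44, true)], 399), ([(4, 16, true), (3, 15, true), (2, 13, true), (1, 11, true), (0, 9, true), (3, 43, true), (4, 44, true)], 200), ([(4, 23, true), (3, 22, true), (2, 20, true), (1, 18, true), (4, 36, true), (3, 35, true), (3, 41, true), (4, 43, true), (5, 44, true)], 380), ([(4, 29, true), (3, 28, true), (2, 26, true), (1, 24, true), (2, 43, true), (3, 44, true)], 31), ([(4, 34, true), (3, 33, true), (2, 31, true)], 92), ([(4, 38, true), (3, 37, true), (2, 35, true), (2, 43, true), (3, 44, true)], 478), ([(4, 41, true), (3, 40, true)], 218), ([(4, 43, true), (3, 42, true)], 300), ([(4, 44, true)], 203)],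
  [([(2, 7, true), (1, 6, true), (0, 1, true), (3, 39, true)], 69), ([(2, 15, true), (1, 14, true), (0, 9, true), (2, 43, true), (1, 42, true)], 205), ([(2, 22, true), (1, 21, true), (3, 43, true)], 491), ([(2, 28, true), (1, 27, true)], 179), ([(2, 33, true), (1, 32, true), (3, 43, true)], 296), ([(2, 37, true), (1, 36, true)], 123), ([(2, 40, true), (1, 39, true)], 219), ([(2, 42, true)], 89), ([], 202)],
  [([(1, 5, true), (0, 4, true), (4, 38, true), (3, 36, true), (2, 35, true), (2, 41, true), (3, 44, true)], 48), ([(1, 13, true), (0, 12, true)], 182), ([(1, 20, true), (0, 19, true), (2, 37, true)], 378), ([(1, 26, true), (0, 25, true)], 302), ([(1, 31, true), (0, 30, true)], 82), ([(1, 35, true)], 308), ([], 323), ([], 458), ([], 180)],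
  [([(2, 6, true), (1, 4, true), (0, 3, true), (3, 34, true), (2, 32, true), (4, 44, true), (3, 36, true), (4, 39, true), (4, 41, true)], 245), ([(2, 14, true), (1, 12, true), (0, 11, true), (2, 30, true)], 179), ([(2, 21, true), (1, 19, true), (0, 18, true), (3, 32, true), (2, 31, true), (5, 43, true), (6, 41, true), (5, 40, true), (4, 39, true), (5, 44, true)], 374), ([(2, 27, true), (1, 25, true), (0, 24, true)], 91), ([(2, 32, true), (1, 30, true)], 463), ([(2, 36, true)], 216), ([(2, 39, true)], 322), ([], 87), ([], 181)],
  [([(2, 5, true), (1, 4, true), (0, 1, true), (3, 32, true), (5, 38, true), (4, 36, true), (6, 41, true), (5, 39, true), (5, 44, true), (4, 35, true), (4, 44, true)], 64), ([(2, 13, true), (1, 12, true), (0, 9, true)], 180), ([(2, 20, true), (1, 19, true), (3, 37, true)], 483), ([(2, 26, true), (1, 25, true)], 206), ([(2, 31, true), (1, 30, true)], 80), ([(2, 35, true)], 223), ([], 127), ([], 456), ([], 182)],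
  [([(3, 6, true), (2, 4, true), (1, 3, true), (0, 1, true), (3, 27, true), (4, 39, true), (4, 34, true), (5, 38, true), (6, 41, true), (7, 44, true), (6, 39, true)], 391), ([(3, 14, true), (2, 12, true), (1, 11, true), (0, 9, true), (1, 30, true)], 176), ([(3, 21, true), (2, 19, true), (1, 18, true), (4, 32, true), (3, 31, true), (6, 43, true), (7, 41, true), (6, 40, true), (5, 39, true), (6, 44, true)], 373), ([(3, 27, true), (2, 25, true), (1, 24, true)], 19), ([(3, 32, true), (2, 30, true)], 461), ([(3, 36, true)], 306), ([(3, 39, true)], 126), ([], 84), ([], 183)],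
  [([(2, 8, true), (1, 7, true), (0, 5, true), (2, 43, true), (3, 44, true)], 427), ([(2, 16, true), (1, 15, true), (0, 13, true), (2, 43, true), (3, 44, true)], 178), ([(2, 23, true), (1, 22, true), (0, 20, true)], 484), ([(2, 29, true), (1, 28, true), (0, 26, true), (2, 43, true), (3, 44, true)], 94), ([(2, 34, true), (1, 33, true), (0, 31, true)], 86), ([(2, 38, true), (1, 37, true), (0, 35, true), (0, 43, true), (1, 44, true)], 305), ([(2, 41, true), (1, 40, true)], 499), ([(2, 43, true), (1, 42, true)], 462), ([(2, 44, true)], 177)],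
  [([(2, 7, true), (1, 6, true), (0, 3, true), (3, 41, true), (2, 39, true), (2, 43, true), (3, 44, true)], 109), ([(2, 15, true), (1, 14, true), (0, 11, true), (5, 43, true), (4, 42, true)], 183), ([(2, 22, true), (1, 21, true), (0, 18, true), (3, 39, true), (3, 43, true)], 228), ([(2, 28, true), (1, 27, true), (0, 24, true)], 299), ([(2, 33, true), (1, 32, true), (3, 43, true)], 459), ([(2, 37, true), (1, 36, true)], 221), ([(2, 40, true), (1, 39, true)], 498), ([(2, 42, true)], 83), ([], 176)],
  [([(3, 7, true), (2, 6, true), (1, 3, true), (0, 1, true), (3, 27, true), (4, 39, true), (4, 41, true), (5, 43, true), (6, 44, true)], 119), ([(3, 15, true), (2, 14, true), (1, 11, true), (0, 9, true), (4, 43, true), (3, 42, true)], 181), ([(3, 22, true), (2, 21, true), (1, 18, true), (4, 39, true), (4, 43, true)], 231), ([(3, 28, true), (2, 27, true), (1, 24, true)], 202), ([(3, 33, true), (2, 32, true), (4, 43, true)], 457), ([(3, 37, true), (2, 36, true)], 311), ([(3, 40, true), (2, 39, true)], 478), ([(3, 42, true)], 81), ([], 179)],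
  [([(3, 8, true), (2, 7, true), (1, 5, true), (0, 1, true), (3, 36, true), (5, 43, true), (6, 44, true)], 285), ([(3, 16, true), (2, 15, true), (1, 13, true), (0, 9, true), (1, 43, true), (2, 44, true)], 177), ([(3, 23, true), (2, 22, true), (1, 20, true)], 381), ([(3, 29, true), (2, 28, true), (1, 26, true), (3, 43, true), (4, 44, true)], 22), ([(3, 34, true), (2, 33, true), (1, 31, true)], 85), ([(3, 38, true), (2, 37, true), (1, 35, true), (1, 43, true), (2, 44, true)], 219), ([(3, 41, true), (2, 40, true)], 479), ([(3, 43, true), (2, 42, true)], 460), ([(3, 44, true)], 178)]]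

/-- Derivations closing the normal words, part 1. -/
def multClosing1 : List (List (List (ℕ × ℕ × Bool) × ℕ)) := [
  [([(0, 0, true)], 511), ([], 253), ([], 70), ([], 450), ([], 443), ([], 133), ([], 334), ([], 243), ([], 255)],
  [([(3, 6, true), (2, 5, true), (1, 3, true), (0, 0, true), (2, 38, true), (1, 36, true), (3, 44, true), (2, 39, true)], 16), ([(3, 14, true), (2, 13, true), (1, 11, true), (5, 41, true), (6, 43, true), (7, 44, true)], 251), ([(3, 21, true), (2, 20, true), (1, 18, true), (4, 36, true), (3, 35, true), (3, 41, true), (4, 41, true), (3, 39, true), (3, 44, true)], 101), ([(3, 27, true), (2, 26, true), (1, 24, true), (2, 41, true)], 438), ([(3, 32, true), (2, 31, true)], 245), ([(3, 36, true), (2, 35, true), (2, 41, true)], 56), ([(3, 39, true)], 335), ([], 445), ([], 254)],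
  [([(5, 8, true), (4, 6, true), (3, 5, true), (2, 3, true), (1, 1, true), (0, 0, true), (2, 27, true), (3, 39, true), (3, 38, true), (4, 44, true)], 339), ([(5, 16, true), (4, 14, true), (3, 13, true), (2, 11, true), (1, 9, true), (4, 41, true), (5, 43, true), (6, 44, true)], 248), ([(5, 23, true), (4, 21, true), (3, 20, true), (2, 18, true), (5, 36, true), (4, 35, true), (4, 41, true), (5, 41, true), (4, 39, true), (4, 44, true)], 96), ([(5, 29, true), (4, 27, true), (3, 26, true), (2, 24, true), (3, 41, true), (4, 44, true)], 110), ([(5, 34, true), (4, 32, true), (3, 31, true), (6, 44, true)], 246), ([(5, 38, true), (4, 36, true), (3, 35, true), (3, 41, true), (4, 44, true)], 134), ([(5, 41, true), (4, 39, true)], 53), ([(5, 43, true)], 446), ([(5, 44, true)], 252)],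
  [([(2, 8, true), (1, 1, true), (0, 0, true)], 369), ([(2, 16, true), (1, 9, true)], 255), ([(2, 23, true)], 174), ([(2, 29, true)], 467), ([(2, 34, true)], 441), ([(2, 38, true)], 59), ([(2, 41, true)], 52), ([(2, 43, true)], 240), ([(2, 44, true)], 253)],
  [([(7, 8, true), (6, 7, true), (5, 6, true), (4, 5, true), (3, 4, true), (2, 3, true), (1, 1, true), (0, 0, true), (2, 27, true), (3, 39, true), (3, 34, true), (4, 38, true), (5, 41, true), (6, 44, true), (5, 36, true), (4, 35, true), (4, 41, true), (5, 44, true), (4, 39, true), (5, 44, true)], 153), ([(7, 16, true), (6, 15, true), (5, 14, true), (4, 13, true), (3, 12, true), (2, 11, true), (1, 9, true), (2, 30, true), (3, 41, true), (4, 43, true), (5, 44, true), (4, 42, true)], 254), ([(7, 23, true), (6, 22, true), (5, 21, true), (4, 20, true), (3, 19, true), (2, 18, true), (5, 32, true), (4, 31, true), (7, 43, true), (8, 38, true), (7, 37, true), (6, 36, true), (5, 35, true), (5, 41, true), (6, 43, true), (7, 44, true), (6, 40, true), (5, 39, true), (6, 43, true), (5, 42, true), (5, 44, true)], 356),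 ([(7, 29, true), (6, 28, true), (5, 27, true), (4, 26, true), (3, 25, true), (2, 24, true), (4, 41, true), (5, 43, true), (6, 44, true)], 470), ([(7, 34, true), (6, 33, true), (5, 32, true), (4, 31, true), (3, 30, true), (5, 43, true), (6, 44, true)], 241), ([(7, 38, true), (6, 37, true), (5, 36, true), (4, 35, true), (4, 41, true), (5, 43, true), (6, 44, true)], 130), ([(7, 41, true), (6, 40, true), (5, 39, true)], 212), ([(7, 43, true), (6, 42, true)], 440), ([(7, 44, true)], 251)],
  [([(3, 7, true), (2, 4, true), (1, 1, true), (0, 0, true), (2, 32, true), (4, 38, true), (3, 36, true), (5, 41, true), (4, 39, true), (4, 44, true)], 318), ([(3, 15, true), (2, 12, true), (1, 9, true)], 249), ([(3, 22, true), (2, 19, true), (4, 42, true)], 64), ([(3, 28, true), (2, 25, true)], 106), ([(3, 33, true), (2, 30, true)], 447), ([(3, 37, true)], 62), ([(3, 40, true)], 213), ([(3, 42, true)], 247), ([], 250)],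
  [([(3, 8, true), (2, 7, true), (1, 4, true), (0, 0, true), (3, 43, true), (4, 44, true)], 124), ([(3, 16, true), (2, 15, true), (1, 12, true)], 250), ([(3, 23, true), (2, 22, true), (1, 19, true), (3, 42, true)], 169), ([(3, 29, true), (2, 28, true), (1, 25, true), (4, 44, true)], 435), ([(3, 34, true), (2, 33, true), (1, 30, true)], 444), ([(3, 38, true), (2, 37, true)], 128), ([(3, 41, true), (2, 40, true)], 190), ([(3, 43, true), (2, 42, true)], 244), ([(3, 44, true)], 249)],
  [([(5, 7, true), (4, 6, true), (3, 5, true), (2, 4, true), (1, 3, true), (0, 0, true), (2, 34, true), (1, 32, true), (3, 44, true), (2, 36, true), (3, 39, true), (3, 38, true), (2, 35, true), (2, 44, true), (2, 41, true), (3, 43, true), (4, 44, true)], 87), ([(5, 15, true), (4, 14, true), (3, 13, true), (2, 12, true), (1, 11, true), (3, 30, true), (4, 41, true), (5, 43, true), (6, 44, true), (5, 42, true)], 252), ([(5, 22, true), (4, 21, true), (3, 20, true), (2, 19, true), (1, 18, true), (4, 32, true), (3, 31, true), (6, 43, true), (7, 38, true), (6, 37, true), (5, 36, true), (4,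 35, true), (4, 41, true), (5, 43, true), (6, 44, true), (5, 40, true), (4, 39, true), (5, 43, true), (4, 42, true)], 352), ([(5, 28, true), (4, 27, true), (3, 26, true), (2, 25, true), (1, 24, true), (3, 41, true), (4, 43, true), (5, 44, true)], 455), ([(5, 33, true), (4, 32, true), (3, 31, true), (2, 30, true), (4, 43, true)], 242), ([(5, 37, true), (4, 36, true), (3, 35, true), (3, 41, true), (4, 43, true)], 60), ([(5, 40, true), (4, 39, true)], 191), ([(5, 42, true)], 442), ([], 248)],
  [([(3, 6, true), (2, 5, true), (1, 4, true), (0, 2, true), (2, 34, true), (3, 38, true), (4, 41, true), (5, 44, true), (4, 36, true), (3, 35, true), (3, 41, true), (4, 44, true), (3, 39, true)], 148), ([(3, 14, true), (2, 13, true), (1, 12, true), (0, 10, true), (2, 33, true), (3, 37, true), (5, 41, true), (4, 40, true), (6, 43, true), (5, 42, true), (5, 44, true)], 77), ([(3, 21, true), (2, 20, true), (1, 19, true), (0, 17, true), (1, 37, true), (2, 40, true)], 124), ([(3, 27, true), (2, 26, true), (1, 25, true), (4, 41, true)], 341), ([(3, 32, true), (2, 31, true), (1,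 30, true)], 362), ([(3, 36, true), (2, 35, true), (2, 41, true)], 492), ([(3, 39, true)], 481), ([], 155), ([], 78)],
  [([(2, 4, true), (1, 3, true), (0, 2, true), (2, 29, true), (3, 41, true), (4, 44, true), (3, 32, true), (5, 38, true), (4, 36, true), (6, 41, true), (5, 39, true), (5, 44, true)], 386), ([(2, 12, true), (1, 11, true), (0, 10, true), (2, 28, true), (4, 34, true), (3, 33, true), (5, 34, true), (4, 33, true), (3, 30, true)], 75), ([(2, 19, true), (1, 18, true), (0, 17, true), (2, 32, true), (1, 31, true), (4, 43, true)], 239), ([(2, 25, true), (1, 24, true)], 263), ([(2, 30, true)], 156), ([], 225), ([], 480), ([], 365), ([], 79)],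
  [([(5, 8, true), (4, 6, true), (3, 5, true), (2, 4, true), (1, 2, true), (0, 1, true), (3, 21, true), (2, 17, true), (3, 44, true), (2, 32, true), (4, 38, true), (3, 36, true), (5, 41, true), (4, 39, true), (4, 44, true), (3, 35, true), (3, 44, true)], 184), ([(5, 16, true), (4, 14, true), (3, 13, true), (2, 12, true), (1, 10, true), (0, 9, true), (1, 33, true), (2, 37, true), (4, 41, true), (3, 40, true), (5, 43, true), (4, 42, true), (4, 44, true)], 78), ([(5, 23, true), (4, 21, true), (3, 20, true), (2, 19, true), (1, 17, true), (2, 37, true), (3, 40, true), (5, 44, true)], 501), ([(5, 29, true), (4, 27, true), (3, 26, true), (2, 25, true), (5, 41, true), (6, 44, true)], 412), ([(5, 34, true), (4, 32, true), (3, 31, true), (2, 30, true), (4, 44, true)], 361), ([(5, 38, true), (4, 36, true), (3, 35, true), (3, 41, true), (4, 44, true)], 226), ([(5, 41, true), (4, 39, true)], 164), ([(5, 43, true)], 152), ([(5, 44, true)], 77)],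
  [([(4, 8, true), (3, 4, true), (2, 3, true), (1, 2, true), (0, 1, true), (3, 21, true), (2, 17, true), (3, 44, true), (2, 27, true), (3, 39, true), (3, 34, true), (4, 38, true), (5, 41, true), (6, 44, true)], 440), ([(4, 16, true), (3, 12, true), (2, 11, true), (1, 10, true), (0, 9, true), (1, 28, true), (3, 34, true), (2, 33, true), (4, 34, true), (3, 33, true), (2, 30, true), (3, 44, true)], 72), ([(4, 23, true), (3, 19, true), (2, 18, true), (1, 17, true), (3, 32, true), (2, 31, true), (5, 43, true), (6, 44, true)], 233), ([(4, 29, true), (3, 25, true), (2, 24, true)], 198), ([(4, 34, true), (3, 30, true)], 159), ([(4, 38, true)], 494), ([(4, 41, true)], 165), ([(4, 43, true)], 366), ([(4, 44, true)], 76)],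
  [([(3, 7, true), (2, 3, true), (1, 2, true), (0, 1, true), (3, 21, true), (2, 17, true), (3, 44, true), (2, 27, true), (3, 39, true), (3, 43, true), (4, 44, true)], 449), ([(3, 15, true), (2, 11, true), (1, 10, true), (0, 9, true), (1, 28, true), (3, 34, true), (2, 33, true), (4, 43, true), (3, 42, true)], 79), ([(3, 22, true), (2, 18, true), (1, 17, true)], 311), ([(3, 28, true), (2, 24, true)], 414), ([(3, 33, true)], 153), ([(3, 37, true)], 490), ([(3, 40, true)], 380), ([(3, 42, true)], 360), ([], 75)],
  [([(5, 8, true), (4, 7, true), (3, 6, true), (2, 5, true), (1, 2, true), (0, 1, true), (3, 21, true), (2, 17, true), (3, 44, true), (2, 36, true), (4, 41, true), (3, 39, true), (3, 43, true), (4, 44, true)], 425), ([(5, 16, true), (4, 15, true), (3, 14, true), (2, 13, true), (1, 10, true), (0, 9, true), (1, 37, true), (3, 41, true), (2, 40, true), (4, 43, true), (3, 42, true), (3, 44, true)], 73), ([(5, 23, true), (4, 22, true), (3, 21, true), (2, 20, true), (1, 17, true), (3, 43, true), (4, 44, true)], 123), ([(5, 29, true), (4, 28, true), (3, 27, true),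 (2, 26, true), (4, 41, true), (5, 43, true), (6, 44, true)], 196), ([(5, 34, true), (4, 33, true), (3, 32, true), (2, 31, true), (5, 43, true), (6, 44, true)], 367), ([(5, 38, true), (4, 37, true), (3, 36, true), (2, 35, true), (2, 41, true), (3, 43, true), (4, 44, true)], 230), ([(5, 41, true), (4, 40, true), (3, 39, true)], 381), ([(5, 43, true), (4, 42, true)], 158), ([(5, 44, true)], 74)],
  [([(3, 8, true), (2, 7, true), (1, 3, true), (0, 2, true), (2, 29, true), (3, 41, true), (4, 44, true), (5, 44, true)], 278), ([(3, 16, true), (2, 15, true), (1, 11, true), (0, 10, true), (2, 28, true), (4, 34, true), (3, 33, true), (5, 43, true), (4, 42, true), (4, 44, true)], 76), ([(3, 23, true), (2, 22, true), (1, 18, true), (0, 17, true)], 304), ([(3, 29, true), (2, 28, true), (1, 24, true), (2, 44, true)], 343), ([(3, 34, true), (2, 33, true)], 154), ([(3, 38, true), (2, 37, true)], 228), ([(3, 41, true), (2, 40, true)], 313), ([(3, 43, true), (2, 42, true)], 363), ([(3, 44, true)], 72)],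
  [([(3, 7, true), (2, 6, true), (1, 5, true), (0, 2, true), (2, 38, true), (3, 44, true)], 358), ([(3, 15, true), (2, 14, true), (1, 13, true), (0, 10, true), (2, 37, true), (4, 41, true), (3, 40, true), (5, 43, true), (4, 42, true), (4, 44, true)], 74), ([(3, 22, true), (2, 21, true), (1, 20, true), (0, 17, true), (2, 43, true)], 499), ([(3, 28, true), (2, 27, true), (1, 26, true), (3, 41, true), (4, 43, true), (5, 44, true)], 261), ([(3, 33, true), (2, 32, true), (1, 31, true), (4, 43, true)], 364), ([(3, 37, true), (2, 36, true), (1, 35, true), (1, 41, true), (2, 43, true)], 488), ([(3, 40, true), (2, 39, true)], 312), ([(3, 42, true)], 157), ([], 73)],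
  [([(3, 8, true), (2, 6, true), (1, 4, true), (0, 0, true), (3, 41, true), (2, 39, true), (2, 44, true)], 24), ([(3, 16, true), (2, 14, true), (1, 12, true), (5, 44, true)], 213), ([(3, 23, true), (2, 21, true), (1, 19, true), (3, 40, true), (5, 44, true)], 14), ([(3, 29, true), (2, 27, true), (1, 25, true)], 138), ([(3, 34, true), (2, 32, true), (1, 30, true), (2, 44, true)], 334), ([(3, 38, true), (2, 36, true)], 105), ([(3, 41, true), (2, 39, true)], 244), ([(3, 43, true)], 190), ([(3, 44, true)], 210)],
  [([(4, 8, true), (3, 5, true), (2, 4, true), (1, 3, true), (0, 0, true), (2, 34, true), (1, 32, true), (3, 44, true), (2, 36, true), (3, 39, true), (3, 38, true), (2, 35, true), (2, 44, true), (2, 44, true)], 322), ([(4, 16, true), (3, 13, true), (2, 12, true), (1, 11, true), (3, 30, true), (4, 44, true)], 214), ([(4, 23, true), (3, 20, true), (2, 19, true), (1, 18, true), (4, 32, true), (3, 31, true), (6, 43, true), (7, 38, true), (6, 37, true), (5, 36, true), (4, 35, true), (4, 41, true), (5, 43, true), (6, 44, true)], 114), ([(4, 29, true), (3, 26,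 true), (2, 25, true), (1, 24, true), (3, 44, true)], 431), ([(4, 34, true), (3, 31, true), (2, 30, true)], 189), ([(4, 38, true), (3, 35, true), (3, 44, true)], 469), ([(4, 41, true)], 245), ([(4, 43, true)], 332), ([(4, 44, true)], 211)],
  [([(3, 7, true), (2, 5, true), (1, 3, true), (0, 0, true), (2, 38, true), (1, 36, true), (3, 44, true)], 304), ([(3, 15, true), (2, 13, true), (1, 11, true), (5, 43, true)], 212), ([(3, 22, true), (2, 20, true), (1, 18, true), (4, 36, true), (3, 35, true), (3, 41, true), (4, 43, true)], 400), ([(3, 28, true), (2, 26, true), (1, 24, true), (2, 43, true), (3, 44, true)], 142), ([(3, 33, true), (2, 31, true)], 191), ([(3, 37, true), (2, 35, true), (2, 43, true)], 464), ([(3, 40, true)], 445), ([(3, 42, true)], 335), ([], 209)],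
  [([(3, 8, true), (2, 7, true), (1, 6, true), (0, 0, true), (2, 44, true)], 95), ([(3, 16, true), (2, 15, true), (1, 14, true), (4, 43, true), (3, 42, true), (3, 44, true)], 215), ([(3, 23, true), (2, 22, true), (1, 21, true), (3, 43, true), (4, 44, true)], 384), ([(3, 29, true), (2, 28, true), (1, 27, true), (4, 44, true)], 426), ([(3, 34, true), (2, 33, true), (1, 32, true), (3, 43, true), (4, 44, true)], 333), ([(3, 38, true), (2, 37, true), (1, 36, true)], 108), ([(3, 41, true), (2, 40, true), (1, 39, true)], 444), ([(3, 43, true), (2, 42, true)], 188), ([(3, 44, true)], 208)],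
  [([(3, 8, true), (2, 6, true), (1, 1, true), (0, 0, true), (2, 39, true)], 338), ([(3, 16, true), (2, 14, true), (1, 9, true), (3, 44, true)], 208), ([(3, 23, true), (2, 21, true), (4, 44, true)], 8), ([(3, 29, true), (2, 27, true)], 58), ([(3, 34, true), (2, 32, true), (4, 44, true)], 330), ([(3, 38, true), (2, 36, true)], 466), ([(3, 41, true), (2, 39, true)], 35), ([(3, 43, true)], 186), ([(3, 44, true)], 215)],
  [([(4, 8, true), (3, 5, true), (2, 3, true), (1, 1, true), (0, 0, true), (2, 27, true), (3, 39, true), (3, 38, true), (4, 44, true)], 368), ([(4, 16, true), (3, 13, true), (2, 11, true), (1, 9, true), (4, 44, true)], 211), ([(4, 23, true), (3, 20, true), (2, 18, true), (5, 36, true), (4, 35, true), (4, 41, true), (5, 44, true)], 402), ([(4, 29, true), (3, 26, true), (2, 24, true), (3, 44, true)], 135), ([(4, 34, true), (3, 31, true)], 185), ([(4, 38, true), (3, 35, true), (3, 44, true)], 111), ([(4, 41, true)], 34), ([(4, 43, true)], 328), ([(4, 44, true)], 214)],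
  [([(5, 8, true), (4, 7, true), (3, 6, true), (2, 4, true), (1, 1, true), (0, 0, true), (2, 32, true), (4, 38, true), (3, 36, true), (5, 41, true), (4, 39, true), (4, 44, true), (6, 44, true)], 367), ([(5, 16, true), (4, 15, true), (3, 14, true), (2, 12, true), (1, 9, true), (4, 43, true), (3, 42, true), (3, 44, true)], 210), ([(5, 23, true), (4, 22, true), (3, 21, true), (2, 19, true), (4, 40, true), (6, 43, true), (5, 42, true), (5, 44, true)], 390), ([(5, 29, true), (4, 28, true), (3, 27, true), (2, 25, true), (6, 44, true)], 130), ([(5, 34, true), (4, 33, true), (3, 32, true), (2, 30, true), (3, 43, true), (4, 44, true)], 329), ([(5, 38, true), (4, 37, true), (3, 36, true)], 470), ([(5, 41, true), (4, 40, true), (3, 39, true)], 250), ([(5, 43, true), (4, 42, true)], 184), ([(5, 44, true)], 213)],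
  [([(5, 7, true), (4, 5, true), (3, 4, true), (2, 3, true), (1, 1, true), (0, 0, true), (2, 27, true), (3, 39, true), (3, 34, true), (4, 38, true), (5, 41, true), (6, 44, true), (5, 36, true), (4, 35, true), (4, 41, true), (5, 44, true)], 482), ([(5, 15, true), (4, 13, true), (3, 12, true), (2, 11, true), (1, 9, true), (2, 30, true), (3, 43, true)], 209), ([(5, 22, true), (4, 20, true), (3, 19, true), (2, 18, true), (5, 32, true), (4, 31, true), (7, 43, true), (8, 38, true), (7, 37, true), (6, 36, true), (5, 35, true), (5, 41, true), (6, 43, true), (7, 44, true), (6, 42, true)], 112), ([(5, 28, true), (4, 26, true), (3, 25, true), (2, 24, true), (4, 43, true), (5, 44, true)], 62), ([(5, 33, true), (4, 31, true), (3, 30, true)], 187), ([(5, 37, true), (4, 35, true), (4, 43, true)], 106), ([(5, 40, true)], 251), ([(5, 42, true)], 331), ([], 212)],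
  [([(3, 8, true), (2, 6, true), (1, 3, true), (0, 0, true), (2, 41, true), (1, 39, true), (1, 44, true)], 476), ([(3, 16, true), (2, 14, true), (1, 11, true), (6, 44, true)], 130), ([(3, 23, true), (2, 21, true), (1, 18, true), (4, 39, true), (4, 44, true)], 12), ([(3, 29, true), (2, 27, true), (1, 24, true)], 188), ([(3, 34, true), (2, 32, true), (4, 44, true)], 430), ([(3, 38, true), (2, 36, true)], 254), ([(3, 41, true), (2, 39, true)], 439), ([(3, 43, true)], 143), ([(3, 44, true)], 132)],
  [([(2, 8, true), (1, 5, true), (0, 0, true), (1, 44, true)], 82), ([(2, 16, true), (1, 13, true), (3, 44, true)], 135), ([(2, 23, true), (1, 20, true)], 117), ([(2, 29, true), (1, 26, true), (3, 44, true)], 335), ([(2, 34, true), (1, 31, true)], 139), ([(2, 38, true), (1, 35, true), (1, 44, true)], 32), ([(2, 41, true)], 438), ([(2, 43, true)], 427), ([(2, 44, true)], 133)],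
  [([(4, 8, true), (3, 6, true), (2, 3, true), (1, 1, true), (0, 0, true), (2, 27, true), (3, 39, true), (3, 41, true), (4, 44, true)], 314), ([(4, 16, true), (3, 14, true), (2, 11, true), (1, 9, true), (5, 44, true)], 129), ([(4, 23, true), (3, 21, true), (2, 18, true), (5, 39, true), (5, 44, true)], 9), ([(4, 29, true), (3, 27, true), (2, 24, true)], 52), ([(4, 34, true), (3, 32, true), (5, 44, true)], 429), ([(4, 38, true), (3, 36, true)], 34), ([(4, 41, true), (3, 39, true)], 467), ([(4, 43, true)], 141), ([(4, 44, true)], 134)],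
  [([(3, 8, true), (2, 5, true), (1, 1, true), (0, 0, true), (2, 36, true), (4, 44, true)], 361), ([(3, 16, true), (2, 13, true), (1, 9, true), (2, 44, true)], 133), ([(3, 23, true), (2, 20, true)], 276), ([(3, 29, true), (2, 26, true), (4, 44, true)], 214), ([(3, 34, true), (2, 31, true)], 137), ([(3, 38, true), (2, 35, true), (2, 44, true)], 253), ([(3, 41, true)], 466), ([(3, 43, true)], 425), ([(3, 44, true)], 135)],
  [([(5, 8, true), (4, 7, true), (3, 6, true), (2, 4, true), (1, 3, true), (0, 0, true), (2, 34, true), (1, 32, true), (3, 44, true), (2, 36, true), (3, 39, true), (3, 41, true), (4, 43, true), (5, 44, true)], 239), ([(5, 16, true), (4, 15, true), (3, 14, true), (2, 12, true), (1, 11, true), (3, 30, true), (5, 43, true), (4, 42, true), (4, 44, true)], 134), ([(5, 23, true), (4, 22, true), (3, 21, true), (2, 19, true), (1, 18, true), (4, 32, true), (3, 31, true), (6, 43, true), (7, 41, true), (6, 40, true), (5, 39, true), (6, 44, true), (5, 42, true)], 393), ([(5, 29, true), (4, 28, true), (3, 27, true), (2, 25, true), (1, 24, true), (4, 44,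 true)], 333), ([(5, 34, true), (4, 33, true), (3, 32, true), (2, 30, true), (3, 43, true), (4, 44, true)], 426), ([(5, 38, true), (4, 37, true), (3, 36, true)], 248), ([(5, 41, true), (4, 40, true), (3, 39, true)], 454), ([(5, 43, true), (4, 42, true)], 138), ([(5, 44, true)], 129)],
  [([(3, 7, true), (2, 5, true), (1, 4, true), (0, 0, true), (3, 38, true), (2, 36, true), (1, 35, true), (1, 41, true), (2, 44, true), (2, 43, true), (3, 44, true)], 20), ([(3, 15, true), (2, 13, true), (1, 12, true), (4, 43, true)], 131), ([(3, 22, true), (2, 20, true), (1, 19, true), (3, 37, true), (4, 42, true)], 272), ([(3, 28, true), (2, 26, true), (1, 25, true), (4, 43, true), (5, 44, true)], 191), ([(3, 33, true), (2, 31, true), (1, 30, true)], 142), ([(3, 37, true), (2, 35, true), (2, 43, true)], 38), ([(3, 40, true)], 455), ([(3, 42, true)], 431), ([], 128)],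
  [([(4, 7, true), (3, 5, true), (2, 4, true), (1, 1, true), (0, 0, true), (2, 32, true), (4, 38, true), (3, 36, true), (5, 41, true), (4, 39, true), (4, 44, true), (3, 35, true), (3, 44, true)], 259), ([(4, 15, true), (3, 13, true), (2, 12, true), (1, 9, true), (3, 43, true)], 128), ([(4, 22, true), (3, 20, true), (2, 19, true), (4, 37, true), (5, 42, true)], 113), ([(4, 28, true), (3, 26, true), (2, 25, true), (5, 43, true), (6, 44, true)], 55), ([(4, 33, true), (3, 31, true), (2, 30, true)], 140), ([(4, 37, true), (3, 35, true), (3, 43, true)], 250), ([(4, 40, true)], 107), ([(4, 42, true)], 428), ([], 131)],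
  [([(6, 8, true), (5, 7, true), (4, 6, true), (3, 4, true), (2, 3, true), (1, 1, true), (0, 0, true), (2, 27, true), (3, 39, true), (3, 34, true), (4, 38, true), (5, 41, true), (6, 44, true), (5, 39, true), (6, 44, true)], 373), ([(6, 16, true), (5, 15, true), (4, 14, true), (3, 12, true), (2, 11, true), (1, 9, true), (2, 30, true), (4, 43, true), (3, 42, true), (3, 44, true)], 132), ([(6, 23, true), (5, 22, true), (4, 21, true), (3, 19, true), (2, 18, true), (5, 32, true), (4, 31, true), (7, 43, true), (8, 41, true), (7, 40, true), (6, 39, true), (7, 44, true), (6, 42, true)], 396), ([(6, 29, true), (5, 28, true), (4, 27, true), (3, 25, true), (2, 24, true), (5, 44, true)], 213), ([(6, 34, true), (5, 33, true), (4, 32, true), (3, 30, true), (4, 43, true), (5, 44, true)], 424), ([(6, 38, true), (5, 37, true), (4, 36, true)], 36), ([(6, 41, true), (5, 40, true), (4, 39, true)], 106), ([(6, 43, true), (5, 42, true)], 136), ([(6, 44, true)], 130)]]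

/-- Derivations closing the normal words, part 2. -/
def multClosing2 : List (List (List (ℕ × ℕ × Bool) × ℕ)) := [
  [([(3, 4, true), (2, 2, true), (1, 1, true), (0, 0, true), (2, 21, true), (1, 17, true), (2, 44, true), (1, 32, true), (3, 38, true), (2, 36, true), (4, 41, true), (3, 39, true), (3, 44, true)], 26), ([(3, 12, true), (2, 10, true), (1, 9, true), (2, 33, true)], 351), ([(3, 19, true), (2, 17, true)], 37), ([(3, 25, true)], 356), ([(3, 30, true)], 147), ([], 113), ([], 390), ([], 170), ([], 349)],
  [([(6, 6, true), (5, 5, true), (4, 4, true), (3, 3, true), (2, 2, true), (1, 1, true), (0, 0, true), (2, 21, true), (1, 17, true), (2, 44, true), (1, 27, true), (2, 39, true), (2, 34, true), (3, 38, true), (4, 41, true), (5, 44, true), (4, 36, true), (3, 35, true), (3, 41, true), (4, 44, true), (3, 39, true)], 126), ([(6, 14, true), (5, 13, true), (4, 12, true), (3, 11, true), (2, 10, true), (1, 9, true), (2, 28, true), (4, 34, true), (3, 33, true), (5, 34, true), (4, 33, true), (3, 30, true), (4, 38, true), (3, 37, true), (5, 44, true), (4, 40, true),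 (5, 42, true)], 347), ([(6, 21, true), (5, 20, true), (4, 19, true), (3, 18, true), (2, 17, true), (4, 32, true), (3, 31, true), (6, 43, true), (7, 38, true), (6, 37, true), (5, 36, true), (4, 35, true), (4, 41, true), (5, 43, true), (6, 44, true), (5, 40, true), (4, 39, true)], 106), ([(6, 27, true), (5, 26, true), (4, 25, true), (3, 24, true), (5, 41, true)], 282), ([(6, 32, true), (5, 31, true), (4, 30, true)], 175), ([(6, 36, true), (5, 35, true), (5, 41, true)], 270), ([(6, 39, true)], 391), ([], 150), ([], 348)],
  [([(6, 7, true), (5, 6, true), (4, 5, true), (3, 4, true), (2, 3, true), (1, 2, true), (0, 0, true), (1, 29, true), (2, 41, true), (3, 44, true), (2, 32, true), (4, 38, true), (3, 36, true), (5, 41, true), (4, 39, true), (4, 44, true), (3, 35, true), (3, 44, true)], 379), ([(6, 15, true), (5, 14, true), (4, 13, true), (3, 12, true), (2, 11, true), (1, 10, true), (3, 28, true), (5, 34, true), (4, 33, true), (6, 34, true), (5, 33, true), (4, 30, true), (5, 38, true), (4, 37, true), (6, 44, true), (5, 40, true), (6, 42, true), (6, 43, true)],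 345), ([(6, 22, true), (5, 21, true), (4, 20, true), (3, 19, true), (2, 18, true), (1, 17, true), (3, 32, true), (2, 31, true), (5, 43, true), (6, 38, true), (5, 37, true), (4, 36, true), (3, 35, true), (3, 41, true), (4, 43, true), (5, 44, true), (4, 40, true), (3, 39, true), (4, 43, true), (3, 42, true)], 104), ([(6, 28, true), (5, 27, true), (4, 26, true), (3, 25, true), (2, 24, true), (4, 41, true), (5, 43, true), (6, 44, true)], 98), ([(6, 33, true), (5, 32, true), (4, 31, true), (3, 30, true), (5, 43, true)], 172), ([(6, 37, true), (5, 36, true), (4, 35, true), (4, 41, true), (5, 43, true)], 114), ([(6, 40, true), (5, 39, true)], 421), ([(6, 42, true)], 149), ([], 350)],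
  [([(4, 8, true), (3, 7, true), (2, 4, true), (1, 2, true), (0, 0, true), (1, 34, true), (2, 38, true), (3, 41, true), (4, 44, true), (5, 44, true)], 155), ([(4, 16, true), (3, 15, true), (2, 12, true), (1, 10, true), (3, 33, true), (4, 42, true)], 349), ([(4, 23, true), (3, 22, true), (2, 19, true), (1, 17, true), (2, 42, true)], 244), ([(4, 29, true), (3, 28, true), (2, 25, true), (5, 44, true)], 293), ([(4, 34, true), (3, 33, true), (2, 30, true)], 145), ([(4, 38, true), (3, 37, true)], 269), ([(4, 41, true), (3, 40, true)], 420), ([(4, 43, true), (3, 42, true)], 169), ([(4, 44, true)], 351)],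
  [([(6, 7, true), (5, 6, true), (4, 5, true), (3, 3, true), (2, 2, true), (1, 1, true), (0, 0, true), (2, 21, true), (1, 17, true), (2, 44, true), (1, 27, true), (2, 39, true), (2, 38, true), (3, 44, true)], 218), ([(6, 15, true), (5, 14, true), (4, 13, true), (3, 11, true), (2, 10, true), (1, 9, true), (2, 28, true), (4, 34, true), (3, 33, true), (5, 38, true), (4, 37, true), (6, 44, true), (5, 40, true), (6, 42, true), (6, 43, true)], 350), ([(6, 22, true), (5, 21, true), (4, 20, true), (3, 18, true), (2, 17, true), (4, 36, true), (3, 35, true), (3, 41, true), (4, 41, true), (3, 39, true), (3, 44, true)], 449), ([(6, 28, true), (5, 27, true), (4, 26, true), (3, 24, true), (4, 41, true), (5, 43, true), (6, 44, true)], 354), ([(6, 33, true), (5, 32, true), (4, 31, true), (7, 43, true)], 171), ([(6, 37, true), (5, 36, true), (4, 35, true), (4, 41, true), (5, 43, true)], 264), ([(6, 40, true), (5, 39, true)], 399), ([(6, 42, true)], 146), ([], 345)],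
  [([(4, 8, true), (3, 7, true), (2, 2, true), (1, 1, true), (0, 0, true), (2, 21, true), (1, 17, true), (2, 44, true), (3, 44, true)], 23), ([(4, 16, true), (3, 15, true), (2, 10, true), (1, 9, true), (2, 42, true)], 346), ([(4, 23, true), (3, 22, true), (2, 17, true)], 240), ([(4, 29, true), (3, 28, true), (5, 44, true)], 284), ([(4, 34, true), (3, 33, true)], 151), ([(4, 38, true), (3, 37, true)], 118), ([(4, 41, true), (3, 40, true)], 398), ([(4, 43, true), (3, 42, true)], 174), ([(4, 44, true)], 344)],
  [([(1, 2, true), (0, 0, true)], 193), ([(1, 10, true)], 344), ([(1, 17, true)], 32), ([], 101), ([], 148), ([], 266), ([], 13), ([], 173), ([], 346)],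
  [([(4, 6, true), (3, 5, true), (2, 3, true), (1, 2, true), (0, 0, true), (1, 29, true), (2, 41, true), (3, 44, true), (2, 36, true), (4, 41, true), (3, 39, true)], 371), ([(4, 14, true), (3, 13, true), (2, 11, true), (1, 10, true), (3, 28, true), (5, 34, true), (4, 33, true), (6, 38, true), (5, 37, true), (7, 44, true), (6, 40, true), (7, 42, true)], 348), ([(4, 21, true), (3, 20, true), (2, 18, true), (1, 17, true), (3, 36, true), (2, 35, true), (2, 41, true), (3, 41, true), (2, 39, true), (2, 44, true)], 450), ([(4, 27, true), (3, 26, true), (2, 24, true), (3, 41, true)], 291), ([(4, 32, true), (3, 31, true)], 168), ([(4, 36, true), (3, 35, true), (3, 41, true)], 116), ([(4, 39, true)], 12), ([], 144), ([], 347)],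
  [([(2, 7, true), (1, 3, true), (0, 2, true), (2, 29, true), (3, 41, true), (4, 44, true)], 400), ([(2, 15, true), (1, 11, true), (0, 10, true), (2, 28, true), (4, 34, true), (3, 33, true), (5, 43, true), (4, 42, true)], 43), ([(2, 22, true), (1, 18, true), (0, 17, true)], 221), ([(2, 28, true), (1, 24, true)], 260), ([(2, 33, true)], 365), ([(2, 37, true)], 489), ([(2, 40, true)], 485), ([(2, 42, true)], 156), ([], 46)],
  [([(4, 8, true), (3, 7, true), (2, 6, true), (1, 5, true), (0, 2, true), (2, 38, true), (3, 44, true), (5, 44, true)], 280), ([(4, 16, true), (3, 15, true), (2, 14, true), (1, 13, true), (0, 10, true), (2, 37, true), (4, 41, true), (3, 40, true), (5, 43, true), (4, 42, true), (4, 44, true)], 45), ([(4, 23, true), (3, 22, true), (2, 21, true), (1, 20, true), (0, 17, true), (2, 43, true), (3, 44, true)], 327), ([(4, 29, true), (3, 28, true), (2, 27, true), (1, 26, true), (3, 41, true), (4, 43, true), (5, 44, true)], 342), ([(4, 34, true), (3, 33, true), (2, 32, true), (1, 31, true), (4, 43, true), (5, 44, true)], 155), ([(4, 38, true), (3,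 37, true), (2, 36, true), (1, 35, true), (1, 41, true), (2, 43, true), (3, 44, true)], 229), ([(4, 41, true), (3, 40, true), (2, 39, true)], 484), ([(4, 43, true), (3, 42, true)], 362), ([(4, 44, true)], 47)],
  [([(4, 7, true), (3, 6, true), (2, 5, true), (1, 2, true), (0, 1, true), (3, 21, true), (2, 17, true), (3, 44, true), (2, 36, true), (4, 41, true), (3, 39, true), (3, 43, true), (4, 44, true)], 140), ([(4, 15, true), (3, 14, true), (2, 13, true), (1, 10, true), (0, 9, true), (1, 37, true), (3, 41, true), (2, 40, true), (4, 43, true), (3, 42, true), (3, 44, true)], 47), ([(4, 22, true), (3, 21, true), (2, 20, true), (1, 17, true), (3, 43, true)], 479), ([(4, 28, true), (3, 27, true), (2, 26, true), (4, 41, true), (5, 43, true), (6, 44, true)], 415), ([(4, 33, true), (3, 32, true), (2, 31, true), (5, 43, true)], 152), ([(4, 37, true), (3, 36, true), (2, 35, true), (2, 41, true), (3, 43, true)], 491), ([(4, 40, true), (3, 39, true)], 160), ([(4, 42, true)], 361), ([], 45)],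
  [([(4, 8, true), (3, 7, true), (2, 3, true), (1, 2, true), (0, 1, true), (3, 21, true), (2, 17, true), (3, 44, true), (2, 27, true), (3, 39, true), (3, 43, true), (4, 44, true)], 436), ([(4, 16, true), (3, 15, true), (2, 11, true), (1, 10, true), (0, 9, true), (1, 28, true), (3, 34, true), (2, 33, true), (4, 43, true), (3, 42, true), (3, 44, true)], 41), ([(4, 23, true), (3, 22, true), (2, 18, true), (1, 17, true)], 218), ([(4, 29, true), (3, 28, true), (2, 24, true), (3, 44, true)], 197), ([(4, 34, true), (3, 33, true)], 366), ([(4, 38, true), (3, 37, true)], 231), ([(4, 41, true), (3, 40, true)], 161), ([(4, 43, true), (3, 42, true)], 159), ([(4, 44, true)], 44)],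
  [([(3, 4, true), (2, 3, true), (1, 2, true), (0, 1, true), (3, 21, true), (2, 17, true), (3, 44, true), (2, 27, true), (3, 39, true), (3, 34, true), (4, 38, true), (5, 41, true), (6, 44, true)], 246), ([(3, 12, true), (2, 11, true), (1, 10, true), (0, 9, true), (1, 28, true), (3, 34, true), (2, 33, true), (4, 34, true), (3, 33, true), (2, 30, true)], 46), ([(3, 19, true), (2, 18, true), (1, 17, true), (3, 32, true), (2, 31, true), (5, 43, true)], 509), ([(3, 25, true), (2, 24, true)], 413), ([(3, 30, true)], 360), ([], 227), ([], 376), ([], 153), ([], 43)],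
  [([(4, 6, true), (3, 5, true), (2, 4, true), (1, 2, true), (0, 1, true), (3, 21, true), (2, 17, true), (3, 44, true), (2, 32, true), (4, 38, true), (3, 36, true), (5, 41, true), (4, 39, true), (4, 44, true), (3, 35, true), (3, 44, true)], 330), ([(4, 14, true), (3, 13, true), (2, 12, true), (1, 10, true), (0, 9, true), (1, 33, true), (2, 37, true), (4, 41, true), (3, 40, true), (5, 43, true), (4, 42, true), (4, 44, true)], 40), ([(4, 21, true), (3, 20, true), (2, 19, true), (1, 17, true), (2, 37, true), (3, 40, true)], 320), ([(4, 27, true), (3, 26, true), (2, 25, true), (5, 41, true)], 199), ([(4, 32, true), (3, 31, true), (2, 30, true)], 158), ([(4, 36, true), (3, 35, true), (3, 41, true)], 495), ([(4, 39, true)], 377), ([], 367), ([], 42)],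
  [([(4, 8, true), (3, 6, true), (2, 5, true), (1, 4, true), (0, 2, true), (2, 34, true), (3, 38, true), (4, 41, true), (5, 44, true), (4, 36, true), (3, 35, true), (3, 41, true), (4, 44, true), (3, 39, true)], 169), ([(4, 16, true), (3, 14, true), (2, 13, true), (1, 12, true), (0, 10, true), (2, 33, true), (3, 37, true), (5, 41, true), (4, 40, true), (6, 43, true), (5, 42, true), (5, 44, true)], 42), ([(4, 23, true), (3, 21, true), (2, 20, true), (1, 19, true), (0, 17, true), (1, 37, true), (2, 40, true), (4, 44, true)], 473), ([(4, 29, true), (3, 27, true), (2, 26, true), (1, 25, true), (4, 41, true), (5, 44, true)], 262), ([(4, 34, true), (3, 32, true), (2, 31, true), (1, 30, true), (3, 44, true)], 157), ([(4, 38, true), (3, 36, true), (2, 35, true), (2, 41, true), (3, 44, true)], 224), ([(4, 41, true), (3, 39, true)], 317), ([(4, 43, true)], 364), ([(4, 44, true)], 40)],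
  [([(3, 8, true), (2, 4, true), (1, 3, true), (0, 2, true), (2, 29, true), (3, 41, true), (4, 44, true), (3, 32, true), (5, 38, true), (4, 36, true), (6, 41, true), (5, 39, true), (5, 44, true)], 393), ([(3, 16, true), (2, 12, true), (1, 11, true), (0, 10, true), (2, 28, true), (4, 34, true), (3, 33, true), (5, 34, true), (4, 33, true), (3, 30, true), (4, 44, true)], 44), ([(3, 23, true), (2, 19, true), (1, 18, true), (0, 17, true), (2, 32, true), (1, 31, true), (4, 43, true), (5, 44, true)], 507), ([(3, 29, true), (2, 25, true), (1, 24, true)], 340), ([(3, 34, true), (2, 30, true)], 363), ([(3, 38, true)], 493), ([(3, 41, true)], 316), ([(3, 43, true)], 154), ([(3, 44, true)], 41)],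
  [([(1, 5, true), (0, 1, true), (3, 36, true)], 97), ([(1, 13, true), (0, 9, true)], 462), ([(1, 20, true)], 315), ([(1, 26, true)], 300), ([(1, 31, true)], 26), ([(1, 35, true)], 504), ([], 496), ([], 178), ([], 460)],
  [([(2, 6, true), (1, 3, true), (0, 1, true), (3, 27, true), (4, 39, true), (4, 41, true)], 277), ([(2, 14, true), (1, 11, true), (0, 9, true)], 459), ([(2, 21, true), (1, 18, true), (4, 39, true)], 368), ([(2, 27, true), (1, 24, true)], 89), ([(2, 32, true)], 183), ([(2, 36, true)], 236), ([(2, 39, true)], 497), ([], 30), ([], 461)],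
  [([(0, 5, true)], 57), ([(0, 13, true)], 460), ([(0, 20, true)], 163), ([(0, 26, true)], 204), ([(0, 31, true)], 24), ([(0, 35, true)], 234), ([], 477), ([], 177), ([], 462)],
  [([(1, 6, true), (0, 3, true), (3, 41, true), (2, 39, true)], 439), ([(1, 14, true), (0, 11, true)], 457), ([(1, 21, true), (0, 18, true), (3, 39, true)], 371), ([(1, 27, true), (0, 24, true)], 17), ([(1, 32, true)], 181), ([(1, 36, true)], 510), ([(1, 39, true)], 476), ([], 29), ([], 463)],
  [([(4, 7, true), (3, 6, true), (2, 4, true), (1, 3, true), (0, 1, true), (3, 27, true), (4, 39, true), (4, 34, true), (5, 38, true), (6, 41, true), (7, 44, true), (6, 39, true)], 11), ([(4, 15, true), (3, 14, true), (2, 12, true), (1, 11, true), (0, 9, true), (1, 30, true), (3, 43, true), (2, 42, true)], 463), ([(4, 22, true), (3, 21, true), (2, 19, true), (1, 18, true), (4, 32, true), (3, 31, true), (6, 43, true), (7, 41, true), (6, 40, true), (5, 39, true), (6, 44, true), (5, 42, true)], 227), ([(4, 28, true), (3, 27, true), (2, 25, true), (1, 24, true)], 296), ([(4, 33, true), (3, 32, true),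 (2, 30, true), (3, 43, true)], 179), ([(4, 37, true), (3, 36, true)], 233), ([(4, 40, true), (3, 39, true)], 321), ([(4, 42, true)], 27), ([], 457)],
  [([(4, 8, true), (3, 7, true), (2, 5, true), (1, 4, true), (0, 1, true), (3, 32, true), (5, 38, true), (4, 36, true), (6, 41, true), (5, 39, true), (5, 44, true), (4, 35, true), (4, 44, true), (5, 44, true)], 170), ([(4, 16, true), (3, 15, true), (2, 13, true), (1, 12, true), (0, 9, true), (2, 43, true), (3, 44, true)], 458), ([(4, 23, true), (3, 22, true), (2, 20, true), (1, 19, true), (3, 37, true), (4, 42, true)], 164), ([(4, 29, true), (3, 28, true), (2, 26, true), (1, 25, true), (4, 43, true), (5, 44, true)], 92), ([(4, 34, true), (3, 33, true), (2, 31, true), (1, 30, true)], 31), ([(4, 38, true), (3, 37, true), (2, 35, true), (2, 43, true), (3, 44, true)], 508), ([(4, 41, true), (3, 40, true)], 320), ([(4, 43, true), (3, 42, true)], 182), ([(4, 44, true)], 456)],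
  [([(3, 8, true), (2, 7, true), (1, 5, true), (0, 4, true), (4, 38, true), (3, 36, true), (2, 35, true), (2, 41, true), (3, 44, true), (3, 43, true), (4, 44, true)], 190), ([(3, 16, true), (2, 15, true), (1, 13, true), (0, 12, true), (3, 43, true), (4, 44, true)], 456), ([(3, 23, true), (2, 22, true), (1, 20, true), (0, 19, true), (2, 37, true), (3, 42, true)], 317), ([(3, 29, true), (2, 28, true), (1, 26, true), (0, 25, true), (3, 43, true), (4, 44, true)], 21), ([(3, 34, true), (2, 33, true), (1, 31, true), (0, 30, true)], 28), ([(3, 38, true), (2, 37, true), (1, 35, true), (1, 43, true), (2, 44, true)], 238), ([(3, 41, true), (2, 40, true)], 124), ([(3, 43, true), (2, 42, true)], 180), ([(3, 44, true)], 458)],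
  [([(3, 7, true), (2, 6, true), (1, 4, true), (0, 3, true), (3, 34, true), (2, 32, true), (4, 44, true), (3, 36, true), (4, 39, true), (4, 41, true), (5, 43, true), (6, 44, true)], 39), ([(3, 15, true), (2, 14, true), (1, 12, true), (0, 11, true), (2, 30, true), (4, 43, true), (3, 42, true)], 461), ([(3, 22, true), (2, 21, true), (1, 19, true), (0, 18, true), (3, 32, true), (2, 31, true), (5, 43, true), (6, 41, true), (5, 40, true), (4, 39, true), (5, 44, true), (4, 42, true)], 225), ([(3, 28, true), (2, 27, true), (1, 25, true), (0, 24, true)], 201), ([(3, 33, true), (2, 32, true), (1, 30, true), (2, 43, true)], 176), ([(3, 37, true), (2, 36, true)], 507), ([(3, 40, true), (2, 39, true)], 125), ([(3, 42, true)], 25), ([], 459)],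
  [([(2, 5, true), (1, 3, true), (0, 1, true), (3, 27, true), (4, 39, true), (4, 38, true), (5, 44, true)], 9), ([(2, 13, true), (1, 11, true), (0, 9, true)], 302), ([(2, 20, true), (1, 18, true), (4, 36, true), (3, 35, true), (3, 41, true)], 487), ([(2, 26, true), (1, 24, true)], 460), ([(2, 31, true)], 18), ([(2, 35, true)], 325), ([], 236), ([], 203), ([], 300)],
  [([(1, 6, true), (0, 1, true), (3, 39, true)], 147), ([(1, 14, true), (0, 9, true)], 299), ([(1, 21, true)], 369), ([(1, 27, true)], 81), ([(1, 32, true)], 207), ([(1, 36, true)], 496), ([(1, 39, true)], 237), ([], 23), ([], 301)],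
  [([(2, 5, true), (1, 4, true), (0, 3, true), (3, 34, true), (2, 32, true), (4, 44, true), (3, 36, true), (4, 39, true), (4, 38, true), (3, 35, true), (3, 44, true)], 104), ([(2, 13, true), (1, 12, true), (0, 11, true), (2, 30, true)], 300), ([(2, 20, true), (1, 19, true), (0, 18, true), (3, 32, true), (2, 31, true), (5, 43, true), (6, 38, true), (5, 37, true), (4, 36, true), (3, 35, true), (3, 41, true), (4, 43, true), (5, 44, true)], 166), ([(2, 26, true), (1, 25, true), (0, 24, true)], 180), ([(2, 31, true), (1, 30, true)], 16), ([(2, 35, true)], 503), ([], 216), ([], 200), ([], 302)],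
  [([(1, 6, true), (0, 4, true), (4, 41, true), (3, 39, true)], 139), ([(1, 14, true), (0, 12, true)], 296), ([(1, 21, true), (0, 19, true), (2, 40, true)], 375), ([(1, 27, true), (0, 25, true)], 25), ([(1, 32, true), (0, 30, true)], 205), ([(1, 36, true)], 323), ([(1, 39, true)], 217), ([], 20), ([], 303)],
  [([(5, 8, true), (4, 7, true), (3, 5, true), (2, 4, true), (1, 3, true), (0, 1, true), (3, 27, true), (4, 39, true), (4, 34, true), (5, 38, true), (6, 41, true), (7, 44, true), (6, 36, true), (5, 35, true), (5, 41, true), (6, 44, true), (7, 44, true)], 404), ([(5, 16, true), (4, 15, true), (3, 13, true), (2, 12, true), (1, 11, true), (0, 9, true), (1, 30, true), (2, 43, true), (3, 44, true)], 298), ([(5, 23, true), (4, 22, true), (3, 20, true), (2, 19, true), (1, 18, true), (4, 32, true), (3, 31, true), (6, 43, true), (7, 38, true), (6, 37, true), (5, 36, true), (4, 35, true), (4, 41, true), (5, 43, true), (6, 44, true), (5, 42, true)], 165), ([(5, 29, true), (4, 28, true), (3, 26, true), (2, 25, true), (1, 24, true), (3, 43, true), (4, 44, true)], 85),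 ([(5, 34, true), (4, 33, true), (3, 31, true), (2, 30, true)], 22), ([(5, 38, true), (4, 37, true), (3, 35, true), (3, 43, true), (4, 44, true)], 321), ([(5, 41, true), (4, 40, true)], 509), ([(5, 43, true), (4, 42, true)], 206), ([(5, 44, true)], 297)],
  [([(3, 7, true), (2, 6, true), (1, 4, true), (0, 1, true), (3, 32, true), (5, 38, true), (4, 36, true), (6, 41, true), (5, 39, true), (5, 44, true)], 103), ([(3, 15, true), (2, 14, true), (1, 12, true), (0, 9, true), (3, 43, true), (2, 42, true)], 303), ([(3, 22, true), (2, 21, true), (1, 19, true), (3, 40, true), (5, 43, true), (4, 42, true)], 495), ([(3, 28, true), (2, 27, true), (1, 25, true)], 457), ([(3, 33, true), (2, 32, true), (1, 30, true), (2, 43, true)], 202), ([(3, 37, true), (2, 36, true)], 501), ([(3, 40, true), (2, 39, true)], 508), ([(3, 42, true)], 19), ([], 296)],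
  [([(3, 8, true), (2, 7, true), (1, 5, true), (0, 3, true), (3, 38, true), (2, 36, true), (4, 44, true), (5, 44, true)], 445), ([(3, 16, true), (2, 15, true), (1, 13, true), (0, 11, true), (4, 43, true), (5, 44, true)], 297), ([(3, 23, true), (2, 22, true), (1, 20, true), (0, 18, true), (3, 36, true), (2, 35, true), (2, 41, true), (3, 43, true), (4, 44, true)], 485), ([(3, 29, true), (2, 28, true), (1, 26, true), (0, 24, true), (1, 43, true), (2, 44, true)], 28), ([(3, 34, true), (2, 33, true), (1, 31, true)], 21), ([(3, 38, true), (2, 37, true), (1, 35, true), (1, 43, true), (2, 44, true)], 498), ([(3, 41, true), (2, 40, true)], 304), ([(3, 43, true), (2, 42, true)], 204), ([(3, 44, true)], 298)],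
  [([(1, 7, true), (0, 6, true)], 51), ([(1, 15, true), (0, 14, true), (3, 43, true), (2, 42, true)], 301), ([(1, 22, true), (0, 21, true), (2, 43, true)], 488), ([(1, 28, true), (0, 27, true)], 176), ([(1, 33, true), (0, 32, true), (2, 43, true)], 201), ([(1, 37, true), (0, 36, true)], 327), ([(1, 40, true), (0, 39, true)], 305), ([(1, 42, true)], 17), ([], 299)]]

/-- Derivations closing the normal words, part 3. -/
def multClosing3 : List (List (List (ℕ × ℕ × Bool) × ℕ)) := [
  [([(4, 8, true), (3, 3, true), (2, 2, true), (1, 1, true), (0, 0, true), (2, 21, true), (1, 17, true), (2, 44, true), (1, 27, true), (2, 39, true), (2, 44, true)], 497), ([(4, 16, true), (3, 11, true), (2, 10, true), (1, 9, true), (2, 28, true), (4, 34, true), (3, 33, true), (5, 44, true)], 293), ([(4, 23, true), (3, 18, true), (2, 17, true)], 34), ([(4, 29, true), (3, 24, true)], 174), ([(4, 34, true)], 283), ([(4, 38, true)], 419), ([(4, 41, true)], 277), ([(4, 43, true)], 355), ([(4, 44, true)], 295)],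
  [([(5, 8, true), (4, 6, true), (3, 5, true), (2, 2, true), (1, 1, true), (0, 0, true), (2, 21, true), (1, 17, true), (2, 44, true), (1, 36, true), (3, 41, true), (2, 39, true), (2, 44, true)], 80), ([(5, 16, true), (4, 14, true), (3, 13, true), (2, 10, true), (1, 9, true), (2, 37, true), (4, 41, true), (3, 40, true), (5, 43, true), (4, 42, true), (4, 44, true)], 291), ([(5, 23, true), (4, 21, true), (3, 20, true), (2, 17, true), (4, 44, true)], 110), ([(5, 29, true), (4, 27, true), (3, 26, true), (5, 41, true), (6, 44, true)], 146), ([(5, 34, true), (4, 32, true), (3, 31, true), (6, 44, true)], 357), ([(5, 38, true), (4, 36, true), (3, 35, true), (3, 41, true), (4, 44, true)], 8), ([(5, 41, true), (4, 39, true)], 276), ([(5, 43, true)], 285), ([(5, 44, true)], 294)],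
  [([(5, 7, true), (4, 6, true), (3, 5, true), (2, 4, true), (1, 2, true), (0, 0, true), (1, 34, true), (2, 38, true), (3, 41, true), (4, 44, true), (3, 36, true), (2, 35, true), (2, 41, true), (3, 44, true), (2, 39, true)], 408), ([(5, 15, true), (4, 14, true), (3, 13, true), (2, 12, true), (1, 10, true), (3, 33, true), (4, 37, true), (6, 41, true), (5, 40, true), (7, 43, true), (6, 42, true), (6, 44, true)], 288), ([(5, 22, true), (4, 21, true), (3, 20, true), (2, 19, true), (1, 17, true), (2, 37, true), (3, 40, true), (5, 43, true), (4, 42, true)], 105), ([(5, 28, true), (4, 27, true), (3, 26, true), (2, 25, true), (5, 41, true), (6, 43, true), (7, 44, true)], 66), ([(5, 33, true), (4, 32, true), (3, 31, true), (2, 30, true), (4, 43, true)], 358), ([(5, 37, true), (4, 36, true), (3, 35, true), (3, 41, true), (4, 43, true)], 420), ([(5, 40, true), (4, 39, true)], 115), ([(5, 42, true)], 287), ([], 292)],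
  [([(5, 8, true), (4, 7, true), (3, 4, true), (2, 3, true), (1, 2, true), (0, 0, true), (1, 29, true), (2, 41, true), (3, 44, true), (2, 32, true), (4, 38, true), (3, 36, true), (5, 41, true), (4, 39, true), (4, 44, true), (5, 44, true)], 374), ([(5, 16, true), (4, 15, true), (3, 12, true), (2, 11, true), (1, 10, true), (3, 28, true), (5, 34, true), (4, 33, true), (6, 34, true), (5, 33, true), (4, 30, true), (5, 43, true), (4, 42, true), (4, 44, true)], 295), ([(5, 23, true), (4, 22, true), (3, 19, true), (2, 18, true), (1, 17, true), (3, 32, true), (2, 31, true), (5, 43, true), (6, 43, true), (5, 42, true), (5, 44, true)], 442), ([(5, 29, true), (4, 28, true), (3, 25, true), (2, 24, true), (4, 44, true)], 351), ([(5, 34, true), (4, 33, true), (3, 30, true)], 281), ([(5, 38, true), (4, 37, true)], 15), ([(5, 41, true), (4, 40, true)], 114), ([(5, 43, true), (4, 42, true)], 352), ([(5, 44, true)], 293)],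
  [([(3, 6, true), (2, 5, true), (1, 2, true), (0, 0, true), (1, 38, true), (2, 44, true)], 157), ([(3, 14, true), (2, 13, true), (1, 10, true), (3, 37, true), (5, 41, true), (4, 40, true), (6, 43, true), (5, 42, true), (5, 44, true)], 294), ([(3, 21, true), (2, 20, true), (1, 17, true)], 438), ([(3, 27, true), (2, 26, true), (4, 41, true)], 347), ([(3, 32, true), (2, 31, true)], 353), ([(3, 36, true), (2, 35, true), (2, 41, true)], 422), ([(3, 39, true)], 266), ([], 280), ([], 291)],
  [([(2, 3, true), (1, 2, true), (0, 0, true), (1, 29, true), (2, 41, true), (3, 44, true)], 162), ([(2, 11, true), (1, 10, true), (3, 28, true), (5, 34, true), (4, 33, true)], 289), ([(2, 18, true), (1, 17, true)], 33), ([(2, 24, true)], 70), ([], 286), ([], 12), ([], 267), ([], 359), ([], 290)],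
  [([(5, 7, true), (4, 4, true), (3, 3, true), (2, 2, true), (1, 1, true), (0, 0, true), (2, 21, true), (1, 17, true), (2, 44, true), (1, 27, true), (2, 39, true), (2, 34, true), (3, 38, true), (4, 41, true), (5, 44, true)], 509), ([(5, 15, true), (4, 12, true), (3, 11, true), (2, 10, true), (1, 9, true), (2, 28, true), (4, 34, true), (3, 33, true), (5, 34, true), (4, 33, true), (3, 30, true), (4, 43, true), (3, 42, true)], 290), ([(5, 22, true), (4, 19, true), (3, 18, true), (2, 17, true), (4, 32, true), (3, 31, true), (6, 43, true), (7, 43, true), (6, 42, true)], 440), ([(5, 28, true), (4, 25, true), (3, 24, true)], 151), ([(5, 33, true), (4, 30, true)], 284), ([(5, 37, true)], 416), ([(5, 40, true)], 404), ([(5, 42, true)], 356), ([], 289)],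
  [([(7, 8, true), (6, 7, true), (5, 6, true), (4, 5, true), (3, 4, true), (2, 2, true), (1, 1, true), (0, 0, true), (2, 21, true), (1, 17, true), (2, 44, true), (1, 32, true), (3, 38, true), (2, 36, true), (4, 41, true), (3, 39, true), (3, 44, true), (2, 35, true), (2, 44, true), (4, 44, true)], 93), ([(7, 16, true), (6, 15, true), (5, 14, true), (4, 13, true), (3, 12, true), (2, 10, true), (1, 9, true), (2, 33, true), (3, 37, true), (5, 41, true), (4, 40, true), (6, 43, true), (5, 42, true), (5, 44, true)], 292), ([(7, 23, true), (6, 22, true), (5, 21, true), (4, 20, true), (3, 19, true), (2, 17, true), (3, 37, true), (4, 40, true), (6, 43, true), (5, 42, true), (5, 44, true)], 432), ([(7, 29, true), (6, 28, true), (5, 27, true), (4, 26, true), (3, 25, true), (6, 41, true), (7, 43, true), (8, 44, true)], 171), ([(7, 34, true), (6, 33, true), (5, 32, true), (4, 31, true), (3, 30, true), (5, 43, true), (6, 44, true)], 354), ([(7, 38, true), (6, 37, true), (5, 36, true), (4, 35, true), (4, 41, true), (5, 43, true), (6, 44, true)], 10), ([(7, 41, true), (6, 40,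 true), (5, 39, true)], 405), ([(7, 43, true), (6, 42, true)], 282), ([(7, 44, true)], 288)],
  [([(3, 8, true), (2, 4, true), (1, 3, true), (0, 0, true), (2, 34, true), (1, 32, true), (3, 44, true), (2, 36, true), (3, 39, true), (3, 44, true)], 90), ([(3, 16, true), (2, 12, true), (1, 11, true), (3, 30, true)], 467), ([(3, 23, true), (2, 19, true), (1, 18, true), (4, 32, true), (3, 31, true), (6, 43, true), (7, 44, true)], 66), ([(3, 29, true), (2, 25, true), (1, 24, true)], 244), ([(3, 34, true), (2, 30, true)], 439), ([(3, 38, true)], 49), ([(3, 41, true)], 138), ([(3, 43, true)], 454), ([(3, 44, true)], 469)],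
  [([(4, 8, true), (3, 6, true), (2, 5, true), (1, 4, true), (0, 0, true), (3, 38, true), (2, 36, true), (1, 35, true), (1, 41, true), (2, 44, true), (2, 41, true), (1, 39, true), (1, 44, true)], 217), ([(4, 16, true), (3, 14, true), (2, 13, true), (1, 12, true), (4, 41, true), (5, 43, true), (6, 44, true)], 470), ([(4, 23, true), (3, 21, true), (2, 20, true), (1, 19, true), (3, 37, true), (4, 40, true), (6, 44, true)], 98), ([(4, 29, true), (3, 27, true), (2, 26, true), (1, 25, true), (4, 41, true), (5, 44, true)], 442), ([(4, 34, true), (3, 32, true), (2, 31, true), (1, 30, true), (3, 44, true)], 451), ([(4, 38, true), (3, 36, true), (2, 35, true), (2, 41, true), (3, 44, true)], 210), ([(4, 41, true), (3, 39, true)], 139), ([(4, 43, true)], 434), ([(4, 44, true)], 468)],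
  [([(5, 8, true), (4, 7, true), (3, 4, true), (2, 3, true), (1, 1, true), (0, 0, true), (2, 27, true), (3, 39, true), (3, 34, true), (4, 38, true), (5, 41, true), (6, 44, true), (7, 44, true)], 258), ([(5, 16, true), (4, 15, true), (3, 12, true), (2, 11, true), (1, 9, true), (2, 30, true)], 464), ([(5, 23, true), (4, 22, true), (3, 19, true), (2, 18, true), (5, 32, true), (4, 31, true), (7, 43, true), (8, 43, true), (7, 42, true), (7, 44, true)], 65), ([(5, 29, true), (4, 28, true), (3, 25, true), (2, 24, true), (4, 44, true)], 37), ([(5, 34, true), (4, 33, true), (3, 30, true)], 436), ([(5, 38, true), (4, 37, true)], 212), ([(5, 41, true), (4, 40, true)], 63), ([(5, 43, true), (4, 42, true)], 453), ([(5, 44, true)], 471)],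
  [([(5, 7, true), (4, 6, true), (3, 5, true), (2, 4, true), (1, 1, true), (0, 0, true), (2, 32, true), (4, 38, true), (3, 36, true), (5, 41, true), (4, 39, true), (4, 44, true), (3, 35, true), (3, 44, true)], 372), ([(5, 15, true), (4, 14, true), (3, 13, true), (2, 12, true), (1, 9, true), (3, 41, true), (4, 43, true), (5, 44, true), (4, 42, true)], 468), ([(5, 22, true), (4, 21, true), (3, 20, true), (2, 19, true), (4, 37, true), (5, 40, true), (7, 43, true), (6, 42, true)], 282), ([(5, 28, true), (4, 27, true), (3, 26, true), (2, 25, true), (5, 41, true), (6, 43, true), (7, 44, true)], 251), ([(5, 33, true), (4, 32, true), (3, 31, true), (2, 30, true), (4, 43, true)], 448), ([(5, 37, true), (4, 36, true), (3, 35, true), (3, 41, true), (4, 43, true)], 54), ([(5, 40, true), (4, 39, true)], 62), ([(5, 42, true)], 432), ([], 470)],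
  [([(4, 8, true), (3, 7, true), (2, 6, true), (1, 5, true), (0, 0, true), (1, 41, true), (2, 43, true), (3, 44, true)], 499), ([(4, 16, true), (3, 15, true), (2, 14, true), (1, 13, true), (3, 41, true), (4, 43, true), (5, 44, true), (4, 42, true)], 466), ([(4, 23, true), (3, 22, true), (2, 21, true), (1, 20, true), (4, 43, true), (5, 44, true)], 280), ([(4, 29, true), (3, 28, true), (2, 27, true), (1, 26, true), (3, 41, true), (4, 43, true), (5, 44, true)], 242), ([(4, 34, true), (3, 33, true), (2, 32, true), (1, 31, true), (4, 43, true), (5, 44, true)], 455), ([(4, 38, true), (3, 37, true), (2, 36, true), (1, 35, true), (1, 41, true), (2, 43, true), (3, 44, true)], 208), ([(4, 41, true), (3, 40, true), (2, 39, true)], 427), ([(4, 43, true), (3, 42, true)], 438), ([(4, 44, true)], 465)],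
  [([(2, 7, true), (1, 3, true), (0, 0, true), (2, 43, true), (3, 44, true)], 29), ([(2, 15, true), (1, 11, true)], 471), ([(2, 22, true), (1, 18, true)], 144), ([(2, 28, true), (1, 24, true)], 444), ([(2, 33, true)], 435), ([(2, 37, true)], 50), ([(2, 40, true)], 426), ([(2, 42, true)], 450), ([], 464)],
  [([(3, 6, true), (2, 5, true), (1, 1, true), (0, 0, true), (2, 36, true), (4, 41, true), (3, 39, true)], 486), ([(3, 14, true), (2, 13, true), (1, 9, true), (2, 41, true), (3, 43, true), (4, 44, true)], 465), ([(3, 21, true), (2, 20, true)], 97), ([(3, 27, true), (2, 26, true), (4, 41, true)], 34), ([(3, 32, true), (2, 31, true)], 452), ([(3, 36, true), (2, 35, true), (2, 41, true)], 52), ([(3, 39, true)], 135), ([], 437), ([], 466)],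
  [([(2, 3, true), (1, 1, true), (0, 0, true), (2, 27, true), (3, 39, true)], 159), ([(2, 11, true), (1, 9, true)], 469), ([(2, 18, true)], 146), ([(2, 24, true)], 253), ([], 433), ([], 214), ([], 134), ([], 449), ([], 467)],
  [([(5, 6, true), (4, 4, true), (3, 3, true), (2, 2, true), (1, 1, true), (0, 0, true), (2, 21, true), (1, 17, true), (2, 44, true), (1, 27, true), (2, 39, true), (2, 34, true), (3, 38, true), (4, 41, true), (5, 44, true), (4, 39, true)], 18), ([(5, 14, true), (4, 12, true), (3, 11, true), (2, 10, true), (1, 9, true), (2, 28, true), (4, 34, true), (3, 33, true), (5, 34, true), (4, 33, true), (3, 30, true), (4, 41, true), (3, 40, true), (5, 43, true), (4, 42, true), (4, 44, true)], 267), ([(5, 21, true), (4, 19, true), (3, 18, true), (2, 17, true), (4, 32, true), (3, 31, true), (6, 43, true), (7, 41, true), (6, 40, true), (5, 39, true), (6, 44, true)], 55), ([(5, 27, true), (4, 25, true), (3, 24, true)], 390), ([(5, 32, true), (4, 30, true)], 277), ([(5, 36, true)], 65), ([(5, 39, true)], 356), ([], 404), ([], 270)],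
  [([(4, 5, true), (3, 4, true), (2, 2, true), (1, 1, true), (0, 0, true), (2, 21, true), (1, 17, true), (2, 44, true), (1, 32, true), (3, 38, true), (2, 36, true), (4, 41, true), (3, 39, true), (3, 44, true), (2, 35, true), (2, 44, true)], 307), ([(4, 13, true), (3, 12, true), (2, 10, true), (1, 9, true), (2, 33, true), (3, 37, true)], 269), ([(4, 20, true), (3, 19, true), (2, 17, true), (3, 37, true)], 62), ([(4, 26, true), (3, 25, true)], 396), ([(4, 31, true), (3, 30, true)], 403), ([(4, 35, true)], 349), ([], 357), ([], 275), ([], 271)],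
  [([(6, 8, true), (5, 7, true), (4, 6, true), (3, 4, true), (2, 3, true), (1, 2, true), (0, 0, true), (1, 29, true), (2, 41, true), (3, 44, true), (2, 32, true), (4, 38, true), (3, 36, true), (5, 41, true), (4, 39, true), (4, 44, true), (6, 44, true)], 409), ([(6, 16, true), (5, 15, true), (4, 14, true), (3, 12, true), (2, 11, true), (1, 10, true), (3, 28, true), (5, 34, true), (4, 33, true), (6, 34, true), (5, 33, true), (4, 30, true), (5, 41, true), (4, 40, true), (6, 43, true), (5, 42, true), (5, 44, true)], 264), ([(6, 23, true), (5, 22, true), (4, 21, true), (3, 19, true), (2, 18, true), (1, 17, true), (3, 32, true), (2, 31, true), (5, 43, true), (6, 41, true), (5, 40, true), (4, 39, true), (5, 44, true), (4, 42, true)], 49), ([(6, 29, true), (5, 28, true), (4, 27, true), (3, 25, true), (2, 24, true), (5, 44, true)], 14), ([(6, 34, true), (5, 33, true), (4, 32, true), (3, 30, true), (4, 43, true), (5, 44, true)], 278), ([(6, 38, true), (5, 37, true), (4, 36, true)], 350), ([(6, 41, true), (5, 40, true), (4, 39, true)], 99), ([(6, 43, true), (5, 42, true)],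 406), ([(6, 44, true)], 268)],
  [([(4, 7, true), (3, 5, true), (2, 4, true), (1, 2, true), (0, 0, true), (1, 34, true), (2, 38, true), (3, 41, true), (4, 44, true), (3, 36, true), (2, 35, true), (2, 41, true), (3, 44, true)], 375), ([(4, 15, true), (3, 13, true), (2, 12, true), (1, 10, true), (3, 33, true), (4, 37, true), (6, 43, true), (5, 42, true)], 271), ([(4, 22, true), (3, 20, true), (2, 19, true), (1, 17, true), (2, 37, true), (3, 42, true)], 431), ([(4, 28, true), (3, 26, true), (2, 25, true), (5, 43, true), (6, 44, true)], 421), ([(4, 33, true), (3, 31, true), (2, 30, true)], 401), ([(4, 37, true), (3, 35, true), (3, 43, true)], 67), ([(4, 40, true)], 98), ([(4, 42, true)], 272), ([], 269)],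
  [([(4, 8, true), (3, 6, true), (2, 3, true), (1, 2, true), (0, 0, true), (1, 29, true), (2, 41, true), (3, 44, true), (2, 39, true)], 363), ([(4, 16, true), (3, 14, true), (2, 11, true), (1, 10, true), (3, 28, true), (5, 34, true), (4, 33, true), (6, 41, true), (5, 40, true), (7, 43, true), (6, 42, true), (6, 44, true)], 270), ([(4, 23, true), (3, 21, true), (2, 18, true), (1, 17, true), (3, 39, true), (3, 44, true)], 335), ([(4, 29, true), (3, 27, true), (2, 24, true)], 422), ([(4, 34, true), (3, 32, true), (5, 44, true)], 273), ([(4, 38, true), (3, 36, true)], 347), ([(4, 41, true), (3, 39, true)], 290), ([(4, 43, true)], 400), ([(4, 44, true)], 267)],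
  [([(3, 8, true), (2, 5, true), (1, 2, true), (0, 0, true), (1, 38, true), (2, 44, true)], 383), ([(3, 16, true), (2, 13, true), (1, 10, true), (3, 37, true), (5, 44, true)], 265), ([(3, 23, true), (2, 20, true), (1, 17, true)], 57), ([(3, 29, true), (2, 26, true), (4, 44, true)], 12), ([(3, 34, true), (2, 31, true)], 407), ([(3, 38, true), (2, 35, true), (2, 44, true)], 70), ([(3, 41, true)], 291), ([(3, 43, true)], 279), ([(3, 44, true)], 266)],
  [([(5, 8, true), (4, 7, true), (3, 5, true), (2, 2, true), (1, 1, true), (0, 0, true), (2, 21, true), (1, 17, true), (2, 44, true), (1, 36, true), (3, 43, true), (4, 44, true)], 479), ([(5, 16, true), (4, 15, true), (3, 13, true), (2, 10, true), (1, 9, true), (2, 37, true), (4, 43, true), (3, 42, true), (3, 44, true)], 266), ([(5, 23, true), (4, 22, true), (3, 20, true), (2, 17, true)], 425), ([(5, 29, true), (4, 28, true), (3, 26, true), (5, 43, true), (6, 44, true)], 389), ([(5, 34, true), (4, 33, true), (3, 31, true)], 405), ([(5, 38, true), (4, 37, true), (3, 35, true), (3, 43, true), (4, 44, true)], 344),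 ([(5, 41, true), (4, 40, true)], 285), ([(5, 43, true), (4, 42, true)], 276), ([(5, 44, true)], 265)],
  [([(5, 7, true), (4, 6, true), (3, 3, true), (2, 2, true), (1, 1, true), (0, 0, true), (2, 21, true), (1, 17, true), (2, 44, true), (1, 27, true), (2, 39, true), (2, 41, true), (3, 43, true), (4, 44, true)], 30), ([(5, 15, true), (4, 14, true), (3, 11, true), (2, 10, true), (1, 9, true), (2, 28, true), (4, 34, true), (3, 33, true), (5, 41, true), (4, 40, true), (6, 43, true), (5, 42, true), (5, 44, true)], 268), ([(5, 22, true), (4, 21, true), (3, 18, true), (2, 17, true), (4, 39, true), (4, 43, true)], 328), ([(5, 28, true), (4, 27, true), (3, 24, true)], 398), ([(5, 33, true), (4, 32, true), (6, 43, true)], 274), ([(5, 37, true), (4, 36, true)], 68), ([(5, 40, true), (4, 39, true)], 284), ([(5, 42, true)], 402), ([], 264)],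
  [([(2, 8, true), (1, 6, true), (0, 5, true), (2, 41, true), (3, 44, true)], 451), ([(2, 16, true), (1, 14, true), (0, 13, true), (2, 41, true), (3, 43, true), (4, 44, true)], 479), ([(2, 23, true), (1, 21, true), (0, 20, true), (3, 44, true)], 157), ([(2, 29, true), (1, 27, true), (0, 26, true), (2, 41, true), (3, 44, true)], 510), ([(2, 34, true), (1, 32, true), (0, 31, true), (3, 44, true)], 323), ([(2, 38, true), (1, 36, true), (0, 35, true), (0, 41, true), (1, 44, true)], 17), ([(2, 41, true), (1, 39, true)], 462), ([(2, 43, true)], 499), ([(2, 44, true)], 477)],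
  [([(1, 8, true), (0, 3, true), (3, 44, true)], 132), ([(1, 16, true), (0, 11, true)], 475), ([(1, 23, true), (0, 18, true)], 192), ([(1, 29, true), (0, 24, true)], 234), ([(1, 34, true)], 503), ([(1, 38, true)], 204), ([(1, 41, true)], 463), ([(1, 43, true)], 326), ([(1, 44, true)], 476)],
  [([(3, 8, true), (2, 7, true), (1, 3, true), (0, 1, true), (3, 27, true), (4, 39, true), (4, 43, true), (5, 44, true)], 355), ([(3, 16, true), (2, 15, true), (1, 11, true), (0, 9, true)], 472), ([(3, 23, true), (2, 22, true), (1, 18, true)], 196), ([(3, 29, true), (2, 28, true), (1, 24, true), (2, 44, true)], 219), ([(3, 34, true), (2, 33, true)], 500), ([(3, 38, true), (2, 37, true)], 22), ([(3, 41, true), (2, 40, true)], 179), ([(3, 43, true), (2, 42, true)], 325), ([(3, 44, true)], 478)],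
  [([(3, 7, true), (2, 6, true), (1, 5, true), (0, 1, true), (3, 36, true), (5, 41, true), (4, 39, true), (4, 43, true), (5, 44, true)], 265), ([(3, 15, true), (2, 14, true), (1, 13, true), (0, 9, true), (1, 41, true), (2, 43, true), (3, 44, true), (2, 42, true)], 477), ([(3, 22, true), (2, 21, true), (1, 20, true), (4, 43, true)], 45), ([(3, 28, true), (2, 27, true), (1, 26, true), (3, 41, true), (4, 43, true), (5, 44, true)], 311), ([(3, 33, true), (2, 32, true), (1, 31, true), (4, 43, true)], 320), ([(3, 37, true), (2, 36, true), (1, 35, true), (1, 41, true), (2, 43, true)], 202), ([(3, 40, true), (2, 39, true)], 178), ([(3, 42, true)], 496), ([], 479)],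
  [([(4, 8, true), (3, 7, true), (2, 6, true), (1, 5, true), (0, 4, true), (4, 38, true), (3, 36, true), (2, 35, true), (2, 41, true), (3, 44, true), (3, 41, true), (2, 39, true), (2, 43, true), (3, 44, true)], 38), ([(4, 16, true), (3, 15, true), (2, 14, true), (1, 13, true), (0, 12, true), (3, 41, true), (4, 43, true), (5, 44, true), (4, 42, true)], 474), ([(4, 23, true), (3, 22, true), (2, 21, true), (1, 20, true), (0, 19, true), (2, 37, true), (3, 40, true), (5, 43, true), (4, 42, true), (4, 44, true)], 40), ([(4, 29, true), (3, 28, true), (2, 27, true), (1, 26, true), (0, 25, true), (3, 41, true), (4, 43, true), (5, 44, true)], 239), ([(4, 34, true), (3, 33, true), (2, 32, true), (1, 31, true), (0, 30, true), (2, 43, true), (3, 44, true)], 327), ([(4, 38, true), (3, 37, true), (2, 36, true), (1, 35, true), (1, 41, true), (2, 43, true), (3, 44, true)], 20), ([(4, 41, true), (3, 40, true), (2, 39, true)], 86), ([(4, 43, true), (3, 42, true)], 502), ([(4, 44, true)], 473)],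
  [([(2, 7, true), (1, 4, true), (0, 3, true), (3, 34, true), (2, 32, true), (4, 44, true), (3, 36, true), (4, 39, true), (4, 43, true), (5, 44, true)], 191), ([(2, 15, true), (1, 12, true), (0, 11, true), (2, 30, true)], 478), ([(2, 22, true), (1, 19, true), (0, 18, true), (3, 32, true), (2, 31, true), (5, 43, true), (6, 43, true), (5, 42, true)], 341), ([(2, 28, true), (1, 25, true), (0, 24, true)], 506), ([(2, 33, true), (1, 30, true)], 498), ([(2, 37, true)], 200), ([(2, 40, true)], 87), ([(2, 42, true)], 322), ([], 472)],
  [([(2, 4, true), (1, 3, true), (0, 1, true), (3, 27, true), (4, 39, true), (4, 34, true), (5, 38, true), (6, 41, true), (7, 44, true)], 65), ([(2, 12, true), (1, 11, true), (0, 9, true), (1, 30, true)], 476), ([(2, 19, true), (1, 18, true), (4, 32, true), (3, 31, true), (6, 43, true)], 337), ([(2, 25, true), (1, 24, true)], 307), ([(2, 30, true)], 497), ([], 18), ([], 27), ([], 321), ([], 475)],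
  [([(3, 6, true), (2, 5, true), (1, 4, true), (0, 1, true), (3, 32, true), (5, 38, true), (4, 36, true), (6, 41, true), (5, 39, true), (5, 44, true), (4, 35, true), (4, 44, true)], 390), ([(3, 14, true), (2, 13, true), (1, 12, true), (0, 9, true), (2, 41, true), (3, 43, true), (4, 44, true)], 473), ([(3, 21, true), (2, 20, true), (1, 19, true), (3, 37, true), (4, 40, true)], 152), ([(3, 27, true), (2, 26, true), (1, 25, true), (4, 41, true)], 222), ([(3, 32, true), (2, 31, true), (1, 30, true)], 324), ([(3, 36, true), (2, 35, true), (2, 41, true)], 207), ([(3, 39, true)], 26), ([], 501), ([], 474)]]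

/-- Derivations closing the normal words, part 4. -/
def multClosing4 : List (List (List (ℕ × ℕ × Bool) × ℕ)) := [
  [([(4, 8, true), (3, 7, true), (2, 5, true), (1, 4, true), (0, 0, true), (3, 38, true), (2, 36, true), (1, 35, true), (1, 41, true), (2, 44, true), (2, 43, true), (3, 44, true)], 201), ([(4, 16, true), (3, 15, true), (2, 13, true), (1, 12, true), (4, 43, true), (5, 44, true)], 62), ([(4, 23, true), (3, 22, true), (2, 20, true), (1, 19, true), (3, 37, true), (4, 42, true)], 407), ([(4, 29, true), (3, 28, true), (2, 26, true), (1, 25, true), (4, 43, true), (5, 44, true)], 332), ([(4, 34, true), (3, 33, true), (2, 31, true), (1, 30, true)], 427), ([(4, 38, true), (3, 37, true), (2, 35, true), (2, 43, true), (3, 44, true)], 249), ([(4, 41, true), (3, 40, true)], 434), ([(4, 43, true), (3, 42, true)], 139), ([(4, 44, true)], 61)],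
  [([(4, 7, true), (3, 6, true), (2, 4, true), (1, 3, true), (0, 0, true), (2, 34, true), (1, 32, true), (3, 44, true), (2, 36, true), (3, 39, true), (3, 41, true), (4, 43, true), (5, 44, true)], 507), ([(4, 15, true), (3, 14, true), (2, 12, true), (1, 11, true), (3, 30, true), (5, 43, true), (4, 42, true)], 58), ([(4, 22, true), (3, 21, true), (2, 19, true), (1, 18, true), (4, 32, true), (3, 31, true), (6, 43, true), (7, 41, true), (6, 40, true), (5, 39, true), (6, 44, true), (5, 42, true)], 386), ([(4, 28, true), (3, 27, true), (2, 25, true), (1, 24, true)], 190), ([(4, 33, true), (3, 32, true), (2, 30, true), (3, 43, true)], 143), ([(4, 37, true), (3, 36, true)], 39), ([(4, 40, true), (3, 39, true)], 435), ([(4, 42, true)], 430), ([], 60)],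
  [([(5, 7, true), (4, 6, true), (3, 4, true), (2, 3, true), (1, 1, true), (0, 0, true), (2, 27, true), (3, 39, true), (3, 34, true), (4, 38, true), (5, 41, true), (6, 44, true), (5, 39, true)], 0), ([(5, 15, true), (4, 14, true), (3, 12, true), (2, 11, true), (1, 9, true), (2, 30, true), (4, 43, true), (3, 42, true)], 56), ([(5, 22, true), (4, 21, true), (3, 19, true), (2, 18, true), (5, 32, true), (4, 31, true), (7, 43, true), (8, 41, true), (7, 40, true), (6, 39, true), (7, 44, true), (6, 42, true)], 391), ([(5, 28, true), (4, 27, true), (3, 25, true), (2, 24, true)], 54), ([(5, 33, true), (4, 32, true), (3, 30, true), (4, 43, true)], 141), ([(5, 37, true), (4, 36, true)], 251), ([(5, 40, true), (4, 39, true)], 471), ([(5, 42, true)], 429), ([], 63)],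
  [([(5, 8, true), (4, 7, true), (3, 5, true), (2, 4, true), (1, 1, true), (0, 0, true), (2, 32, true), (4, 38, true), (3, 36, true), (5, 41, true), (4, 39, true), (4, 44, true), (3, 35, true), (3, 44, true), (4, 44, true)], 336), ([(5, 16, true), (4, 15, true), (3, 13, true), (2, 12, true), (1, 9, true), (3, 43, true), (4, 44, true)], 61), ([(5, 23, true), (4, 22, true), (3, 20, true), (2, 19, true), (4, 37, true), (5, 42, true)], 271), ([(5, 29, true), (4, 28, true), (3, 26, true), (2, 25, true), (5, 43, true), (6, 44, true)], 212), ([(5, 34, true), (4, 33, true), (3, 31, true), (2, 30, true)], 425), ([(5, 38, true), (4, 37, true), (3, 35, true), (3, 43, true), (4, 44, true)], 37), ([(5, 41, true), (4, 40, true)], 470), ([(5, 43, true), (4, 42, true)], 137), ([(5, 44, true)], 62)],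
  [([(2, 6, true), (1, 3, true), (0, 0, true), (2, 41, true), (1, 39, true)], 121), ([(2, 14, true), (1, 11, true)], 63), ([(2, 21, true), (1, 18, true), (4, 39, true)], 423), ([(2, 27, true), (1, 24, true)], 334), ([(2, 32, true)], 138), ([(2, 36, true)], 33), ([(2, 39, true)], 450), ([], 426), ([], 56)],
  [([(1, 5, true), (0, 0, true)], 462), ([(1, 13, true)], 59), ([(1, 20, true)], 266), ([(1, 26, true)], 189), ([(1, 31, true)], 431), ([(1, 35, true)], 255), ([], 451), ([], 142), ([], 57)],
  [([(3, 6, true), (2, 3, true), (1, 1, true), (0, 0, true), (2, 27, true), (3, 39, true), (3, 41, true)], 487), ([(3, 14, true), (2, 11, true), (1, 9, true)], 60), ([(3, 21, true), (2, 18, true), (5, 39, true)], 419), ([(3, 27, true), (2, 24, true)], 215), ([(3, 32, true)], 136), ([(3, 36, true)], 252), ([(3, 39, true)], 111), ([], 424), ([], 58)],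
  [([(2, 5, true), (1, 1, true), (0, 0, true), (2, 36, true)], 158), ([(2, 13, true), (1, 9, true)], 57), ([(2, 20, true)], 403), ([(2, 26, true)], 53), ([(2, 31, true)], 428), ([(2, 35, true)], 35), ([], 110), ([], 140), ([], 59)],
  [([(5, 8, true), (4, 6, true), (3, 4, true), (2, 3, true), (1, 1, true), (0, 0, true), (2, 27, true), (3, 39, true), (3, 34, true), (4, 38, true), (5, 41, true), (6, 44, true), (5, 39, true)], 494), ([(5, 16, true), (4, 14, true), (3, 12, true), (2, 11, true), (1, 9, true), (2, 30, true), (4, 44, true)], 426), ([(5, 23, true), (4, 21, true), (3, 19, true), (2, 18, true), (5, 32, true), (4, 31, true), (7, 43, true), (8, 41, true), (7, 40, true), (6, 39, true), (7, 44, true)], 11), ([(5, 29, true), (4, 27, true), (3, 25, true), (2, 24, true)], 184), ([(5, 34, true), (4, 32, true), (3, 30, true), (4, 44, true)], 134), ([(5, 38, true), (4, 36, true)], 440), ([(5, 41, true), (4, 39, true)], 453), ([(5, 43, true)], 63), ([(5, 44, true)], 429)],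
  [([(4, 8, true), (3, 5, true), (2, 4, true), (1, 1, true), (0, 0, true), (2, 32, true), (4, 38, true), (3, 36, true), (5, 41, true), (4, 39, true), (4, 44, true), (3, 35, true), (3, 44, true)], 198), ([(4, 16, true), (3, 13, true), (2, 12, true), (1, 9, true), (3, 44, true)], 431), ([(4, 23, true), (3, 20, true), (2, 19, true), (4, 37, true)], 405), ([(4, 29, true), (3, 26, true), (2, 25, true), (5, 44, true)], 331), ([(4, 34, true), (3, 31, true), (2, 30, true)], 59), ([(4, 38, true), (3, 35, true), (3, 44, true)], 247), ([(4, 41, true)], 452), ([(4, 43, true)], 131), ([(4, 44, true)], 428)],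
  [([(4, 8, true), (3, 6, true), (2, 4, true), (1, 3, true), (0, 0, true), (2, 34, true), (1, 32, true), (3, 44, true), (2, 36, true), (3, 39, true), (3, 41, true), (4, 44, true)], 216), ([(4, 16, true), (3, 14, true), (2, 12, true), (1, 11, true), (3, 30, true), (5, 44, true)], 424), ([(4, 23, true), (3, 21, true), (2, 19, true), (1, 18, true), (4, 32, true), (3, 31, true), (6, 43, true), (7, 41, true), (6, 40, true), (5, 39, true), (6, 44, true)], 15), ([(4, 29, true), (3, 27, true), (2, 25, true), (1, 24, true)], 48), ([(4, 34, true), (3, 32, true), (2, 30, true), (3, 44, true)], 132), ([(4, 38, true), (3, 36, true)], 245), ([(4, 41, true), (3, 39, true)], 104), ([(4, 43, true)], 60), ([(4, 44, true)], 430)],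
  [([(3, 8, true), (2, 5, true), (1, 4, true), (0, 0, true), (3, 38, true), (2, 36, true), (1, 35, true), (1, 41, true), (2, 44, true), (2, 44, true)], 91), ([(3, 16, true), (2, 13, true), (1, 12, true), (4, 44, true)], 428), ([(3, 23, true), (2, 20, true), (1, 19, true), (3, 37, true)], 269), ([(3, 29, true), (2, 26, true), (1, 25, true), (4, 44, true)], 211), ([(3, 34, true), (2, 31, true), (1, 30, true)], 57), ([(3, 38, true), (2, 35, true), (2, 44, true)], 443), ([(3, 41, true)], 105), ([(3, 43, true)], 128), ([(3, 44, true)], 431)],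
  [([(3, 7, true), (2, 5, true), (1, 1, true), (0, 0, true), (2, 36, true), (4, 43, true), (5, 44, true)], 74), ([(3, 15, true), (2, 13, true), (1, 9, true), (2, 43, true)], 427), ([(3, 22, true), (2, 20, true)], 265), ([(3, 28, true), (2, 26, true), (4, 43, true), (5, 44, true)], 187), ([(3, 33, true), (2, 31, true)], 62), ([(3, 37, true), (2, 35, true), (2, 43, true)], 240), ([(3, 40, true)], 437), ([(3, 42, true)], 135), ([], 425)],
  [([(5, 8, true), (4, 7, true), (3, 6, true), (2, 3, true), (1, 1, true), (0, 0, true), (2, 27, true), (3, 39, true), (3, 41, true), (4, 43, true), (5, 44, true)], 161), ([(5, 16, true), (4, 15, true), (3, 14, true), (2, 11, true), (1, 9, true), (5, 43, true), (4, 42, true), (4, 44, true)], 430), ([(5, 23, true), (4, 22, true), (3, 21, true), (2, 18, true), (5, 39, true), (5, 43, true), (6, 44, true)], 399), ([(5, 29, true), (4, 28, true), (3, 27, true), (2, 24, true), (4, 44, true)], 329), ([(5, 34, true), (4, 33, true), (3, 32, true), (5, 43, true), (6, 44, true)], 130), ([(5, 38, true), (4, 37, true), (3, 36, true)], 446),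 ([(5, 41, true), (4, 40, true), (3, 39, true)], 436), ([(5, 43, true), (4, 42, true)], 58), ([(5, 44, true)], 424)],
  [([(2, 7, true), (1, 5, true), (0, 0, true), (1, 43, true), (2, 44, true)], 177), ([(2, 15, true), (1, 13, true), (3, 43, true)], 425), ([(2, 22, true), (1, 20, true)], 401), ([(2, 28, true), (1, 26, true), (3, 43, true), (4, 44, true)], 50), ([(2, 33, true), (1, 31, true)], 61), ([(2, 37, true), (1, 35, true), (1, 43, true)], 444), ([(2, 40, true)], 465), ([(2, 42, true)], 133), ([], 427)],
  [([(4, 8, true), (3, 7, true), (2, 6, true), (1, 3, true), (0, 0, true), (2, 41, true), (1, 39, true), (1, 43, true), (2, 44, true)], 326), ([(4, 16, true), (3, 15, true), (2, 14, true), (1, 11, true), (6, 43, true), (5, 42, true), (5, 44, true)], 429), ([(4, 23, true), (3, 22, true), (2, 21, true), (1, 18, true), (4, 39, true), (4, 43, true), (5, 44, true)], 395), ([(4, 29, true), (3, 28, true), (2, 27, true), (1, 24, true), (3, 44, true)], 208), ([(4, 34, true), (3, 33, true), (2, 32, true), (4, 43, true), (5, 44, true)], 129), ([(4, 38, true), (3,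 37, true), (2, 36, true)], 242), ([(4, 41, true), (3, 40, true), (2, 39, true)], 464), ([(4, 43, true), (3, 42, true)], 56), ([(4, 44, true)], 426)],
  [([(5, 7, true), (4, 6, true), (3, 5, true), (2, 3, true), (1, 2, true), (0, 0, true), (1, 29, true), (2, 41, true), (3, 44, true), (2, 36, true), (4, 41, true), (3, 39, true), (3, 43, true), (4, 44, true)], 489), ([(5, 15, true), (4, 14, true), (3, 13, true), (2, 11, true), (1, 10, true), (3, 28, true), (5, 34, true), (4, 33, true), (6, 38, true), (5, 37, true), (7, 44, true), (6, 40, true), (7, 42, true), (7, 43, true)], 171), ([(5, 22, true), (4, 21, true), (3, 20, true), (2, 18, true), (1, 17, true), (3, 36, true), (2, 35, true), (2, 41, true), (3, 41, true), (2, 39, true), (2, 44, true)], 109), ([(5, 28, true), (4, 27, true), (3, 26, true), (2, 24, true), (3, 41, true), (4, 43, true), (5, 44, true)], 280), ([(5, 33, true), (4, 32, true), (3, 31, true), (6, 43, true)], 350), ([(5, 37, true), (4, 36, true), (3, 35, true), (3, 41, true), (4, 43, true)], 400), ([(5, 40, true), (4, 39, true)], 395), ([(5, 42,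 true)], 71), ([], 172)],
  [([(3, 8, true), (2, 7, true), (1, 2, true), (0, 0, true), (1, 43, true), (2, 44, true)], 260), ([(3, 16, true), (2, 15, true), (1, 10, true), (3, 42, true)], 174), ([(3, 23, true), (2, 22, true), (1, 17, true)], 444), ([(3, 29, true), (2, 28, true), (4, 44, true)], 359), ([(3, 34, true), (2, 33, true)], 67), ([(3, 38, true), (2, 37, true)], 279), ([(3, 41, true), (2, 40, true)], 394), ([(3, 43, true), (2, 42, true)], 346), ([(3, 44, true)], 173)],
  [([(5, 6, true), (4, 5, true), (3, 3, true), (2, 2, true), (1, 1, true), (0, 0, true), (2, 21, true), (1, 17, true), (2, 44, true), (1, 27, true), (2, 39, true), (2, 38, true), (3, 44, true)], 236), ([(5, 14, true), (4, 13, true), (3, 11, true), (2, 10, true), (1, 9, true), (2, 28, true), (4, 34, true), (3, 33, true), (5, 38, true), (4, 37, true), (6, 44, true), (5, 40, true), (6, 42, true)], 168), ([(5, 21, true), (4, 20, true), (3, 18, true), (2, 17, true), (4, 36, true), (3, 35, true), (3, 41, true), (4, 41, true), (3, 39, true), (3, 44, true)], 111), ([(5, 27, true), (4, 26, true),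 (3, 24, true), (4, 41, true)], 97), ([(5, 32, true), (4, 31, true)], 348), ([(5, 36, true), (4, 35, true), (4, 41, true)], 277), ([(5, 39, true)], 9), ([], 68), ([], 175)],
  [([(2, 2, true), (1, 1, true), (0, 0, true), (2, 21, true), (1, 17, true), (2, 44, true)], 89), ([(2, 10, true), (1, 9, true)], 173), ([(2, 17, true)], 253), ([], 295), ([], 64), ([], 403), ([], 8), ([], 344), ([], 174)],
  [([(2, 4, true), (1, 2, true), (0, 0, true), (1, 34, true), (2, 38, true), (3, 41, true), (4, 44, true)], 40), ([(2, 12, true), (1, 10, true), (3, 33, true)], 170), ([(2, 19, true), (1, 17, true)], 249), ([(2, 25, true)], 286), ([(2, 30, true)], 70), ([], 272), ([], 387), ([], 351), ([], 169)],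
  [([(5, 6, true), (4, 5, true), (3, 4, true), (2, 3, true), (1, 2, true), (0, 0, true), (1, 29, true), (2, 41, true), (3, 44, true), (2, 32, true), (4, 38, true), (3, 36, true), (5, 41, true), (4, 39, true), (4, 44, true), (3, 35, true), (3, 44, true)], 480), ([(5, 14, true), (4, 13, true), (3, 12, true), (2, 11, true), (1, 10, true), (3, 28, true), (5, 34, true), (4, 33, true), (6, 34, true), (5, 33, true), (4, 30, true), (5, 38, true), (4, 37, true), (6, 44, true), (5, 40, true), (6, 42, true)], 175), ([(5, 21, true), (4, 20, true), (3, 19, true), (2, 18, true), (1, 17, true), (3, 32, true), (2, 31, true), (5, 43, true), (6, 38, true), (5, 37, true), (4, 36, true), (3, 35, true), (3, 41, true), (4, 43, true), (5, 44, true), (4, 40, true), (3, 39, true)], 454), ([(5, 27, true), (4, 26, true), (3, 25, true), (2, 24, true), (4, 41, true)], 353), ([(5, 32, true), (4, 31, true), (3, 30, true)], 347), ([(5, 36, true), (4, 35, true), (4, 41, true)], 406), ([(5, 39, true)], 386), ([], 66), ([], 168)],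
  [([(7, 7, true), (6, 6, true), (5, 5, true), (4, 4, true), (3, 3, true), (2, 2, true), (1, 1, true), (0, 0, true), (2, 21, true), (1, 17, true), (2, 44, true), (1, 27, true), (2, 39, true), (2, 34, true), (3, 38, true), (4, 41, true), (5, 44, true), (4, 36, true), (3, 35, true), (3, 41, true), (4, 44, true), (3, 39, true)], 500), ([(7, 15, true), (6, 14, true), (5, 13, true), (4, 12, true), (3, 11, true), (2, 10, true), (1, 9, true), (2, 28, true), (4, 34, true), (3, 33, true), (5, 34, true), (4, 33, true), (3, 30, true), (4, 38, true), (3, 37, true), (5, 44, true), (4, 40, true), (5, 42, true), (5, 43, true)], 172), ([(7, 22, true), (6, 21, true), (5, 20, true), (4, 19, true), (3, 18, true), (2, 17, true), (4, 32, true), (3, 31, true), (6, 43, true), (7, 38, true), (6, 37, true), (5, 36, true), (4, 35, true), (4, 41, true), (5, 43, true), (6, 44, true), (5, 40, true), (4, 39, true), (5, 43, true), (4, 42, true)], 453), ([(7, 28, true), (6, 27, true), (5, 26, true), (4, 25, true), (3, 24, true), (5, 41, true), (6, 43, true), (7, 44, true)], 288), ([(7, 33,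 true), (6, 32, true), (5, 31, true), (4, 30, true), (6, 43, true)], 345), ([(7, 37, true), (6, 36, true), (5, 35, true), (5, 41, true), (6, 43, true)], 274), ([(7, 40, true), (6, 39, true)], 416), ([(7, 42, true)], 65), ([], 171)],
  [([(5, 8, true), (4, 7, true), (3, 4, true), (2, 2, true), (1, 1, true), (0, 0, true), (2, 21, true), (1, 17, true), (2, 44, true), (1, 32, true), (3, 38, true), (2, 36, true), (4, 41, true), (3, 39, true), (3, 44, true), (4, 44, true)], 456), ([(5, 16, true), (4, 15, true), (3, 12, true), (2, 10, true), (1, 9, true), (2, 33, true), (3, 42, true)], 169), ([(5, 23, true), (4, 22, true), (3, 19, true), (2, 17, true), (3, 42, true)], 441), ([(5, 29, true), (4, 28, true), (3, 25, true), (6, 44, true)], 102), ([(5, 34, true), (4, 33, true), (3, 30, true)], 69), ([(5, 38, true), (4, 37, true)], 405), ([(5, 41, true), (4, 40, true)], 417), ([(5, 43, true), (4, 42, true)], 349), ([(5, 44, true)], 170)],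
  [([(6, 8, true), (5, 7, true), (4, 6, true), (3, 5, true), (2, 4, true), (1, 2, true), (0, 1, true), (3, 21, true), (2, 17, true), (3, 44, true), (2, 32, true), (4, 38, true), (3, 36, true), (5, 41, true), (4, 39, true), (4, 44, true), (3, 35, true), (3, 44, true), (5, 44, true)], 213), ([(6, 16, true), (5, 15, true), (4, 14, true), (3, 13, true), (2, 12, true), (1, 10, true), (0, 9, true), (1, 33, true), (2, 37, true), (4, 41, true), (3, 40, true), (5, 43, true), (4, 42, true), (4, 44, true)], 364), ([(6, 23, true), (5, 22, true), (4, 21, true), (3, 20, true), (2, 19, true), (1, 17, true), (2, 37, true), (3, 40, true), (5, 43, true), (4, 42, true), (4, 44, true)], 127), ([(6, 29, true), (5, 28, true), (4, 27, true), (3, 26, true), (2, 25, true), (5, 41, true), (6, 43, true), (7, 44, true)], 337), ([(6, 34, true), (5, 33, true), (4, 32, true), (3, 31, true), (2, 30, true), (4, 43, true), (5, 44, true)], 74), ([(6, 38, true), (5, 37, true), (4, 36, true), (3, 35, true), (3, 41, true), (4, 43, true), (5, 44, true)], 1), ([(6, 41, true), (5, 40, true), (4, 39,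 true)], 318), ([(6, 43, true), (5, 42, true)], 42), ([(6, 44, true)], 367)],
  [([(4, 7, true), (3, 4, true), (2, 3, true), (1, 2, true), (0, 1, true), (3, 21, true), (2, 17, true), (3, 44, true), (2, 27, true), (3, 39, true), (3, 34, true), (4, 38, true), (5, 41, true), (6, 44, true)], 36), ([(4, 15, true), (3, 12, true), (2, 11, true), (1, 10, true), (0, 9, true), (1, 28, true), (3, 34, true), (2, 33, true), (4, 34, true), (3, 33, true), (2, 30, true), (3, 43, true), (2, 42, true)], 363), ([(4, 22, true), (3, 19, true), (2, 18, true), (1, 17, true), (3, 32, true), (2, 31, true), (5, 43, true), (6, 43, true), (5, 42, true)], 222), ([(4, 28, true), (3, 25, true), (2, 24, true)], 259), ([(4, 33, true), (3, 30, true)], 44), ([(4, 37, true)], 373), ([(4, 40, true)], 319), ([(4, 42, true)], 76), ([], 366)],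
  [([(4, 8, true), (3, 7, true), (2, 4, true), (1, 3, true), (0, 2, true), (2, 29, true), (3, 41, true), (4, 44, true), (3, 32, true), (5, 38, true), (4, 36, true), (6, 41, true), (5, 39, true), (5, 44, true), (6, 44, true)], 421), ([(4, 16, true), (3, 15, true), (2, 12, true), (1, 11, true), (0, 10, true), (2, 28, true), (4, 34, true), (3, 33, true), (5, 34, true), (4, 33, true), (3, 30, true), (4, 43, true), (3, 42, true), (3, 44, true)], 360), ([(4, 23, true), (3, 22, true), (2, 19, true), (1, 18, true), (0, 17, true), (2, 32, true), (1, 31, true), (4, 43, true), (5, 43, true), (4, 42, true), (4, 44, true)], 216), ([(4, 29, true), (3, 28, true), (2, 25, true), (1, 24, true), (3, 44, true)], 194), ([(4, 34, true), (3, 33, true), (2, 30, true)], 46), ([(4, 38, true), (3, 37, true)], 2), ([(4, 41, true), (3, 40, true)], 379), ([(4, 43, true), (3, 42, true)], 79), ([(4, 44, true)], 365)],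
  [([(4, 7, true), (3, 6, true), (2, 5, true), (1, 4, true), (0, 2, true), (2, 34, true), (3, 38, true), (4, 41, true), (5, 44, true), (4, 36, true), (3, 35, true), (3, 41, true), (4, 44, true), (3, 39, true)], 67), ([(4, 15, true), (3, 14, true), (2, 13, true), (1, 12, true), (0, 10, true), (2, 33, true), (3, 37, true), (5, 41, true), (4, 40, true), (6, 43, true), (5, 42, true), (5, 44, true)], 367), ([(4, 22, true), (3, 21, true), (2, 20, true), (1, 19, true), (0, 17, true), (1, 37, true), (2, 40, true), (4, 43, true), (3, 42, true)], 502), ([(4, 28, true), (3, 27, true), (2, 26, true), (1, 25, true), (4, 41, true), (5, 43, true), (6, 44, true)], 409), ([(4, 33, true), (3, 32, true), (2, 31, true), (1, 30, true), (3, 43, true)], 73), ([(4, 37, true), (3, 36, true), (2, 35, true), (2, 41, true), (3, 43, true)], 375), ([(4, 40, true), (3, 39, true)], 378), ([(4, 42, true)], 40), ([], 364)],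
  [([(1, 3, true), (0, 2, true), (2, 29, true), (3, 41, true), (4, 44, true)], 267), ([(1, 11, true), (0, 10, true), (2, 28, true), (4, 34, true), (3, 33, true)], 366), ([(1, 18, true), (0, 17, true)], 510), ([(1, 24, true)], 411), ([], 41), ([], 7), ([], 162), ([], 72), ([], 363)],
  [([(2, 6, true), (1, 5, true), (0, 2, true), (2, 38, true), (3, 44, true)], 100), ([(2, 14, true), (1, 13, true), (0, 10, true), (2, 37, true), (4, 41, true), (3, 40, true), (5, 43, true), (4, 42, true), (4, 44, true)], 361), ([(2, 21, true), (1, 20, true), (0, 17, true)], 120), ([(2, 27, true), (1, 26, true), (3, 41, true)], 192), ([(2, 32, true), (1, 31, true)], 78), ([(2, 36, true), (1, 35, true), (1, 41, true)], 370), ([(2, 39, true)], 163), ([], 47), ([], 362)],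
  [([(4, 8, true), (3, 6, true), (2, 5, true), (1, 2, true), (0, 1, true), (3, 21, true), (2, 17, true), (3, 44, true), (2, 36, true), (4, 41, true), (3, 39, true), (3, 44, true)], 135), ([(4, 16, true), (3, 14, true), (2, 13, true), (1, 10, true), (0, 9, true), (1, 37, true), (3, 41, true), (2, 40, true), (4, 43, true), (3, 42, true), (3, 44, true)], 362), ([(4, 23, true), (3, 21, true), (2, 20, true), (1, 17, true), (3, 44, true)], 496), ([(4, 29, true), (3, 27, true), (2, 26, true), (4, 41, true), (5, 44, true)], 256), ([(4, 34, true), (3, 32, true), (2, 31, true), (5, 44, true)], 77), ([(4, 38, true), (3, 36, true), (2, 35, true), (2, 41, true), (3, 44, true)], 4), ([(4, 41, true), (3, 39, true)], 486), ([(4, 43, true)], 45), ([(4, 44, true)], 361)],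
  [([(3, 8, true), (2, 3, true), (1, 2, true), (0, 1, true), (3, 21, true), (2, 17, true), (3, 44, true), (2, 27, true), (3, 39, true), (3, 44, true)], 111), ([(3, 16, true), (2, 11, true), (1, 10, true), (0, 9, true), (1, 28, true), (3, 34, true), (2, 33, true), (4, 44, true)], 365), ([(3, 23, true), (2, 18, true), (1, 17, true)], 505), ([(3, 29, true), (2, 24, true)], 338), ([(3, 34, true)], 43), ([(3, 38, true)], 368), ([(3, 41, true)], 487), ([(3, 43, true)], 75), ([(3, 44, true)], 360)]]

/-- Derivations closing the normal words, part 5. -/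
def multClosing5 : List (List (List (ℕ × ℕ × Bool) × ℕ)) := [
  [([(3, 7, true), (2, 5, true), (1, 2, true), (0, 1, true), (3, 21, true), (2, 17, true), (3, 44, true), (2, 36, true), (4, 43, true), (5, 44, true)], 437), ([(3, 15, true), (2, 13, true), (1, 10, true), (0, 9, true), (1, 37, true), (3, 43, true), (2, 42, true)], 383), ([(3, 22, true), (2, 20, true), (1, 17, true)], 178), ([(3, 28, true), (2, 26, true), (4, 43, true), (5, 44, true)], 490), ([(3, 33, true), (2, 31, true)], 483), ([(3, 37, true), (2, 35, true), (2, 43, true)], 414), ([(3, 40, true)], 74), ([(3, 42, true)], 315), ([], 381)],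
  [([(5, 8, true), (4, 7, true), (3, 6, true), (2, 3, true), (1, 2, true), (0, 1, true), (3, 21, true), (2, 17, true), (3, 44, true), (2, 27, true), (3, 39, true), (3, 41, true), (4, 43, true), (5, 44, true)], 141), ([(5, 16, true), (4, 15, true), (3, 14, true), (2, 11, true), (1, 10, true), (0, 9, true), (1, 28, true), (3, 34, true), (2, 33, true), (4, 41, true), (3, 40, true), (5, 43, true), (4, 42, true), (4, 44, true)], 379), ([(5, 23, true), (4, 22, true), (3, 21, true), (2, 18, true), (1, 17, true), (3, 39, true), (3, 43, true), (4, 44, true)], 203), ([(5, 29, true), (4, 28, true), (3, 27, true), (2, 24, true), (4, 44, true)], 230), ([(5, 34, true), (4, 33, true), (3, 32, true), (5, 43, true), (6, 44, true)], 319), ([(5, 38, true), (4, 37, true), (3, 36, true)], 196), ([(5, 41, true), (4, 40, true), (3, 39, true)], 75), ([(5, 43, true), (4, 42, true)], 487), ([(5, 44, true)], 380)],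
  [([(2, 6, true), (1, 3, true), (0, 2, true), (2, 29, true), (3, 41, true), (4, 44, true), (3, 39, true)], 101), ([(2, 14, true), (1, 11, true), (0, 10, true), (2, 28, true), (4, 34, true), (3, 33, true), (5, 41, true), (4, 40, true), (6, 43, true), (5, 42, true), (5, 44, true)], 376), ([(2, 21, true), (1, 18, true), (0, 17, true), (2, 39, true)], 204), ([(2, 27, true), (1, 24, true)], 6), ([(2, 32, true)], 316), ([(2, 36, true)], 410), ([(2, 39, true)], 156), ([], 485), ([], 382)],
  [([(1, 5, true), (0, 2, true), (2, 38, true), (3, 44, true)], 266), ([(1, 13, true), (0, 10, true), (2, 37, true)], 381), ([(1, 20, true), (0, 17, true)], 82), ([(1, 26, true)], 371), ([(1, 31, true)], 481), ([(1, 35, true)], 193), ([], 157), ([], 312), ([], 383)],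
  [([(4, 8, true), (3, 5, true), (2, 4, true), (1, 2, true), (0, 1, true), (3, 21, true), (2, 17, true), (3, 44, true), (2, 32, true), (4, 38, true), (3, 36, true), (5, 41, true), (4, 39, true), (4, 44, true), (3, 35, true), (3, 44, true)], 441), ([(4, 16, true), (3, 13, true), (2, 12, true), (1, 10, true), (0, 9, true), (1, 33, true), (2, 37, true), (4, 44, true)], 378), ([(4, 23, true), (3, 20, true), (2, 19, true), (1, 17, true), (2, 37, true)], 85), ([(4, 29, true), (3, 26, true), (2, 25, true), (5, 44, true)], 227), ([(4, 34, true), (3, 31, true), (2, 30, true)], 486), ([(4, 38, true), (3, 35, true), (3, 44, true)], 413), ([(4, 41, true)], 42), ([(4, 43, true)], 318), ([(4, 44, true)], 377)],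
  [([(5, 8, true), (4, 6, true), (3, 4, true), (2, 3, true), (1, 2, true), (0, 1, true), (3, 21, true), (2, 17, true), (3, 44, true), (2, 27, true), (3, 39, true), (3, 34, true), (4, 38, true), (5, 41, true), (6, 44, true), (5, 39, true)], 185), ([(5, 16, true), (4, 14, true), (3, 12, true), (2, 11, true), (1, 10, true), (0, 9, true), (1, 28, true), (3, 34, true), (2, 33, true), (4, 34, true), (3, 33, true), (2, 30, true), (3, 41, true), (2, 40, true), (4, 43, true), (3, 42, true), (3, 44, true)], 382), ([(5, 23, true), (4, 21, true), (3, 19, true), (2, 18, true), (1, 17, true), (3, 32, true), (2, 31, true), (5, 43, true), (6, 41, true), (5, 40, true), (4, 39, true), (5, 44, true)], 92), ([(5, 29, true), (4, 27, true), (3, 25, true), (2, 24, true)], 495), ([(5, 34, true), (4, 32, true), (3, 30, true), (4, 44, true)], 314), ([(5, 38, true), (4, 36, true)], 199), ([(5, 41, true), (4, 39, true)], 43), ([(5, 43, true)], 482), ([(5, 44, true)], 376)],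
  [([(4, 7, true), (3, 6, true), (2, 4, true), (1, 3, true), (0, 2, true), (2, 29, true), (3, 41, true), (4, 44, true), (3, 32, true), (5, 38, true), (4, 36, true), (6, 41, true), (5, 39, true), (5, 44, true)], 350), ([(4, 15, true), (3, 14, true), (2, 12, true), (1, 11, true), (0, 10, true), (2, 28, true), (4, 34, true), (3, 33, true), (5, 34, true), (4, 33, true), (3, 30, true), (4, 41, true), (3, 40, true), (5, 43, true), (4, 42, true), (4, 44, true)], 380), ([(4, 22, true), (3, 21, true), (2, 19, true), (1, 18, true), (0, 17, true), (2, 32, true), (1, 31, true), (4, 43, true), (5, 41, true), (4, 40, true), (3, 39, true), (4, 44, true), (3, 42, true)], 90), ([(4, 28, true), (3, 27, true), (2, 25, true), (1, 24, true)], 375), ([(4, 33, true), (3, 32, true), (2, 30, true), (3, 43, true)], 313), ([(4, 37, true), (3, 36, true)], 409), ([(4, 40, true), (3, 39, true)], 365), ([(4, 42, true)], 480), ([], 379)],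
  [([(4, 8, true), (3, 7, true), (2, 5, true), (1, 4, true), (0, 2, true), (2, 34, true), (3, 38, true), (4, 41, true), (5, 44, true), (4, 36, true), (3, 35, true), (3, 41, true), (4, 44, true), (5, 44, true)], 14), ([(4, 16, true), (3, 15, true), (2, 13, true), (1, 12, true), (0, 10, true), (2, 33, true), (3, 37, true), (5, 43, true), (4, 42, true), (4, 44, true)], 377), ([(4, 23, true), (3, 22, true), (2, 20, true), (1, 19, true), (0, 17, true), (1, 37, true), (2, 42, true)], 180), ([(4, 29, true), (3, 28, true), (2, 26, true), (1, 25, true), (4, 43, true), (5, 44, true)], 2), ([(4, 34, true), (3, 33, true), (2, 31, true), (1, 30, true)], 484), ([(4, 38, true), (3, 37, true), (2, 35, true), (2, 43, true), (3, 44, true)], 194), ([(4, 41, true), (3, 40, true)], 364), ([(4, 43, true), (3, 42, true)], 317), ([(4, 44, true)], 378)],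
  [([(6, 8, true), (5, 6, true), (4, 5, true), (3, 4, true), (2, 3, true), (1, 2, true), (0, 0, true), (1, 29, true), (2, 41, true), (3, 44, true), (2, 32, true), (4, 38, true), (3, 36, true), (5, 41, true), (4, 39, true), (4, 44, true), (3, 35, true), (3, 44, true)], 316), ([(6, 16, true), (5, 14, true), (4, 13, true), (3, 12, true), (2, 11, true), (1, 10, true), (3, 28, true), (5, 34, true), (4, 33, true), (6, 34, true), (5, 33, true), (4, 30, true), (5, 38, true), (4, 37, true), (6, 44, true), (5, 40, true), (6, 42, true), (6, 44, true)], 146), ([(6, 23, true), (5, 21, true), (4, 20, true), (3, 19, true), (2, 18, true), (1, 17, true), (3, 32, true), (2, 31, true), (5, 43, true), (6, 38, true), (5, 37, true), (4, 36, true), (3, 35, true), (3, 41, true), (4, 43, true), (5, 44, true), (4, 40, true), (3, 39, true), (4, 44, true)], 435), ([(6, 29, true), (5, 27, true), (4, 26, true), (3, 25, true), (2, 24, true), (4, 41, true), (5, 44, true)], 287), ([(6, 34, true), (5, 32, true), (4, 31, true), (3, 30, true), (5, 44, true)], 71), ([(6, 38, true), (5, 36, true),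 (4, 35, true), (4, 41, true), (5, 44, true)], 273), ([(6, 41, true), (5, 39, true)], 393), ([(6, 43, true)], 350), ([(6, 44, true)], 149)],
  [([(3, 8, true), (2, 4, true), (1, 2, true), (0, 0, true), (1, 34, true), (2, 38, true), (3, 41, true), (4, 44, true)], 78), ([(3, 16, true), (2, 12, true), (1, 10, true), (3, 33, true)], 151), ([(3, 23, true), (2, 19, true), (1, 17, true)], 38), ([(3, 29, true), (2, 25, true)], 352), ([(3, 34, true), (2, 30, true)], 346), ([(3, 38, true)], 407), ([(3, 41, true)], 392), ([(3, 43, true)], 67), ([(3, 44, true)], 148)],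
  [([(4, 7, true), (3, 4, true), (2, 2, true), (1, 1, true), (0, 0, true), (2, 21, true), (1, 17, true), (2, 44, true), (1, 32, true), (3, 38, true), (2, 36, true), (4, 41, true), (3, 39, true), (3, 44, true)], 85), ([(4, 15, true), (3, 12, true), (2, 10, true), (1, 9, true), (2, 33, true), (3, 42, true)], 148), ([(4, 22, true), (3, 19, true), (2, 17, true), (3, 42, true)], 247), ([(4, 28, true), (3, 25, true)], 289), ([(4, 33, true), (3, 30, true)], 344), ([(4, 37, true)], 275), ([(4, 40, true)], 10), ([(4, 42, true)], 64), ([], 151)],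
  [([(8, 8, true), (7, 7, true), (6, 6, true), (5, 5, true), (4, 4, true), (3, 3, true), (2, 2, true), (1, 1, true), (0, 0, true), (2, 21, true), (1, 17, true), (2, 44, true), (1, 27, true), (2, 39, true), (2, 34, true), (3, 38, true), (4, 41, true), (5, 44, true), (4, 36, true), (3, 35, true), (3, 41, true), (4, 44, true), (3, 39, true), (4, 44, true)], 321), ([(8, 16, true), (7, 15, true), (6, 14, true), (5, 13, true), (4, 12, true), (3, 11, true), (2, 10, true), (1, 9, true), (2, 28, true), (4, 34, true), (3, 33, true), (5, 34, true), (4, 33, true), (3, 30, true), (4, 38, true), (3, 37, true), (5, 44, true), (4, 40, true), (5, 42, true), (5, 43, true), (6, 44, true)], 144), ([(8, 23, true), (7, 22, true), (6, 21, true), (5, 20, true), (4, 19, true), (3, 18, true), (2, 17, true), (4, 32, true), (3, 31, true), (6, 43, true), (7, 38, true), (6, 37, true), (5, 36, true), (4, 35, true), (4, 41, true), (5, 43, true), (6, 44, true), (5, 40, true), (4, 39, true), (5, 43, true), (4, 42, true), (4, 44, true)], 433), ([(8, 29, true), (7, 28, true), (6, 27, true), (5,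 26, true), (4, 25, true), (3, 24, true), (5, 41, true), (6, 43, true), (7, 44, true)], 103), ([(8, 34, true), (7, 33, true), (6, 32, true), (5, 31, true), (4, 30, true), (6, 43, true), (7, 44, true)], 68), ([(8, 38, true), (7, 37, true), (6, 36, true), (5, 35, true), (5, 41, true), (6, 43, true), (7, 44, true)], 404), ([(8, 41, true), (7, 40, true), (6, 39, true)], 11), ([(8, 43, true), (7, 42, true)], 348), ([(8, 44, true)], 150)],
  [([(6, 8, true), (5, 7, true), (4, 6, true), (3, 5, true), (2, 3, true), (1, 2, true), (0, 0, true), (1, 29, true), (2, 41, true), (3, 44, true), (2, 36, true), (4, 41, true), (3, 39, true), (3, 43, true), (4, 44, true)], 228), ([(6, 16, true), (5, 15, true), (4, 14, true), (3, 13, true), (2, 11, true), (1, 10, true), (3, 28, true), (5, 34, true), (4, 33, true), (6, 38, true), (5, 37, true), (7, 44, true), (6, 40, true), (7, 42, true), (7, 43, true), (8, 44, true)], 150), ([(6, 23, true), (5, 22, true), (4, 21, true), (3, 20, true), (2, 18, true), (1, 17, true), (3, 36, true), (2, 35, true), (2, 41, true), (3, 41, true), (2, 39,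 true), (2, 44, true)], 464), ([(6, 29, true), (5, 28, true), (4, 27, true), (3, 26, true), (2, 24, true), (3, 41, true), (4, 43, true), (5, 44, true)], 358), ([(6, 34, true), (5, 33, true), (4, 32, true), (3, 31, true), (6, 43, true), (7, 44, true)], 66), ([(6, 38, true), (5, 37, true), (4, 36, true), (3, 35, true), (3, 41, true), (4, 43, true), (5, 44, true)], 278), ([(6, 41, true), (5, 40, true), (4, 39, true)], 385), ([(6, 43, true), (5, 42, true)], 347), ([(6, 44, true)], 144)],
  [([(2, 7, true), (1, 2, true), (0, 0, true), (1, 43, true), (2, 44, true)], 343), ([(2, 15, true), (1, 10, true), (3, 42, true)], 147), ([(2, 22, true), (1, 17, true)], 243), ([(2, 28, true)], 281), ([(2, 33, true)], 351), ([(2, 37, true)], 401), ([(2, 40, true)], 384), ([(2, 42, true)], 70), ([], 145)],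
  [([(3, 8, true), (2, 2, true), (1, 1, true), (0, 0, true), (2, 21, true), (1, 17, true), (2, 44, true)], 301), ([(3, 16, true), (2, 10, true), (1, 9, true)], 145), ([(3, 23, true), (2, 17, true)], 35), ([(3, 29, true)], 96), ([(3, 34, true)], 349), ([(3, 38, true)], 276), ([(3, 41, true)], 418), ([(3, 43, true)], 69), ([(3, 44, true)], 147)],
  [([(6, 8, true), (5, 6, true), (4, 5, true), (3, 3, true), (2, 2, true), (1, 1, true), (0, 0, true), (2, 21, true), (1, 17, true), (2, 44, true), (1, 27, true), (2, 39, true), (2, 38, true), (3, 44, true)], 505), ([(6, 16, true), (5, 14, true), (4, 13, true), (3, 11, true), (2, 10, true), (1, 9, true), (2, 28, true), (4, 34, true), (3, 33, true), (5, 38, true), (4, 37, true), (6, 44, true), (5, 40, true), (6, 42, true), (6, 44, true)], 149), ([(6, 23, true), (5, 21, true), (4, 20, true), (3, 18, true), (2, 17, true), (4, 36, true), (3, 35, true), (3, 41, true), (4, 41, true), (3, 39, true), (3, 44, true)], 467), ([(6, 29, true), (5, 27, true), (4, 26, true), (3, 24, true), (4, 41, true), (5, 44, true)], 294), ([(6,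 34, true), (5, 32, true), (4, 31, true), (7, 44, true)], 65), ([(6, 38, true), (5, 36, true), (4, 35, true), (4, 41, true), (5, 44, true)], 402), ([(6, 41, true), (5, 39, true)], 419), ([(6, 43, true)], 345), ([(6, 44, true)], 146)],
  [([(3, 8, true), (2, 7, true), (1, 6, true), (0, 3, true), (3, 41, true), (2, 39, true), (2, 43, true), (3, 44, true)], 464), ([(3, 16, true), (2, 15, true), (1, 14, true), (0, 11, true), (5, 43, true), (4, 42, true), (4, 44, true)], 27), ([(3, 23, true), (2, 22, true), (1, 21, true), (0, 18, true), (3, 39, true), (3, 43, true), (4, 44, true)], 489), ([(3, 29, true), (2, 28, true), (1, 27, true), (0, 24, true), (2, 44, true)], 95), ([(3, 34, true), (2, 33, true), (1, 32, true), (3, 43, true), (4, 44, true)], 87), ([(3, 38, true), (2, 37, true), (1, 36, true)], 304), ([(3, 41, true), (2, 40, true), (1, 39, true)], 326), ([(3, 43, true), (2, 42, true)], 463), ([(3, 44, true)], 29)],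
  [([(1, 7, true), (0, 5, true), (2, 43, true), (3, 44, true)], 142), ([(1, 15, true), (0, 13, true), (2, 43, true)], 31), ([(1, 22, true), (0, 20, true)], 312), ([(1, 28, true), (0, 26, true), (2, 43, true), (3, 44, true)], 298), ([(1, 33, true), (0, 31, true)], 458), ([(1, 37, true), (0, 35, true), (0, 43, true)], 220), ([(1, 40, true)], 327), ([(1, 42, true)], 82), ([], 28)],
  [([(2, 7, true), (1, 5, true), (0, 1, true), (3, 36, true), (5, 43, true), (6, 44, true)], 354), ([(2, 15, true), (1, 13, true), (0, 9, true), (1, 43, true)], 28), ([(2, 22, true), (1, 20, true)], 160), ([(2, 28, true), (1, 26, true), (3, 43, true), (4, 44, true)], 203), ([(2, 33, true), (1, 31, true)], 456), ([(2, 37, true), (1, 35, true), (1, 43, true)], 310), ([(2, 40, true)], 123), ([(2, 42, true)], 80), ([], 31)],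
  [([(4, 8, true), (3, 7, true), (2, 6, true), (1, 3, true), (0, 1, true), (3, 27, true), (4, 39, true), (4, 41, true), (5, 43, true), (6, 44, true)], 264), ([(4, 16, true), (3, 15, true), (2, 14, true), (1, 11, true), (0, 9, true), (4, 43, true), (3, 42, true), (3, 44, true)], 25), ([(4, 23, true), (3, 22, true), (2, 21, true), (1, 18, true), (4, 39, true), (4, 43, true), (5, 44, true)], 490), ([(4, 29, true), (3, 28, true), (2, 27, true), (1, 24, true), (3, 44, true)], 23), ([(4, 34, true), (3, 33, true), (2, 32, true), (4, 43, true), (5, 44, true)], 84), ([(4, 38, true), (3, 37, true), (2, 36, true)], 218), ([(4, 41, true), (3, 40, true), (2, 39, true)], 122), ([(4, 43, true), (3, 42, true)], 461), ([(4, 44, true)], 30)],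
  [([(2, 8, true), (1, 5, true), (0, 4, true), (4, 38, true), (3, 36, true), (2, 35, true), (2, 41, true), (3, 44, true), (3, 44, true)], 210), ([(2, 16, true), (1, 13, true), (0, 12, true), (3, 44, true)], 26), ([(2, 23, true), (1, 20, true), (0, 19, true), (2, 37, true)], 167), ([(2, 29, true), (1, 26, true), (0, 25, true), (3, 44, true)], 90), ([(2, 34, true), (1, 31, true), (0, 30, true)], 462), ([(2, 38, true), (1, 35, true), (1, 44, true)], 217), ([(2, 41, true)], 502), ([(2, 43, true)], 86), ([(2, 44, true)], 24)],
  [([(3, 8, true), (2, 6, true), (1, 4, true), (0, 3, true), (3, 34, true), (2, 32, true), (4, 44, true), (3, 36, true), (4, 39, true), (4, 41, true), (5, 44, true)], 442), ([(3, 16, true), (2, 14, true), (1, 12, true), (0, 11, true), (2, 30, true), (4, 44, true)], 30), ([(3, 23, true), (2, 21, true), (1, 19, true), (0, 18, true), (3, 32, true), (2, 31, true), (5, 43, true), (6, 41, true), (5, 40, true), (4, 39, true), (5, 44, true)], 2), ([(3, 29, true), (2, 27, true), (1, 25, true), (0, 24, true)], 303), ([(3, 34, true), (2, 32, true), (1,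 30, true), (2, 44, true)], 83), ([(3, 38, true), (2, 36, true)], 309), ([(3, 41, true), (2, 39, true)], 503), ([(3, 43, true)], 459), ([(3, 44, true)], 25)],
  [([(3, 8, true), (2, 5, true), (1, 4, true), (0, 1, true), (3, 32, true), (5, 38, true), (4, 36, true), (6, 41, true), (5, 39, true), (5, 44, true), (4, 35, true), (4, 44, true)], 349), ([(3, 16, true), (2, 13, true), (1, 12, true), (0, 9, true), (2, 44, true)], 24), ([(3, 23, true), (2, 20, true), (1, 19, true), (3, 37, true)], 318), ([(3, 29, true), (2, 26, true), (1, 25, true), (4, 44, true)], 18), ([(3, 34, true), (2, 31, true), (1, 30, true)], 460), ([(3, 38, true), (2, 35, true), (2, 44, true)], 307), ([(3, 41, true)], 474), ([(3, 43, true)], 85), ([(3, 44, true)], 26)],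
  [([(4, 8, true), (3, 6, true), (2, 4, true), (1, 3, true), (0, 1, true), (3, 27, true), (4, 39, true), (4, 34, true), (5, 38, true), (6, 41, true), (7, 44, true), (6, 39, true)], 396), ([(4, 16, true), (3, 14, true), (2, 12, true), (1, 11, true), (0, 9, true), (1, 30, true), (3, 44, true)], 29), ([(4, 23, true), (3, 21, true), (2, 19, true), (1, 18, true), (4, 32, true), (3, 31, true), (6, 43, true), (7, 41, true), (6, 40, true), (5, 39, true), (6, 44, true)], 0), ([(4, 29, true), (3, 27, true), (2, 25, true), (1, 24, true)], 207), ([(4, 34, true), (3, 32, true), (2, 30, true), (3, 44, true)], 81), ([(4, 38, true), (3, 36, true)], 222), ([(4, 41, true), (3, 39, true)], 475), ([(4, 43, true)], 457), ([(4, 44, true)], 27)],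
  [([(4, 8, true), (3, 6, true), (2, 4, true), (1, 1, true), (0, 0, true), (2, 32, true), (4, 38, true), (3, 36, true), (5, 41, true), (4, 39, true), (4, 44, true)], 42), ([(4, 16, true), (3, 14, true), (2, 12, true), (1, 9, true), (4, 44, true)], 333), ([(4, 23, true), (3, 21, true), (2, 19, true), (4, 40, true), (6, 44, true)], 10), ([(4, 29, true), (3, 27, true), (2, 25, true)], 136), ([(4, 34, true), (3, 32, true), (2, 30, true), (3, 44, true)], 215), ([(4, 38, true), (3, 36, true)], 452), ([(4, 41, true), (3, 39, true)], 441), ([(4, 43, true)], 54), ([(4, 44, true)], 330)],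
  [([(5, 8, true), (4, 5, true), (3, 4, true), (2, 3, true), (1, 1, true), (0, 0, true), (2, 27, true), (3, 39, true), (3, 34, true), (4, 38, true), (5, 41, true), (6, 44, true), (5, 36, true), (4, 35, true), (4, 41, true), (5, 44, true)], 165), ([(5, 16, true), (4, 13, true), (3, 12, true), (2, 11, true), (1, 9, true), (2, 30, true), (3, 44, true)], 335), ([(5, 23, true), (4, 20, true), (3, 19, true), (2, 18, true), (5, 32, true), (4, 31, true), (7, 43, true), (8, 38, true), (7, 37, true), (6, 36, true), (5, 35, true), (5, 41, true), (6, 43, true), (7, 44, true)], 274), ([(5, 29, true), (4, 26, true), (3, 25, true), (2, 24, true), (4, 44, true)], 428), ([(5, 34, true), (4, 31, true), (3, 30, true)], 53), ([(5, 38, true), (4, 35, true), (4, 44, true)], 433), ([(5, 41, true)], 440), ([(5, 43, true)], 212), ([(5, 44, true)], 331)],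
  [([(4, 8, true), (3, 7, true), (2, 6, true), (1, 1, true), (0, 0, true), (2, 39, true), (3, 44, true)], 197), ([(4, 16, true), (3, 15, true), (2, 14, true), (1, 9, true), (3, 43, true), (2, 42, true), (2, 44, true)], 334), ([(4, 23, true), (3, 22, true), (2, 21, true), (4, 43, true), (5, 44, true)], 388), ([(4, 29, true), (3, 28, true), (2, 27, true), (5, 44, true)], 424), ([(4, 34, true), (3, 33, true), (2, 32, true), (4, 43, true), (5, 44, true)], 213), ([(4, 38, true), (3, 37, true), (2, 36, true)], 448), ([(4, 41, true), (3, 40, true), (2, 39, true)], 240), ([(4, 43, true), (3, 42, true)], 52), ([(4, 44, true)], 329)],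
  [([(4, 7, true), (3, 5, true), (2, 3, true), (1, 1, true), (0, 0, true), (2, 27, true), (3, 39, true), (3, 38, true), (4, 44, true)], 231), ([(4, 15, true), (3, 13, true), (2, 11, true), (1, 9, true), (4, 43, true)], 332), ([(4, 22, true), (3, 20, true), (2, 18, true), (5, 36, true), (4, 35, true), (4, 41, true), (5, 43, true)], 264), ([(4, 28, true), (3, 26, true), (2, 24, true), (3, 43, true), (4, 44, true)], 140), ([(4, 33, true), (3, 31, true)], 55), ([(4, 37, true), (3, 35, true), (3, 43, true)], 436), ([(4, 40, true)], 241), ([(4, 42, true)], 214), ([], 328)],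
  [([(2, 8, true), (1, 6, true), (0, 0, true)], 205), ([(2, 16, true), (1, 14, true), (4, 44, true)], 329), ([(2, 23, true), (1, 21, true), (3, 44, true)], 13), ([(2, 29, true), (1, 27, true)], 56), ([(2, 34, true), (1, 32, true), (3, 44, true)], 210), ([(2, 38, true), (1, 36, true)], 438), ([(2, 41, true), (1, 39, true)], 255), ([(2, 43, true)], 51), ([(2, 44, true)], 334)],
  [([(3, 8, true), (2, 5, true), (1, 3, true), (0, 0, true), (2, 38, true), (1, 36, true), (3, 44, true)], 235), ([(3, 16, true), (2, 13, true), (1, 11, true), (5, 44, true)], 331), ([(3, 23, true), (2, 20, true), (1, 18, true), (4, 36, true), (3, 35, true), (3, 41, true), (4, 44, true)], 267), ([(3, 29, true), (2, 26, true), (1, 24, true), (2, 44, true)], 133), ([(3, 34, true), (2, 31, true)], 49), ([(3, 38, true), (2, 35, true), (2, 44, true)], 450), ([(3, 41, true)], 254), ([(3, 43, true)], 209), ([(3, 44, true)], 335)],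
  [([(4, 8, true), (3, 7, true), (2, 6, true), (1, 4, true), (0, 0, true), (3, 41, true), (2, 39, true), (2, 43, true), (3, 44, true)], 86), ([(4, 16, true), (3, 15, true), (2, 14, true), (1, 12, true), (5, 43, true), (4, 42, true), (4, 44, true)], 330), ([(4, 23, true), (3, 22, true), (2, 21, true), (1, 19, true), (3, 40, true), (5, 43, true), (4, 42, true), (4, 44, true)], 387), ([(4, 29, true), (3, 28, true), (2, 27, true), (1, 25, true), (5, 44, true)], 129), ([(4, 34, true), (3, 33, true), (2, 32, true), (1, 30, true), (2, 43, true), (3, 44, true)], 208), ([(4, 38, true), (3, 37, true), (2, 36, true)], 434), ([(4, 41, true), (3, 40, true), (2, 39, true)], 38), ([(4, 43, true), (3, 42, true)], 48), ([(4, 44, true)], 333)],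
  [([(4, 7, true), (3, 5, true), (2, 4, true), (1, 3, true), (0, 0, true), (2, 34, true), (1, 32, true), (3, 44, true), (2, 36, true), (3, 39, true), (3, 38, true), (2, 35, true), (2, 44, true), (2, 43, true), (3, 44, true)], 125), ([(4, 15, true), (3, 13, true), (2, 12, true), (1, 11, true), (3, 30, true), (4, 43, true)], 328), ([(4, 22, true), (3, 20, true), (2, 19, true), (1, 18, true), (4, 32, true), (3, 31, true), (6, 43, true), (7, 38, true), (6, 37, true), (5, 36, true), (4, 35, true), (4, 41, true), (5, 43, true), (6, 44, true), (5, 42, true)], 273), ([(4, 28, true), (3, 26, true), (2, 25, true), (1, 24, true), (3, 43, true), (4, 44, true)], 61), ([(4, 33, true), (3, 31, true), (2, 30, true)], 50), ([(4, 37, true), (3, 35, true), (3, 43, true)], 454), ([(4, 40, true)], 39), ([(4, 42, true)], 211), ([], 332)]]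

/-- Derivations closing the normal words, part 6. -/
def multClosing6 : List (List (List (ℕ × ℕ × Bool) × ℕ)) := [
  [([(4, 8, true), (3, 6, true), (2, 5, true), (1, 3, true), (0, 2, true), (2, 29, true), (3, 41, true), (4, 44, true), (3, 36, true), (5, 41, true), (4, 39, true), (4, 44, true)], 12), ([(4, 16, true), (3, 14, true), (2, 13, true), (1, 11, true), (0, 10, true), (2, 28, true), (4, 34, true), (3, 33, true), (5, 38, true), (4, 37, true), (6, 44, true), (5, 40, true), (6, 42, true), (6, 44, true)], 412), ([(4, 23, true), (3, 21, true), (2, 20, true), (1, 18, true), (0, 17, true), (2, 36, true), (1, 35, true), (1, 41, true), (2, 41, true), (1, 39, true), (1, 44, true)], 121), ([(4, 29, true), (3, 27, true), (2, 26, true), (1, 24, true), (2, 41, true), (3, 44, true)], 157), ([(4, 34, true), (3, 32, true), (2, 31, true), (5, 44, true)], 262), ([(4, 38, true), (3, 36, true), (2, 35, true), (2, 41, true), (3, 44, true)], 162), ([(4, 41, true), (3, 39, true)], 371), ([(4, 43, true)], 342), ([(4, 44, true)], 410)],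
  [([(1, 8, true), (0, 2, true), (2, 44, true)], 70), ([(1, 16, true), (0, 10, true)], 414), ([(1, 23, true), (0, 17, true)], 234), ([(1, 29, true)], 363), ([(1, 34, true)], 340), ([(1, 38, true)], 383), ([(1, 41, true)], 370), ([(1, 43, true)], 260), ([(1, 44, true)], 411)],
  [([(2, 7, true), (1, 4, true), (0, 2, true), (2, 34, true), (3, 38, true), (4, 41, true), (5, 44, true)], 292), ([(2, 15, true), (1, 12, true), (0, 10, true), (2, 33, true), (3, 42, true)], 413), ([(2, 22, true), (1, 19, true), (0, 17, true), (1, 42, true)], 217), ([(2, 28, true), (1, 25, true)], 154), ([(2, 33, true), (1, 30, true)], 343), ([(2, 37, true)], 378), ([(2, 40, true)], 3), ([(2, 42, true)], 263), ([], 408)],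
  [([(6, 8, true), (5, 7, true), (4, 6, true), (3, 5, true), (2, 4, true), (1, 3, true), (0, 2, true), (2, 29, true), (3, 41, true), (4, 44, true), (3, 32, true), (5, 38, true), (4, 36, true), (6, 41, true), (5, 39, true), (5, 44, true), (4, 35, true), (4, 44, true), (6, 44, true)], 268), ([(6, 16, true), (5, 15, true), (4, 14, true), (3, 13, true), (2, 12, true), (1, 11, true), (0, 10, true), (2, 28, true), (4, 34, true), (3, 33, true), (5, 34, true), (4, 33, true), (3, 30, true), (4, 38, true), (3, 37, true), (5, 44, true), (4, 40, true), (5, 42, true), (5, 43, true), (6, 44, true)], 415), ([(6, 23, true), (5, 22, true), (4, 21, true), (3, 20, true), (2, 19, true), (1, 18, true), (0, 17, true), (2, 32, true), (1, 31, true), (4, 43, true), (5, 38, true), (4, 37, true), (3, 36, true), (2, 35, true), (2, 41, true), (3, 43, true), (4, 44, true), (3, 40, true), (2, 39, true), (3, 43, true), (2, 42, true), (2, 44, true)], 322), ([(6, 29, true), (5, 28, true), (4, 27, true), (3, 26, true), (2, 25, true), (1, 24, true), (3, 41, true), (4, 43, true), (5, 44, true)],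 364), ([(6, 34, true), (5, 33, true), (4, 32, true), (3, 31, true), (2, 30, true), (4, 43, true), (5, 44, true)], 261), ([(6, 38, true), (5, 37, true), (4, 36, true), (3, 35, true), (3, 41, true), (4, 43, true), (5, 44, true)], 166), ([(6, 41, true), (5, 40, true), (4, 39, true)], 2), ([(6, 43, true), (5, 42, true)], 341), ([(6, 44, true)], 409)],
  [([(6, 8, true), (5, 7, true), (4, 6, true), (3, 5, true), (2, 3, true), (1, 2, true), (0, 1, true), (3, 21, true), (2, 17, true), (3, 44, true), (2, 27, true), (3, 39, true), (3, 38, true), (4, 44, true), (6, 44, true)], 241), ([(6, 16, true), (5, 15, true), (4, 14, true), (3, 13, true), (2, 11, true), (1, 10, true), (0, 9, true), (1, 28, true), (3, 34, true), (2, 33, true), (4, 38, true), (3, 37, true), (5, 44, true), (4, 40, true), (5, 42, true), (5, 43, true), (6, 44, true)], 409), ([(6, 23, true), (5, 22, true), (4, 21, true), (3, 20, true), (2, 18, true), (1, 17, true), (3, 36, true), (2, 35, true), (2, 41, true), (3, 41, true), (2, 39, true), (2, 44, true)], 122), ([(6, 29, true), (5, 28, true), (4, 27, true),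 (3, 26, true), (2, 24, true), (3, 41, true), (4, 43, true), (5, 44, true)], 45), ([(6, 34, true), (5, 33, true), (4, 32, true), (3, 31, true), (6, 43, true), (7, 44, true)], 258), ([(6, 38, true), (5, 37, true), (4, 36, true), (3, 35, true), (3, 41, true), (4, 43, true), (5, 44, true)], 380), ([(6, 41, true), (5, 40, true), (4, 39, true)], 231), ([(6, 43, true), (5, 42, true)], 339), ([(6, 44, true)], 415)],
  [([(2, 7, true), (1, 2, true), (0, 1, true), (3, 21, true), (2, 17, true), (3, 44, true)], 186), ([(2, 15, true), (1, 10, true), (0, 9, true), (1, 42, true)], 411), ([(2, 22, true), (1, 17, true)], 219), ([(2, 28, true)], 75), ([(2, 33, true)], 336), ([(2, 37, true)], 160), ([(2, 40, true)], 230), ([(2, 42, true)], 257), ([], 414)],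
  [([(3, 8, true), (2, 4, true), (1, 2, true), (0, 1, true), (3, 21, true), (2, 17, true), (3, 44, true), (2, 32, true), (4, 38, true), (3, 36, true), (5, 41, true), (4, 39, true), (4, 44, true)], 137), ([(3, 16, true), (2, 12, true), (1, 10, true), (0, 9, true), (1, 33, true)], 408), ([(3, 23, true), (2, 19, true), (1, 17, true)], 232), ([(3, 29, true), (2, 25, true)], 43), ([(3, 34, true), (2, 30, true)], 338), ([(3, 38, true)], 164), ([(3, 41, true)], 495), ([(3, 43, true)], 259), ([(3, 44, true)], 413)],
  [([(6, 8, true), (5, 6, true), (4, 5, true), (3, 4, true), (2, 3, true), (1, 2, true), (0, 1, true), (3, 21, true), (2, 17, true), (3, 44, true), (2, 27, true), (3, 39, true), (3, 34, true), (4, 38, true), (5, 41, true), (6, 44, true), (5, 36, true), (4, 35, true), (4, 41, true), (5, 44, true), (4, 39, true)], 453), ([(6, 16, true), (5, 14, true), (4, 13, true), (3, 12, true), (2, 11, true), (1, 10, true), (0, 9, true), (1, 28, true), (3, 34, true), (2, 33, true), (4, 34, true), (3, 33, true), (2, 30, true), (3, 38, true), (2, 37, true), (4, 44, true),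 (3, 40, true), (4, 42, true), (4, 44, true)], 410), ([(6, 23, true), (5, 21, true), (4, 20, true), (3, 19, true), (2, 18, true), (1, 17, true), (3, 32, true), (2, 31, true), (5, 43, true), (6, 38, true), (5, 37, true), (4, 36, true), (3, 35, true), (3, 41, true), (4, 43, true), (5, 44, true), (4, 40, true), (3, 39, true), (4, 44, true)], 321), ([(6, 29, true), (5, 27, true), (4, 26, true), (3, 25, true), (2, 24, true), (4, 41, true), (5, 44, true)], 77), ([(6, 34, true), (5, 32, true), (4, 31, true), (3, 30, true), (5, 44, true)], 256), ([(6, 38, true), (5, 36, true), (4, 35, true), (4, 41, true), (5, 44, true)], 376), ([(6, 41, true), (5, 39, true)], 494), ([(6, 43, true)], 337), ([(6, 44, true)], 412)],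
  [([(3, 7, true), (2, 5, true), (1, 4, true), (0, 3, true), (3, 34, true), (2, 32, true), (4, 44, true), (3, 36, true), (4, 39, true), (4, 38, true), (3, 35, true), (3, 44, true), (3, 43, true), (4, 44, true)], 435), ([(3, 15, true), (2, 13, true), (1, 12, true), (0, 11, true), (2, 30, true), (3, 43, true)], 22), ([(3, 22, true), (2, 20, true), (1, 19, true), (0, 18, true), (3, 32, true), (2, 31, true), (5, 43, true), (6, 38, true), (5, 37, true), (4, 36, true), (3, 35, true), (3, 41, true), (4, 43, true), (5, 44, true), (4, 42, true)], 480), ([(3, 28, true), (2, 26, true), (1, 25, true), (0, 24, true), (2, 43, true), (3, 44, true)], 458), ([(3, 33, true), (2, 31, true), (1, 30, true)], 298), ([(3, 37, true), (2, 35, true), (2, 43, true)], 472), ([(3, 40, true)], 507), ([(3, 42, true)], 90), ([], 21)],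
  [([(3, 8, true), (2, 7, true), (1, 6, true), (0, 4, true), (4, 41, true), (3, 39, true), (3, 43, true), (4, 44, true)], 128), ([(3, 16, true), (2, 15, true), (1, 14, true), (0, 12, true), (4, 43, true), (3, 42, true), (3, 44, true)], 19), ([(3, 23, true), (2, 22, true), (1, 21, true), (0, 19, true), (2, 40, true), (4, 43, true), (3, 42, true), (3, 44, true)], 224), ([(3, 29, true), (2, 28, true), (1, 27, true), (0, 25, true), (4, 44, true)], 87), ([(3, 34, true), (2, 33, true), (1, 32, true), (0, 30, true), (1, 43, true), (2, 44, true)], 95), ([(3, 38, true), (2, 37, true), (1, 36, true)], 124), ([(3, 41, true), (2, 40, true), (1, 39, true)], 506), ([(3, 43, true), (2, 42, true)], 303), ([(3, 44, true)], 20)],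
  [([(3, 8, true), (2, 7, true), (1, 6, true), (0, 1, true), (3, 39, true), (4, 44, true)], 344), ([(3, 16, true), (2, 15, true), (1, 14, true), (0, 9, true), (2, 43, true), (1, 42, true), (1, 44, true)], 17), ([(3, 23, true), (2, 22, true), (1, 21, true), (3, 43, true), (4, 44, true)], 230), ([(3, 29, true), (2, 28, true), (1, 27, true), (4, 44, true)], 30), ([(3, 34, true), (2, 33, true), (1, 32, true), (3, 43, true), (4, 44, true)], 93), ([(3, 38, true), (2, 37, true), (1, 36, true)], 479), ([(3, 41, true), (2, 40, true), (1, 39, true)], 310), ([(3, 43, true), (2, 42, true)], 301), ([(3, 44, true)], 23)],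
  [([(3, 7, true), (2, 5, true), (1, 3, true), (0, 1, true), (3, 27, true), (4, 39, true), (4, 38, true), (5, 44, true)], 389), ([(3, 15, true), (2, 13, true), (1, 11, true), (0, 9, true), (3, 43, true)], 21), ([(3, 22, true), (2, 20, true), (1, 18, true), (4, 36, true), (3, 35, true), (3, 41, true), (4, 43, true)], 161), ([(3, 28, true), (2, 26, true), (1, 24, true), (2, 43, true), (3, 44, true)], 178), ([(3, 33, true), (2, 31, true)], 297), ([(3, 37, true), (2, 35, true), (2, 43, true)], 122), ([(3, 40, true)], 311), ([(3, 42, true)], 88), ([], 22)],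
  [([(2, 8, true), (1, 5, true), (0, 3, true), (3, 38, true), (2, 36, true), (4, 44, true)], 254), ([(2, 16, true), (1, 13, true), (0, 11, true), (4, 44, true)], 18), ([(2, 23, true), (1, 20, true), (0, 18, true), (3, 36, true), (2, 35, true), (2, 41, true), (3, 44, true)], 162), ([(2, 29, true), (1, 26, true), (0, 24, true), (1, 44, true)], 82), ([(2, 34, true), (1, 31, true)], 302), ([(2, 38, true), (1, 35, true), (1, 44, true)], 476), ([(2, 41, true)], 235), ([(2, 43, true)], 94), ([(2, 44, true)], 16)],
  [([(1, 8, true), (0, 6, true)], 188), ([(1, 16, true), (0, 14, true), (3, 44, true)], 23), ([(1, 23, true), (0, 21, true), (2, 44, true)], 6), ([(1, 29, true), (0, 27, true)], 463), ([(1, 34, true), (0, 32, true), (2, 44, true)], 91), ([(1, 38, true), (0, 36, true)], 120), ([(1, 41, true), (0, 39, true)], 234), ([(1, 43, true)], 299), ([(1, 44, true)], 17)],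
  [([(4, 8, true), (3, 5, true), (2, 4, true), (1, 3, true), (0, 1, true), (3, 27, true), (4, 39, true), (4, 34, true), (5, 38, true), (6, 41, true), (7, 44, true), (6, 36, true), (5, 35, true), (5, 41, true), (6, 44, true)], 270), ([(4, 16, true), (3, 13, true), (2, 12, true), (1, 11, true), (0, 9, true), (1, 30, true), (2, 44, true)], 16), ([(4, 23, true), (3, 20, true), (2, 19, true), (1, 18, true), (4, 32, true), (3, 31, true), (6, 43, true), (7, 38, true), (6, 37, true), (5, 36, true), (4, 35, true), (4, 41, true), (5, 43, true), (6, 44, true)], 482), ([(4, 29, true), (3, 26, true), (2, 25, true), (1, 24, true), (3, 44, true)], 26), ([(4, 34, true), (3, 31, true), (2, 30, true)], 300), ([(4, 38, true), (3, 35, true), (3, 44, true)], 126), ([(4, 41, true)], 222), ([(4, 43, true)], 92), ([(4, 44, true)], 18)],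
  [([(3, 8, true), (2, 6, true), (1, 4, true), (0, 1, true), (3, 32, true), (5, 38, true), (4, 36, true), (6, 41, true), (5, 39, true), (5, 44, true)], 282), ([(3, 16, true), (2, 14, true), (1, 12, true), (0, 9, true), (3, 44, true)], 20), ([(3, 23, true), (2, 21, true), (1, 19, true), (3, 40, true), (5, 44, true)], 1), ([(3, 29, true), (2, 27, true), (1, 25, true)], 183), ([(3, 34, true), (2, 32, true), (1, 30, true), (2, 44, true)], 89), ([(3, 38, true), (2, 36, true)], 474), ([(3, 41, true), (2, 39, true)], 223), ([(3, 43, true)], 296), ([(3, 44, true)], 19)],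
  [([(2, 7, true), (1, 6, true), (0, 0, true)], 299), ([(2, 15, true), (1, 14, true), (4, 43, true), (3, 42, true)], 52), ([(2, 22, true), (1, 21, true), (3, 43, true)], 394), ([(2, 28, true), (1, 27, true)], 143), ([(2, 33, true), (1, 32, true), (3, 43, true)], 190), ([(2, 37, true), (1, 36, true)], 465), ([(2, 40, true), (1, 39, true)], 243), ([(2, 42, true)], 334), ([], 51)],
  [([(4, 8, true), (3, 7, true), (2, 5, true), (1, 3, true), (0, 0, true), (2, 38, true), (1, 36, true), (3, 44, true), (4, 44, true)], 221), ([(4, 16, true), (3, 15, true), (2, 13, true), (1, 11, true), (5, 43, true), (6, 44, true)], 55), ([(4, 23, true), (3, 22, true), (2, 20, true), (1, 18, true), (4, 36, true), (3, 35, true), (3, 41, true), (4, 43, true), (5, 44, true)], 278), ([(4, 29, true), (3, 28, true), (2, 26, true), (1, 24, true), (2, 43, true), (3, 44, true)], 427), ([(4, 34, true), (3, 33, true), (2, 31, true)], 332), ([(4, 38, true), (3, 37, true), (2, 35, true), (2, 43, true), (3, 44, true)], 109), ([(4, 41, true), (3, 40, true)], 242), ([(4, 43, true), (3, 42, true)],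 189), ([(4, 44, true)], 50)],
  [([(2, 6, true), (1, 4, true), (0, 0, true), (3, 41, true), (2, 39, true)], 180), ([(2, 14, true), (1, 12, true)], 54), ([(2, 21, true), (1, 19, true), (3, 40, true)], 420), ([(2, 27, true), (1, 25, true)], 430), ([(2, 32, true), (1, 30, true)], 188), ([(2, 36, true)], 468), ([(2, 39, true)], 443), ([], 333), ([], 48)],
  [([(3, 5, true), (2, 4, true), (1, 3, true), (0, 0, true), (2, 34, true), (1, 32, true), (3, 44, true), (2, 36, true), (3, 39, true), (3, 38, true), (2, 35, true), (2, 44, true)], 503), ([(3, 13, true), (2, 12, true), (1, 11, true), (3, 30, true)], 53), ([(3, 20, true), (2, 19, true), (1, 18, true), (4, 32, true), (3, 31, true), (6, 43, true), (7, 38, true), (6, 37, true), (5, 36, true), (4, 35, true), (4, 41, true), (5, 43, true), (6, 44, true)], 268), ([(3, 26, true), (2, 25, true), (1, 24, true)], 139), ([(3, 31, true), (2, 30, true)], 335), ([(3, 35, true)], 104), ([], 442), ([], 191), ([], 49)],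
  [([(6, 8, true), (5, 7, true), (4, 5, true), (3, 4, true), (2, 3, true), (1, 1, true), (0, 0, true), (2, 27, true), (3, 39, true), (3, 34, true), (4, 38, true), (5, 41, true), (6, 44, true), (5, 36, true), (4, 35, true), (4, 41, true), (5, 44, true), (6, 44, true)], 319), ([(6, 16, true), (5, 15, true), (4, 13, true), (3, 12, true), (2, 11, true), (1, 9, true), (2, 30, true), (3, 43, true), (4, 44, true)], 50), ([(6, 23, true), (5, 22, true), (4, 20, true), (3, 19, true), (2, 18, true), (5, 32, true), (4, 31, true), (7, 43, true), (8, 38, true), (7, 37, true), (6, 36, true), (5, 35, true), (5, 41, true), (6, 43, true), (7, 44, true), (6, 42, true)], 270), ([(6, 29, true), (5, 28, true), (4, 26, true), (3, 25, true), (2, 24, true), (4, 43, true), (5, 44, true)], 131), ([(6, 34, true), (5, 33, true), (4, 31, true), (3, 30, true)], 328), ([(6, 38, true), (5, 37, true), (4, 35, true), (4, 43, true), (5, 44, true)], 471), ([(6, 41, true), (5, 40, true)], 36), ([(6, 43, true), (5, 42, true)], 185), ([(6, 44, true)], 55)],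
  [([(4, 7, true), (3, 6, true), (2, 4, true), (1, 1, true), (0, 0, true), (2, 32, true), (4, 38, true), (3, 36, true), (5, 41, true), (4, 39, true), (4, 44, true)], 152), ([(4, 15, true), (3, 14, true), (2, 12, true), (1, 9, true), (4, 43, true), (3, 42, true)], 48), ([(4, 22, true), (3, 21, true), (2, 19, true), (4, 40, true), (6, 43, true), (5, 42, true)], 397), ([(4, 28, true), (3, 27, true), (2, 25, true)], 63), ([(4, 33, true), (3, 32, true), (2, 30, true), (3, 43, true)], 186), ([(4, 37, true), (3, 36, true)], 107), ([(4, 40, true), (3, 39, true)], 37), ([(4, 42, true)], 330), ([], 54)],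
  [([(3, 5, true), (2, 3, true), (1, 1, true), (0, 0, true), (2, 27, true), (3, 39, true), (3, 38, true), (4, 44, true)], 5), ([(3, 13, true), (2, 11, true), (1, 9, true)], 49), ([(3, 20, true), (2, 18, true), (5, 36, true), (4, 35, true), (4, 41, true)], 277), ([(3, 26, true), (2, 24, true)], 59), ([(3, 31, true)], 331), ([(3, 35, true)], 467), ([], 252), ([], 187), ([], 53)],
  [([(2, 6, true), (1, 1, true), (0, 0, true), (2, 39, true)], 257), ([(2, 14, true), (1, 9, true)], 51), ([(2, 21, true)], 418), ([(2, 27, true)], 134), ([(2, 32, true)], 184), ([(2, 36, true)], 110), ([(2, 39, true)], 253), ([], 329), ([], 52)],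
  [([(3, 6, true), (2, 5, true), (1, 4, true), (0, 3, true), (3, 34, true), (2, 32, true), (4, 44, true), (3, 36, true), (4, 39, true), (4, 38, true), (3, 35, true), (3, 44, true), (3, 41, true)], 138), ([(3, 14, true), (2, 13, true), (1, 12, true), (0, 11, true), (2, 30, true), (3, 41, true), (4, 43, true), (5, 44, true)], 311), ([(3, 21, true), (2, 20, true), (1, 19, true), (0, 18, true), (3, 32, true), (2, 31, true), (5, 43, true), (6, 38, true), (5, 37, true), (4, 36, true), (3, 35, true), (3, 41, true), (4, 43, true), (5, 44, true), (4, 40, true), (3, 39, true)], 154), ([(3, 27, true), (2, 26, true), (1, 25, true), (0, 24, true), (2, 41, true)], 502), ([(3, 32, true), (2, 31, true), (1, 30, true)], 235), ([(3, 36, true), (2, 35, true), (2, 41, true)], 181), ([(3, 39, true)], 90), ([], 507), ([], 309)],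
  [([(0, 4, true)], 105), ([(0, 12, true)], 307), ([(0, 19, true)], 194), ([(0, 25, true)], 322), ([(0, 30, true)], 511), ([], 24), ([], 91), ([], 238), ([], 308)],
  [([(5, 8, true), (4, 7, true), (3, 6, true), (2, 5, true), (1, 3, true), (0, 1, true), (3, 27, true), (4, 39, true), (4, 38, true), (5, 44, true), (7, 44, true)], 68), ([(5, 16, true), (4, 15, true), (3, 14, true), (2, 13, true), (1, 11, true), (0, 9, true), (3, 41, true), (4, 43, true), (5, 44, true), (4, 42, true)], 309), ([(5, 23, true), (4, 22, true), (3, 21, true), (2, 20, true), (1, 18, true), (4, 36, true), (3, 35, true), (3, 41, true), (4, 41, true), (3, 39, true), (3, 44, true)], 75), ([(5, 29, true), (4, 28, true), (3, 27, true), (2, 26, true), (1, 24, true), (2, 41, true), (3, 43, true), (4, 44, true)], 479), ([(5, 34, true), (4, 33, true), (3, 32, true), (2, 31, true), (5, 43, true), (6, 44, true)], 233), ([(5, 38, true), (4, 37, true), (3, 36, true), (2, 35, true), (2, 41, true), (3, 43, true), (4, 44, true)], 30), ([(5, 41, true), (4, 40, true), (3, 39, true)], 22), ([(5, 43, true),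 (4, 42, true)], 505), ([(5, 44, true)], 311)],
  [([(1, 7, true), (0, 1, true)], 398), ([(1, 15, true), (0, 9, true)], 305), ([(1, 22, true)], 197), ([(1, 28, true)], 122), ([(1, 33, true)], 508), ([(1, 37, true)], 178), ([(1, 40, true)], 23), ([(1, 42, true)], 237), ([], 310)],
  [([(1, 8, true), (0, 7, true), (2, 44, true)], 243), ([(1, 16, true), (0, 15, true)], 310), ([(1, 23, true), (0, 22, true)], 260), ([(1, 29, true), (0, 28, true), (2, 44, true)], 498), ([(1, 34, true), (0, 33, true)], 506), ([(1, 38, true), (0, 37, true)], 28), ([(1, 41, true), (0, 40, true)], 299), ([(1, 43, true), (0, 42, true)], 234), ([(1, 44, true)], 305)],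
  [([(3, 7, true), (2, 6, true), (1, 5, true), (0, 3, true), (3, 38, true), (2, 36, true), (4, 44, true), (3, 39, true)], 209), ([(3, 15, true), (2, 14, true), (1, 13, true), (0, 11, true), (4, 41, true), (5, 43, true), (6, 44, true), (5, 42, true)], 306), ([(3, 22, true), (2, 21, true), (1, 20, true), (0, 18, true), (3, 36, true), (2, 35, true), (2, 41, true), (3, 41, true), (2, 39, true), (2, 44, true)], 72), ([(3, 28, true), (2, 27, true), (1, 26, true), (0, 24, true), (1, 41, true), (2, 43, true), (3, 44, true)], 327), ([(3, 33, true), (2, 32, true), (1, 31, true), (4, 43, true)], 239), ([(3, 37, true), (2, 36, true), (1, 35, true), (1, 41, true), (2, 43, true)], 176), ([(3, 40, true), (2, 39, true)], 298), ([(3, 42, true)], 510), ([], 304)],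
  [([(5, 8, true), (4, 6, true), (3, 5, true), (2, 4, true), (1, 3, true), (0, 1, true), (3, 27, true), (4, 39, true), (4, 34, true), (5, 38, true), (6, 41, true), (7, 44, true), (6, 36, true), (5, 35, true), (5, 41, true), (6, 44, true), (5, 39, true)], 283), ([(5, 16, true), (4, 14, true), (3, 13, true), (2, 12, true), (1, 11, true), (0, 9, true), (1, 30, true), (2, 41, true), (3, 43, true), (4, 44, true)], 304), ([(5, 23, true), (4, 21, true), (3, 20, true), (2, 19, true), (1, 18, true), (4, 32, true), (3, 31, true), (6, 43, true), (7, 38, true), (6, 37, true), (5, 36, true), (4, 35, true), (4, 41, true), (5, 43, true), (6, 44, true), (5, 40, true), (4, 39, true), (5, 44, true)], 153), ([(5, 29, true), (4, 27, true), (3, 26, true), (2, 25, true), (1, 24, true), (3, 41, true), (4, 44, true)], 127), ([(5, 34, true), (4, 32, true), (3, 31, true), (2, 30, true), (4, 44, true)], 236), ([(5, 38, true), (4, 36, true), (3, 35, true), (3, 41, true), (4, 44, true)], 27), ([(5, 41, true), (4, 39, true)], 206), ([(5, 43, true)], 509), ([(5, 44, true)], 306)],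
  [([(2, 8, true), (1, 4, true), (0, 1, true), (3, 32, true), (5, 38, true), (4, 36, true), (6, 41, true), (5, 39, true), (5, 44, true)], 271), ([(2, 16, true), (1, 12, true), (0, 9, true)], 308), ([(2, 23, true), (1, 19, true)], 259), ([(2, 29, true), (1, 25, true)], 475), ([(2, 34, true), (1, 30, true)], 504), ([(2, 38, true)], 182), ([(2, 41, true)], 207), ([(2, 43, true)], 232), ([(2, 44, true)], 307)]]

/-- Derivations closing the normal words, part 7. -/
def multClosing7 : List (List (List (ℕ × ℕ × Bool) × ℕ)) := [
  [([(2, 6, true), (1, 4, true), (0, 2, true), (2, 34, true), (3, 38, true), (4, 41, true), (5, 44, true), (4, 39, true)], 272), ([(2, 14, true), (1, 12, true), (0, 10, true), (2, 33, true), (3, 40, true), (4, 42, true)], 495), ([(2, 21, true), (1, 19, true), (0, 17, true), (1, 40, true)], 201), ([(2, 27, true), (1, 25, true)], 480), ([(2, 32, true), (1, 30, true)], 370), ([(2, 36, true)], 40), ([(2, 39, true)], 263), ([], 3), ([], 492)],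
  [([(3, 5, true), (2, 4, true), (1, 3, true), (0, 2, true), (2, 29, true), (3, 41, true), (4, 44, true), (3, 32, true), (5, 38, true), (4, 36, true), (6, 41, true), (5, 39, true), (5, 44, true), (4, 35, true), (4, 44, true)], 286), ([(3, 13, true), (2, 12, true), (1, 11, true), (0, 10, true), (2, 28, true), (4, 34, true), (3, 33, true), (5, 34, true), (4, 33, true), (3, 30, true), (4, 38, true), (3, 37, true), (5, 44, true)], 490), ([(3, 20, true), (2, 19, true), (1, 18, true), (0, 17, true), (2, 32, true), (1, 31, true), (4, 43, true), (5, 38, true), (4, 37, true), (3, 36, true), (2, 35, true), (2, 41, true), (3, 43, true), (4, 44, true)], 87), ([(3, 26, true), (2, 25, true), (1, 24, true)], 317), ([(3, 31, true), (2, 30, true)], 7), ([(3, 35, true)], 79), ([], 262), ([], 374), ([], 493)],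
  [([(3, 6, true), (2, 4, true), (1, 2, true), (0, 1, true), (3, 21, true), (2, 17, true), (3, 44, true), (2, 32, true), (4, 38, true), (3, 36, true), (5, 41, true), (4, 39, true), (4, 44, true)], 432), ([(3, 14, true), (2, 12, true), (1, 10, true), (0, 9, true), (1, 33, true), (2, 40, true), (3, 42, true)], 492), ([(3, 21, true), (2, 19, true), (1, 17, true), (2, 40, true)], 296), ([(3, 27, true), (2, 25, true)], 376), ([(3, 32, true), (2, 30, true)], 369), ([(3, 36, true)], 77), ([(3, 39, true)], 413), ([], 1), ([], 495)],
  [([(4, 5, true), (3, 4, true), (2, 3, true), (1, 2, true), (0, 1, true), (3, 21, true), (2, 17, true), (3, 44, true), (2, 27, true), (3, 39, true), (3, 34, true), (4, 38, true), (5, 41, true), (6, 44, true), (5, 36, true), (4, 35, true), (4, 41, true), (5, 44, true)], 429), ([(4, 13, true), (3, 12, true), (2, 11, true), (1, 10, true), (0, 9, true), (1, 28, true), (3, 34, true), (2, 33, true), (4, 34, true), (3, 33, true), (2, 30, true), (3, 38, true), (2, 37, true), (4, 44, true)], 489), ([(4, 20, true), (3, 19, true), (2, 18, true),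 (1, 17, true), (3, 32, true), (2, 31, true), (5, 43, true), (6, 38, true), (5, 37, true), (4, 36, true), (3, 35, true), (3, 41, true), (4, 43, true), (5, 44, true)], 84), ([(4, 26, true), (3, 25, true), (2, 24, true)], 164), ([(4, 31, true), (3, 30, true)], 5), ([(4, 35, true)], 43), ([], 412), ([], 373), ([], 494)],
  [([(4, 8, true), (3, 7, true), (2, 5, true), (1, 3, true), (0, 2, true), (2, 29, true), (3, 41, true), (4, 44, true), (3, 36, true), (5, 43, true), (6, 44, true)], 172), ([(4, 16, true), (3, 15, true), (2, 13, true), (1, 11, true), (0, 10, true), (2, 28, true), (4, 34, true), (3, 33, true), (5, 38, true), (4, 37, true), (6, 44, true), (5, 42, true)], 494), ([(4, 23, true), (3, 22, true), (2, 20, true), (1, 18, true), (0, 17, true), (2, 36, true), (1, 35, true), (1, 41, true), (2, 43, true), (3, 44, true)], 29), ([(4, 29, true), (3, 28, true), (2, 26, true), (1, 24, true), (2, 43, true), (3, 44, true)], 484), ([(4, 34, true), (3, 33, true), (2, 31, true)], 2), ([(4, 38, true), (3, 37, true), (2, 35, true), (2, 43, true), (3, 44, true)], 72), ([(4,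 41, true), (3, 40, true)], 342), ([(4, 43, true), (3, 42, true)], 371), ([(4, 44, true)], 489)],
  [([(2, 7, true), (1, 6, true), (0, 2, true), (2, 41, true), (3, 43, true), (4, 44, true)], 384), ([(2, 15, true), (1, 14, true), (0, 10, true), (2, 40, true), (3, 42, true), (3, 43, true)], 491), ([(2, 22, true), (1, 21, true), (0, 17, true), (1, 43, true)], 299), ([(2, 28, true), (1, 27, true)], 313), ([(2, 33, true), (1, 32, true), (3, 43, true)], 375), ([(2, 37, true), (1, 36, true)], 47), ([(2, 40, true), (1, 39, true)], 343), ([(2, 42, true)], 6), ([], 488)],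
  [([(3, 7, true), (2, 6, true), (1, 2, true), (0, 1, true), (3, 21, true), (2, 17, true), (3, 44, true), (2, 39, true)], 240), ([(3, 15, true), (2, 14, true), (1, 10, true), (0, 9, true), (1, 40, true), (2, 42, true), (2, 43, true)], 488), ([(3, 22, true), (2, 21, true), (1, 17, true), (2, 43, true)], 202), ([(3, 28, true), (2, 27, true)], 161), ([(3, 33, true), (2, 32, true), (4, 43, true)], 372), ([(3, 37, true), (2, 36, true)], 74), ([(3, 40, true), (2, 39, true)], 197), ([(3, 42, true)], 4), ([], 491)],
  [([(5, 8, true), (4, 7, true), (3, 5, true), (2, 3, true), (1, 2, true), (0, 1, true), (3, 21, true), (2, 17, true), (3, 44, true), (2, 27, true), (3, 39, true), (3, 38, true), (4, 44, true), (5, 44, true)], 187), ([(5, 16, true), (4, 15, true), (3, 13, true), (2, 11, true), (1, 10, true), (0, 9, true), (1, 28, true), (3, 34, true), (2, 33, true), (4, 38, true), (3, 37, true), (5, 44, true), (4, 42, true)], 493), ([(5, 23, true), (4, 22, true), (3, 20, true), (2, 18, true), (1, 17, true), (3, 36, true), (2, 35, true), (2, 41, true), (3, 43, true), (4,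 44, true)], 30), ([(5, 29, true), (4, 28, true), (3, 26, true), (2, 24, true), (3, 43, true), (4, 44, true)], 381), ([(5, 34, true), (4, 33, true), (3, 31, true)], 0), ([(5, 38, true), (4, 37, true), (3, 35, true), (3, 43, true), (4, 44, true)], 44), ([(5, 41, true), (4, 40, true)], 196), ([(5, 43, true), (4, 42, true)], 368), ([(5, 44, true)], 490)],
  [([(3, 8, true), (2, 7, true), (1, 4, true), (0, 1, true), (3, 32, true), (5, 38, true), (4, 36, true), (6, 41, true), (5, 39, true), (5, 44, true), (6, 44, true)], 275), ([(3, 16, true), (2, 15, true), (1, 12, true), (0, 9, true)], 506), ([(3, 23, true), (2, 22, true), (1, 19, true), (3, 42, true)], 198), ([(3, 29, true), (2, 28, true), (1, 25, true), (4, 44, true)], 321), ([(3, 34, true), (2, 33, true), (1, 30, true)], 310), ([(3, 38, true), (2, 37, true)], 85), ([(3, 41, true), (2, 40, true)], 296), ([(3, 43, true), (2, 42, true)], 223), ([(3, 44, true)], 508)],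
  [([(5, 7, true), (4, 6, true), (3, 5, true), (2, 4, true), (1, 3, true), (0, 1, true), (3, 27, true), (4, 39, true), (4, 34, true), (5, 38, true), (6, 41, true), (7, 44, true), (6, 36, true), (5, 35, true), (5, 41, true), (6, 44, true), (5, 39, true)], 289), ([(5, 15, true), (4, 14, true), (3, 13, true), (2, 12, true), (1, 11, true), (0, 9, true), (1, 30, true), (2, 41, true), (3, 43, true), (4, 44, true), (3, 42, true)], 510), ([(5, 22, true), (4, 21, true), (3, 20, true), (2, 19, true), (1, 18, true), (4, 32, true), (3, 31, true), (6, 43, true), (7, 38, true), (6, 37, true), (5, 36, true), (4, 35, true), (4, 41, true), (5, 43, true), (6, 44, true), (5, 40, true), (4, 39, true), (5, 43, true), (4, 42, true)], 43), ([(5, 28, true), (4, 27, true), (3, 26, true), (2, 25, true), (1, 24, true), (3, 41, true), (4, 43, true), (5, 44, true)], 501), ([(5, 33, true), (4, 32, true), (3, 31, true), (2, 30, true), (4, 43, true)], 218), ([(5, 37, true), (4, 36, true), (3, 35, true), (3, 41, true), (4, 43, true)], 457), ([(5, 40, true), (4, 39, true)], 297), ([(5, 42,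 true)], 306), ([], 509)],
  [([(0, 8, true)], 255), ([(0, 16, true)], 504), ([(0, 23, true)], 193), ([(0, 29, true)], 121), ([(0, 34, true)], 308), ([(0, 38, true)], 462), ([(0, 41, true)], 205), ([(0, 43, true)], 220), ([(0, 44, true)], 511)],
  [([(3, 8, true), (2, 6, true), (1, 5, true), (0, 3, true), (3, 38, true), (2, 36, true), (4, 44, true), (3, 39, true)], 189), ([(3, 16, true), (2, 14, true), (1, 13, true), (0, 11, true), (4, 41, true), (5, 43, true), (6, 44, true)], 509), ([(3, 23, true), (2, 21, true), (1, 20, true), (0, 18, true), (3, 36, true), (2, 35, true), (2, 41, true), (3, 41, true), (2, 39, true), (2, 44, true)], 363), ([(3, 29, true), (2, 27, true), (1, 26, true), (0, 24, true), (1, 41, true), (2, 44, true)], 477), ([(3, 34, true), (2, 32, true), (1, 31, true), (4, 44, true)], 216), ([(3, 38, true), (2, 36, true), (1, 35, true), (1, 41, true), (2, 44, true)], 83), ([(3, 41, true), (2, 39, true)], 204), ([(3, 43, true)], 304), ([(3, 44, true)], 510)],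
  [([(3, 6, true), (2, 5, true), (1, 3, true), (0, 1, true), (3, 27, true), (4, 39, true), (4, 38, true), (5, 44, true)], 146), ([(3, 14, true), (2, 13, true), (1, 11, true), (0, 9, true), (3, 41, true), (4, 43, true), (5, 44, true)], 507), ([(3, 21, true), (2, 20, true), (1, 18, true), (4, 36, true), (3, 35, true), (3, 41, true), (4, 41, true), (3, 39, true), (3, 44, true)], 360), ([(3, 27, true), (2, 26, true), (1, 24, true), (2, 41, true)], 324), ([(3, 32, true), (2, 31, true)], 222), ([(3, 36, true), (2, 35, true), (2, 41, true)], 461), ([(3, 39, true)], 88), ([], 311), ([], 505)],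
  [([(0, 1, true)], 8), ([(0, 9, true)], 511), ([], 257), ([], 497), ([], 307), ([], 80), ([], 89), ([], 219), ([], 504)],
  [([(1, 7, true), (0, 4, true), (4, 43, true), (5, 44, true)], 455), ([(1, 15, true), (0, 12, true)], 508), ([(1, 22, true), (0, 19, true), (2, 42, true)], 263), ([(1, 28, true), (0, 25, true)], 472), ([(1, 33, true), (0, 30, true)], 305), ([(1, 37, true)], 458), ([(1, 40, true)], 20), ([(1, 42, true)], 217), ([], 506)],
  [([(5, 8, true), (4, 7, true), (3, 6, true), (2, 5, true), (1, 4, true), (0, 3, true), (3, 34, true), (2, 32, true), (4, 44, true), (3, 36, true), (4, 39, true), (4, 38, true), (3, 35, true), (3, 44, true), (3, 41, true), (4, 43, true), (5, 44, true)], 60), ([(5, 16, true), (4, 15, true), (3, 14, true), (2, 13, true), (1, 12, true), (0, 11, true), (2, 30, true), (3, 41, true), (4, 43, true), (5, 44, true), (4, 42, true)], 505), ([(5, 23, true), (4, 22, true), (3, 21, true), (2, 20, true), (1, 19, true), (0, 18, true), (3, 32, true), (2, 31, true), (5, 43, true), (6, 38, true), (5, 37, true), (4, 36, true), (3, 35, true),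 (3, 41, true), (4, 43, true), (5, 44, true), (4, 40, true), (3, 39, true), (4, 43, true), (3, 42, true), (3, 44, true)], 41), ([(5, 29, true), (4, 28, true), (3, 27, true), (2, 26, true), (1, 25, true), (0, 24, true), (2, 41, true), (3, 43, true), (4, 44, true)], 124), ([(5, 34, true), (4, 33, true), (3, 32, true), (2, 31, true), (1, 30, true), (3, 43, true), (4, 44, true)], 221), ([(5, 38, true), (4, 37, true), (3, 36, true), (2, 35, true), (2, 41, true), (3, 43, true), (4, 44, true)], 87), ([(5, 41, true), (4, 40, true), (3, 39, true)], 21), ([(5, 43, true), (4, 42, true)], 309), ([(5, 44, true)], 507)],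
  [([(3, 8, true), (2, 7, true), (1, 1, true), (0, 0, true), (4, 44, true)], 230), ([(3, 16, true), (2, 15, true), (1, 9, true)], 444), ([(3, 23, true), (2, 22, true)], 69), ([(3, 29, true), (2, 28, true), (4, 44, true)], 449), ([(3, 34, true), (2, 33, true)], 250), ([(3, 38, true), (2, 37, true)], 425), ([(3, 41, true), (2, 40, true)], 186), ([(3, 43, true), (2, 42, true)], 35), ([(3, 44, true)], 447)],
  [([(5, 7, true), (4, 6, true), (3, 5, true), (2, 3, true), (1, 1, true), (0, 0, true), (2, 27, true), (3, 39, true), (3, 38, true), (4, 44, true)], 196), ([(5, 15, true), (4, 14, true), (3, 13, true), (2, 11, true), (1, 9, true), (4, 41, true), (5, 43, true), (6, 44, true), (5, 42, true)], 442), ([(5, 22, true), (4, 21, true), (3, 20, true), (2, 18, true), (5, 36, true), (4, 35, true), (4, 41, true), (5, 41, true), (4, 39, true), (4, 44, true)], 284), ([(5, 28, true), (4, 27, true), (3, 26, true), (2, 24, true), (3, 41, true), (4, 43, true), (5, 44, true)], 437), ([(5, 33, true), (4, 32, true), (3, 31, true), (6, 43, true)], 36), ([(5, 37, true), (4, 36,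 true), (3, 35, true), (3, 41, true), (4, 43, true)], 141), ([(5, 40, true), (4, 39, true)], 187), ([(5, 42, true)], 252), ([], 446)],
  [([(5, 8, true), (4, 7, true), (3, 6, true), (2, 5, true), (1, 3, true), (0, 0, true), (2, 38, true), (1, 36, true), (3, 44, true), (2, 39, true), (3, 44, true)], 298), ([(5, 16, true), (4, 15, true), (3, 14, true), (2, 13, true), (1, 11, true), (5, 41, true), (6, 43, true), (7, 44, true), (6, 42, true)], 440), ([(5, 23, true), (4, 22, true), (3, 21, true), (2, 20, true), (1, 18, true), (4, 36, true), (3, 35, true), (3, 41, true), (4, 41, true), (3, 39, true), (3, 44, true)], 281), ([(5, 29, true), (4, 28, true), (3, 27, true), (2, 26, true), (1, 24, true), (2, 41, true), (3, 43, true), (4, 44, true)], 108), ([(5, 34, true), (4, 33, true), (3, 32, true), (2, 31, true), (5, 43, true), (6, 44, true)], 39), ([(5, 38, true), (4, 37, true), (3, 36, true), (2, 35, true), (2, 41, true), (3, 43, true), (4, 44, true)], 426), ([(5, 41, true), (4, 40, true), (3, 39, true)], 209), ([(5, 43, true), (4, 42, true)], 254), ([(5, 44, true)],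 445)],
  [([(1, 7, true), (0, 0, true)], 220), ([(1, 15, true)], 447), ([(1, 22, true)], 173), ([(1, 28, true)], 464), ([(1, 33, true)], 249), ([(1, 37, true)], 142), ([(1, 40, true)], 208), ([(1, 42, true)], 32), ([], 444)],
  [([(2, 8, true), (1, 4, true), (0, 0, true), (3, 44, true)], 323), ([(2, 16, true), (1, 12, true)], 441), ([(2, 23, true), (1, 19, true)], 67), ([(2, 29, true), (1, 25, true)], 104), ([(2, 34, true), (1, 30, true)], 255), ([(2, 38, true)], 139), ([(2, 41, true)], 48), ([(2, 43, true)], 38), ([(2, 44, true)], 443)],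
  [([(5, 8, true), (4, 6, true), (3, 5, true), (2, 4, true), (1, 3, true), (0, 0, true), (2, 34, true), (1, 32, true), (3, 44, true), (2, 36, true), (3, 39, true), (3, 38, true), (2, 35, true), (2, 44, true), (2, 41, true), (3, 44, true)], 25), ([(5, 16, true), (4, 14, true), (3, 13, true), (2, 12, true), (1, 11, true), (3, 30, true), (4, 41, true), (5, 43, true), (6, 44, true)], 446), ([(5, 23, true), (4, 21, true), (3, 20, true), (2, 19, true), (1, 18, true), (4, 32, true), (3, 31, true), (6, 43, true), (7, 38, true), (6, 37, true), (5, 36, true), (4, 35, true), (4, 41, true), (5, 43, true), (6, 44, true), (5, 40, true), (4, 39, true), (5, 44, true)], 293), ([(5, 29, true), (4, 27, true), (3, 26, true), (2, 25, true), (1, 24, true), (3, 41, true), (4, 44, true)], 468), ([(5, 34, true), (4, 32, true), (3, 31, true), (2, 30, true), (4, 44, true)], 33), ([(5, 38, true), (4, 36, true), (3, 35, true), (3, 41, true), (4, 44, true)], 430), ([(5, 41, true), (4, 39, true)], 49), ([(5, 43, true)], 248), ([(5, 44, true)], 442)],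
  [([(5, 6, true), (4, 5, true), (3, 4, true), (2, 3, true), (1, 1, true), (0, 0, true), (2, 27, true), (3, 39, true), (3, 34, true), (4, 38, true), (5, 41, true), (6, 44, true), (5, 36, true), (4, 35, true), (4, 41, true), (5, 44, true), (4, 39, true)], 76), ([(5, 14, true), (4, 13, true), (3, 12, true), (2, 11, true), (1, 9, true), (2, 30, true), (3, 41, true), (4, 43, true), (5, 44, true)], 445), ([(5, 21, true), (4, 20, true), (3, 19, true), (2, 18, true), (5, 32, true), (4, 31, true), (7, 43, true), (8, 38, true), (7, 37, true), (6, 36, true), (5, 35, true), (5, 41, true), (6, 43, true), (7, 44, true), (6, 40, true), (5, 39, true)], 289), ([(5, 27, true), (4, 26, true), (3, 25, true), (2, 24, true), (4, 41, true)], 452), ([(5, 32, true), (4, 31, true), (3, 30, true)], 34), ([(5, 36, true), (4, 35, true), (4, 41, true)], 136), ([(5, 39, true)], 331), ([], 251), ([], 440)],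
  [([(2, 4, true), (1, 1, true), (0, 0, true), (2, 32, true), (4, 38, true), (3, 36, true), (5, 41, true), (4, 39, true), (4, 44, true)], 377), ([(2, 12, true), (1, 9, true)], 443), ([(2, 19, true)], 170), ([(2, 25, true)], 433), ([(2, 30, true)], 253), ([], 428), ([], 330), ([], 37), ([], 441)],
  [([(6, 8, true), (5, 7, true), (4, 6, true), (3, 5, true), (2, 4, true), (1, 3, true), (0, 0, true), (2, 34, true), (1, 32, true), (3, 44, true), (2, 36, true), (3, 39, true), (3, 38, true), (2, 35, true), (2, 44, true), (2, 41, true), (3, 43, true), (4, 44, true)], 459), ([(6, 16, true), (5, 15, true), (4, 14, true), (3, 13, true), (2, 12, true), (1, 11, true), (3, 30, true), (4, 41, true), (5, 43, true), (6, 44, true), (5, 42, true)], 34), ([(6, 23, true), (5, 22, true), (4, 21, true), (3, 20, true), (2, 19, true), (1, 18, true), (4, 32, true), (3, 31, true), (6, 43, true), (7, 38, true), (6, 37, true), (5, 36, true), (4, 35, true), (4, 41, true), (5, 43, true), (6, 44, true), (5, 40, true), (4, 39, true), (5, 43, true), (4, 42, true), (4, 44, true)], 286), ([(6,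 29, true), (5, 28, true), (4, 27, true), (3, 26, true), (2, 25, true), (1, 24, true), (3, 41, true), (4, 43, true), (5, 44, true)], 434), ([(6, 34, true), (5, 33, true), (4, 32, true), (3, 31, true), (2, 30, true), (4, 43, true), (5, 44, true)], 445), ([(6, 38, true), (5, 37, true), (4, 36, true), (3, 35, true), (3, 41, true), (4, 43, true), (5, 44, true)], 129), ([(6, 41, true), (5, 40, true), (4, 39, true)], 332), ([(6, 43, true), (5, 42, true)], 245), ([(6, 44, true)], 39)],
  [([(2, 7, true), (1, 4, true), (0, 0, true), (3, 43, true), (4, 44, true)], 473), ([(2, 15, true), (1, 12, true)], 37), ([(2, 22, true), (1, 19, true), (3, 42, true)], 148), ([(2, 28, true), (1, 25, true)], 454), ([(2, 33, true), (1, 30, true)], 243), ([(2, 37, true)], 61), ([(2, 40, true)], 333), ([(2, 42, true)], 443), ([], 38)],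
  [([(4, 8, true), (3, 7, true), (2, 4, true), (1, 1, true), (0, 0, true), (2, 32, true), (4, 38, true), (3, 36, true), (5, 41, true), (4, 39, true), (4, 44, true), (5, 44, true)], 483), ([(4, 16, true), (3, 15, true), (2, 12, true), (1, 9, true)], 38), ([(4, 23, true), (3, 22, true), (2, 19, true), (4, 42, true)], 349), ([(4, 29, true), (3, 28, true), (2, 25, true), (5, 44, true)], 471), ([(4, 34, true), (3, 33, true), (2, 30, true)], 240), ([(4, 38, true), (3, 37, true)], 131), ([(4, 41, true), (3, 40, true)], 54), ([(4, 43, true), (3, 42, true)], 441), ([(4, 44, true)], 37)],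
  [([(6, 7, true), (5, 6, true), (4, 5, true), (3, 4, true), (2, 3, true), (1, 1, true), (0, 0, true), (2, 27, true), (3, 39, true), (3, 34, true), (4, 38, true), (5, 41, true), (6, 44, true), (5, 36, true), (4, 35, true), (4, 41, true), (5, 44, true), (4, 39, true)], 366), ([(6, 15, true), (5, 14, true), (4, 13, true), (3, 12, true), (2, 11, true), (1, 9, true), (2, 30, true), (3, 41, true), (4, 43, true), (5, 44, true), (4, 42, true)], 33), ([(6, 22, true), (5, 21, true), (4, 20, true), (3, 19, true), (2, 18, true), (5, 32, true), (4, 31, true), (7, 43, true), (8, 38, true), (7, 37, true), (6, 36, true), (5, 35, true), (5, 41, true), (6, 43, true), (7, 44, true), (6, 40, true), (5, 39, true), (6, 43, true), (5, 42, true)], 283), ([(6, 28, true), (5, 27, true), (4, 26, true), (3, 25, true), (2, 24, true), (4, 41, true), (5, 43, true), (6, 44, true)], 107), ([(6, 33, true), (5, 32, true), (4, 31, true), (3, 30, true), (5, 43, true)], 446), ([(6, 37, true), (5, 36, true), (4, 35, true), (4, 41, true), (5, 43, true)], 63), ([(6, 40, true), (5, 39, true)], 55),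 ([(6, 42, true)], 246), ([], 36)],
  [([(4, 6, true), (3, 5, true), (2, 3, true), (1, 1, true), (0, 0, true), (2, 27, true), (3, 39, true), (3, 38, true), (4, 44, true)], 256), ([(4, 14, true), (3, 13, true), (2, 11, true), (1, 9, true), (4, 41, true), (5, 43, true), (6, 44, true)], 39), ([(4, 21, true), (3, 20, true), (2, 18, true), (5, 36, true), (4, 35, true), (4, 41, true), (5, 41, true), (4, 39, true), (4, 44, true)], 295), ([(4, 27, true), (3, 26, true), (2, 24, true), (3, 41, true)], 466), ([(4, 32, true), (3, 31, true)], 440), ([(4, 36, true), (3, 35, true), (3, 41, true)], 58), ([(4, 39, true)], 214), ([], 241), ([], 34)],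
  [([(1, 1, true), (0, 0, true)], 4), ([(1, 9, true)], 32), ([], 147), ([], 111), ([], 247), ([], 135), ([], 215), ([], 447), ([], 35)],
  [([(4, 8, true), (3, 6, true), (2, 5, true), (1, 3, true), (0, 0, true), (2, 38, true), (1, 36, true), (3, 44, true), (2, 39, true)], 204), ([(4, 16, true), (3, 14, true), (2, 13, true), (1, 11, true), (5, 41, true), (6, 43, true), (7, 44, true)], 36), ([(4, 23, true), (3, 21, true), (2, 20, true), (1, 18, true), (4, 36, true), (3, 35, true), (3, 41, true), (4, 41, true), (3, 39, true), (3, 44, true)], 290), ([(4, 29, true), (3, 27, true), (2, 26, true), (1, 24, true), (2, 41, true), (3, 44, true)], 451), ([(4, 34, true), (3, 32, true), (2, 31, true), (5, 44, true)], 442), ([(4, 38, true), (3, 36, true), (2, 35, true), (2, 41, true), (3, 44, true)], 132), ([(4, 41, true), (3, 39, true)], 189), ([(4, 43, true)], 242), ([(4, 44, true)], 33)],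
  [([(1, 8, true), (0, 0, true)], 234), ([(1, 16, true)], 35), ([(1, 23, true)], 346), ([(1, 29, true)], 439), ([(1, 34, true)], 244), ([(1, 38, true)], 57), ([(1, 41, true)], 188), ([(1, 43, true)], 444), ([(1, 44, true)], 32)]]

/-- Derivations closing the normal words, part 8. -/
def multClosing8 : List (List (List (ℕ × ℕ × Bool) × ℕ)) := [
  [([(4, 6, true), (3, 5, true), (2, 3, true), (1, 2, true), (0, 1, true), (3, 21, true), (2, 17, true), (3, 44, true), (2, 27, true), (3, 39, true), (3, 38, true), (4, 44, true)], 252), ([(4, 14, true), (3, 13, true), (2, 11, true), (1, 10, true), (0, 9, true), (1, 28, true), (3, 34, true), (2, 33, true), (4, 38, true), (3, 37, true), (5, 44, true), (4, 40, true), (5, 42, true)], 341), ([(4, 21, true), (3, 20, true), (2, 18, true), (1, 17, true), (3, 36, true), (2, 35, true), (2, 41, true), (3, 41, true), (2, 39, true), (2, 44, true)], 497), ([(4, 27, true), (3, 26, true), (2, 24, true), (3, 41, true)], 158), ([(4, 32, true), (3, 31, true)], 199), ([(4, 36, true), (3, 35, true), (3, 41, true)], 487), ([(4, 39, true)],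 5), ([], 415), ([], 339)],
  [([(1, 2, true), (0, 1, true), (3, 21, true), (2, 17, true), (3, 44, true)], 215), ([(1, 10, true), (0, 9, true)], 343), ([(1, 17, true)], 237), ([], 360), ([], 413), ([], 315), ([], 4), ([], 197), ([], 338)],
  [([(6, 7, true), (5, 6, true), (4, 5, true), (3, 4, true), (2, 3, true), (1, 2, true), (0, 1, true), (3, 21, true), (2, 17, true), (3, 44, true), (2, 27, true), (3, 39, true), (3, 34, true), (4, 38, true), (5, 41, true), (6, 44, true), (5, 36, true), (4, 35, true), (4, 41, true), (5, 44, true), (4, 39, true)], 106), ([(6, 15, true), (5, 14, true), (4, 13, true), (3, 12, true), (2, 11, true), (1, 10, true), (0, 9, true), (1, 28, true), (3, 34, true), (2, 33, true), (4, 34, true), (3, 33, true), (2, 30, true), (3, 38, true), (2, 37, true), (4, 44, true), (3, 40, true), (4, 42, true), (4, 43, true)], 342), ([(6, 22, true), (5, 21, true), (4, 20, true), (3, 19, true), (2, 18, true), (1, 17, true), (3, 32, true), (2, 31, true), (5, 43, true), (6, 38, true), (5, 37, true), (4, 36, true), (3, 35, true), (3, 41, true), (4, 43, true),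 (5, 44, true), (4, 40, true), (3, 39, true), (4, 43, true), (3, 42, true)], 475), ([(6, 28, true), (5, 27, true), (4, 26, true), (3, 25, true), (2, 24, true), (4, 41, true), (5, 43, true), (6, 44, true)], 367), ([(6, 33, true), (5, 32, true), (4, 31, true), (3, 30, true), (5, 43, true)], 196), ([(6, 37, true), (5, 36, true), (4, 35, true), (4, 41, true), (5, 43, true)], 482), ([(6, 40, true), (5, 39, true)], 373), ([(6, 42, true)], 412), ([], 337)],
  [([(4, 8, true), (3, 7, true), (2, 4, true), (1, 2, true), (0, 1, true), (3, 21, true), (2, 17, true), (3, 44, true), (2, 32, true), (4, 38, true), (3, 36, true), (5, 41, true), (4, 39, true), (4, 44, true), (5, 44, true)], 62), ([(4, 16, true), (3, 15, true), (2, 12, true), (1, 10, true), (0, 9, true), (1, 33, true), (2, 42, true)], 340), ([(4, 23, true), (3, 22, true), (2, 19, true), (1, 17, true), (2, 42, true)], 223), ([(4, 29, true), (3, 28, true), (2, 25, true), (5, 44, true)], 153), ([(4, 34, true), (3, 33, true), (2, 30, true)], 414), ([(4, 38, true), (3, 37, true)], 318), ([(4, 41, true), (3, 40, true)],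 372), ([(4, 43, true), (3, 42, true)], 198), ([(4, 44, true)], 336)],
  [([(2, 8, true), (1, 7, true), (0, 2, true), (2, 43, true), (3, 44, true)], 145), ([(2, 16, true), (1, 15, true), (0, 10, true), (2, 42, true)], 338), ([(2, 23, true), (1, 22, true), (0, 17, true)], 220), ([(2, 29, true), (1, 28, true), (3, 44, true)], 72), ([(2, 34, true), (1, 33, true)], 408), ([(2, 38, true), (1, 37, true)], 484), ([(2, 41, true), (1, 40, true)], 488), ([(2, 43, true), (1, 42, true)], 193), ([(2, 44, true)], 343)],
  [([(4, 7, true), (3, 6, true), (2, 5, true), (1, 3, true), (0, 2, true), (2, 29, true), (3, 41, true), (4, 44, true), (3, 36, true), (5, 41, true), (4, 39, true), (4, 43, true), (5, 44, true)], 395), ([(4, 15, true), (3, 14, true), (2, 13, true), (1, 11, true), (0, 10, true), (2, 28, true), (4, 34, true), (3, 33, true), (5, 38, true), (4, 37, true), (6, 44, true), (5, 40, true), (6, 42, true), (6, 43, true)], 337), ([(4, 22, true), (3, 21, true), (2, 20, true), (1, 18, true), (0, 17, true), (2, 36, true), (1, 35, true), (1, 41, true), (2, 41, true), (1,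 39, true), (1, 44, true)], 498), ([(4, 28, true), (3, 27, true), (2, 26, true), (1, 24, true), (2, 41, true), (3, 43, true), (4, 44, true)], 47), ([(4, 33, true), (3, 32, true), (2, 31, true), (5, 43, true)], 195), ([(4, 37, true), (3, 36, true), (2, 35, true), (2, 41, true), (3, 43, true)], 313), ([(4, 40, true), (3, 39, true)], 489), ([(4, 42, true)], 410), ([], 342)],
  [([(4, 6, true), (3, 5, true), (2, 4, true), (1, 3, true), (0, 2, true), (2, 29, true), (3, 41, true), (4, 44, true), (3, 32, true), (5, 38, true), (4, 36, true), (6, 41, true), (5, 39, true), (5, 44, true), (4, 35, true), (4, 44, true)], 273), ([(4, 14, true), (3, 13, true), (2, 12, true), (1, 11, true), (0, 10, true), (2, 28, true), (4, 34, true), (3, 33, true), (5, 34, true), (4, 33, true), (3, 30, true), (4, 38, true), (3, 37, true), (5, 44, true), (4, 40, true), (5, 42, true)], 339), ([(4, 21, true), (3, 20, true), (2, 19, true), (1, 18, true), (0, 17, true), (2, 32, true), (1, 31, true), (4, 43, true), (5, 38, true), (4, 37, true), (3, 36, true), (2, 35, true), (2, 41, true), (3, 43,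 true), (4, 44, true), (3, 40, true), (2, 39, true)], 472), ([(4, 27, true), (3, 26, true), (2, 25, true), (1, 24, true), (3, 41, true)], 78), ([(4, 32, true), (3, 31, true), (2, 30, true)], 192), ([(4, 36, true), (3, 35, true), (3, 41, true)], 316), ([(4, 39, true)], 225), ([], 409), ([], 341)],
  [([(1, 4, true), (0, 2, true), (2, 34, true), (3, 38, true), (4, 41, true), (5, 44, true)], 287), ([(1, 12, true), (0, 10, true), (2, 33, true)], 336), ([(1, 19, true), (0, 17, true)], 238), ([(1, 25, true)], 41), ([(1, 30, true)], 411), ([], 481), ([], 224), ([], 194), ([], 340)],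
  [([(6, 8, true), (5, 7, true), (4, 6, true), (3, 3, true), (2, 2, true), (1, 1, true), (0, 0, true), (2, 21, true), (1, 17, true), (2, 44, true), (1, 27, true), (2, 39, true), (2, 41, true), (3, 43, true), (4, 44, true)], 179), ([(6, 16, true), (5, 15, true), (4, 14, true), (3, 11, true), (2, 10, true), (1, 9, true), (2, 28, true), (4, 34, true), (3, 33, true), (5, 41, true), (4, 40, true), (6, 43, true), (5, 42, true), (5, 44, true)], 114), ([(6, 23, true), (5, 22, true), (4, 21, true), (3, 18, true), (2, 17, true), (4, 39, true), (4, 43, true), (5, 44, true)], 187), ([(6, 29, true), (5, 28, true), (4, 27, true), (3, 24, true), (5, 44, true)], 388), ([(6, 34, true), (5, 33, true), (4, 32, true), (6, 43, true), (7, 44, true)], 404), ([(6, 38, true), (5, 37, true), (4, 36, true)], 345), ([(6, 41, true), (5, 40, true), (4, 39, true)], 355), ([(6, 43, true), (5, 42, true)], 277), ([(6, 44, true)], 119)],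
  [([(4, 7, true), (3, 5, true), (2, 2, true), (1, 1, true), (0, 0, true), (2, 21, true), (1, 17, true), (2, 44, true), (1, 36, true), (3, 43, true), (4, 44, true)], 123), ([(4, 15, true), (3, 13, true), (2, 10, true), (1, 9, true), (2, 37, true), (4, 43, true), (3, 42, true)], 117), ([(4, 22, true), (3, 20, true), (2, 17, true)], 140), ([(4, 28, true), (3, 26, true), (5, 43, true), (6, 44, true)], 399), ([(4, 33, true), (3, 31, true)], 275), ([(4, 37, true), (3, 35, true), (3, 43, true)], 69), ([(4, 40, true)], 354), ([(4, 42, true)], 403), ([], 118)],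
  [([(2, 5, true), (1, 2, true), (0, 0, true), (1, 38, true), (2, 44, true)], 163), ([(2, 13, true), (1, 10, true), (3, 37, true)], 118), ([(2, 20, true), (1, 17, true)], 133), ([(2, 26, true)], 423), ([(2, 31, true)], 272), ([(2, 35, true)], 346), ([], 100), ([], 401), ([], 117)],
  [([(3, 6, true), (2, 3, true), (1, 2, true), (0, 0, true), (1, 29, true), (2, 41, true), (3, 44, true), (2, 39, true)], 156), ([(3, 14, true), (2, 11, true), (1, 10, true), (3, 28, true), (5, 34, true), (4, 33, true), (6, 41, true), (5, 40, true), (7, 43, true), (6, 42, true), (6, 44, true)], 112), ([(3, 21, true), (2, 18, true), (1, 17, true), (3, 39, true)], 189), ([(3, 27, true), (2, 24, true)], 13), ([(3, 32, true)], 406), ([(3, 36, true)], 71), ([(3, 39, true)], 101), ([], 278), ([], 116)],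
  [([(5, 7, true), (4, 6, true), (3, 4, true), (2, 3, true), (1, 2, true), (0, 0, true), (1, 29, true), (2, 41, true), (3, 44, true), (2, 32, true), (4, 38, true), (3, 36, true), (5, 41, true), (4, 39, true), (4, 44, true)], 195), ([(5, 15, true), (4, 14, true), (3, 12, true), (2, 11, true), (1, 10, true), (3, 28, true), (5, 34, true), (4, 33, true), (6, 34, true), (5, 33, true), (4, 30, true), (5, 41, true), (4, 40, true), (6, 43, true), (5, 42, true), (5, 44, true)], 119), ([(5, 22, true), (4, 21, true), (3, 19, true), (2, 18, true), (1, 17, true), (3, 32, true), (2, 31, true), (5, 43, true), (6, 41, true), (5, 40, true), (4, 39, true), (5, 44, true), (4, 42, true)], 211), ([(5, 28, true), (4, 27, true), (3, 25, true), (2, 24, true)], 420), ([(5, 33, true), (4, 32, true), (3, 30, true), (4, 43, true)], 400), ([(5, 37, true), (4, 36, true)], 66), ([(5, 40, true), (4, 39, true)], 293), ([(5, 42, true)], 273), ([], 114)],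
  [([(5, 8, true), (4, 7, true), (3, 5, true), (2, 4, true), (1, 2, true), (0, 0, true), (1, 34, true), (2, 38, true), (3, 41, true), (4, 44, true), (3, 36, true), (2, 35, true), (2, 41, true), (3, 44, true), (4, 44, true)], 3), ([(5, 16, true), (4, 15, true), (3, 13, true), (2, 12, true), (1, 10, true), (3, 33, true), (4, 37, true), (6, 43, true), (5, 42, true), (5, 44, true)], 113), ([(5, 23, true), (4, 22, true), (3, 20, true), (2, 19, true), (1, 17, true), (2, 37, true), (3, 42, true)], 139), ([(5, 29, true), (4, 28, true), (3, 26, true), (2, 25, true), (5, 43, true), (6, 44, true)], 15), ([(5, 34, true), (4, 33, true), (3, 31, true), (2, 30, true)], 279), ([(5, 38, true), (4, 37, true), (3, 35, true), (3, 43, true), (4, 44, true)], 351), ([(5, 41, true), (4, 40, true)], 292), ([(5, 43, true), (4, 42, true)], 407), ([(5, 44, true)], 115)],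
  [([(6, 8, true), (5, 6, true), (4, 4, true), (3, 3, true), (2, 2, true), (1, 1, true), (0, 0, true), (2, 21, true), (1, 17, true), (2, 44, true), (1, 27, true), (2, 39, true), (2, 34, true), (3, 38, true), (4, 41, true), (5, 44, true), (4, 39, true)], 206), ([(6, 16, true), (5, 14, true), (4, 12, true), (3, 11, true), (2, 10, true), (1, 9, true), (2, 28, true), (4, 34, true), (3, 33, true), (5, 34, true), (4, 33, true), (3, 30, true), (4, 41, true), (3, 40, true), (5, 43, true), (4, 42, true), (4, 44, true)], 116), ([(6, 23, true), (5, 21, true), (4, 19, true), (3, 18, true), (2, 17, true), (4, 32, true), (3, 31, true), (6, 43, true), (7, 41, true), (6, 40, true), (5, 39, true), (6, 44, true)], 212), ([(6, 29, true), (5, 27, true), (4, 25, true), (3, 24, true)], 397), ([(6, 34, true), (5, 32, true), (4, 30, true), (5, 44, true)], 402), ([(6, 38, true), (5, 36, true)], 348), ([(6, 41, true), (5, 39, true)], 283), ([(6, 43, true)], 274), ([(6, 44, true)], 112)],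
  [([(5, 8, true), (4, 5, true), (3, 4, true), (2, 2, true), (1, 1, true), (0, 0, true), (2, 21, true), (1, 17, true), (2, 44, true), (1, 32, true), (3, 38, true), (2, 36, true), (4, 41, true), (3, 39, true), (3, 44, true), (2, 35, true), (2, 44, true)], 223), ([(5, 16, true), (4, 13, true), (3, 12, true), (2, 10, true), (1, 9, true), (2, 33, true), (3, 37, true), (5, 44, true)], 115), ([(5, 23, true), (4, 20, true), (3, 19, true), (2, 17, true), (3, 37, true)], 131), ([(5, 29, true), (4, 26, true), (3, 25, true), (6, 44, true)], 391), ([(5, 34, true), (4, 31, true), (3, 30, true)], 276), ([(5, 38, true), (4, 35, true), (4, 44, true)], 64), ([(5, 41, true)], 282), ([(5, 43, true)], 405), ([(5, 44, true)], 113)],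
  [([(3, 5, true), (2, 4, true), (1, 2, true), (0, 0, true), (1, 34, true), (2, 38, true), (3, 41, true), (4, 44, true), (3, 36, true), (2, 35, true), (2, 41, true), (3, 44, true)], 224), ([(3, 13, true), (2, 12, true), (1, 10, true), (3, 33, true), (4, 37, true)], 405), ([(3, 20, true), (2, 19, true), (1, 17, true), (2, 37, true)], 61), ([(3, 26, true), (2, 25, true)], 393), ([(3, 31, true), (2, 30, true)], 266), ([(3, 35, true)], 169), ([], 287), ([], 115), ([], 407)],
  [([(4, 6, true), (3, 4, true), (2, 3, true), (1, 2, true), (0, 0, true), (1, 29, true), (2, 41, true), (3, 44, true), (2, 32, true), (4, 38, true), (3, 36, true), (5, 41, true), (4, 39, true), (4, 44, true)], 262), ([(4, 14, true), (3, 12, true), (2, 11, true), (1, 10, true), (3, 28, true), (5, 34, true), (4, 33, true), (6, 34, true), (5, 33, true), (4, 30, true), (5, 41, true), (4, 40, true), (6, 43, true), (5, 42, true), (5, 44, true)], 402), ([(4, 21, true), (3, 19, true), (2, 18, true), (1, 17, true), (3, 32, true), (2, 31, true), (5, 43, true), (6, 41, true), (5, 40, true), (4, 39, true),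 (5, 44, true)], 191), ([(4, 27, true), (3, 25, true), (2, 24, true)], 387), ([(4, 32, true), (3, 30, true)], 116), ([(4, 36, true)], 149), ([(4, 39, true)], 286), ([], 268), ([], 406)],
  [([(7, 8, true), (6, 7, true), (5, 6, true), (4, 4, true), (3, 3, true), (2, 2, true), (1, 1, true), (0, 0, true), (2, 21, true), (1, 17, true), (2, 44, true), (1, 27, true), (2, 39, true), (2, 34, true), (3, 38, true), (4, 41, true), (5, 44, true), (4, 39, true), (5, 44, true)], 297), ([(7, 16, true), (6, 15, true), (5, 14, true), (4, 12, true), (3, 11, true), (2, 10, true), (1, 9, true), (2, 28, true), (4, 34, true), (3, 33, true), (5, 34, true), (4, 33, true), (3, 30, true), (4, 41, true), (3, 40, true), (5, 43, true), (4, 42, true), (4, 44, true)], 400), ([(7, 23, true), (6, 22, true), (5, 21, true), (4, 19, true), (3, 18, true), (2, 17, true), (4, 32, true), (3, 31, true), (6, 43, true), (7, 41, true), (6, 40, true), (5, 39, true), (6, 44, true), (5, 42, true)], 185), ([(7, 29, true), (6, 28, true), (5, 27, true), (4, 25, true), (3, 24, true), (6, 44, true)], 10), ([(7,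 34, true), (6, 33, true), (5, 32, true), (4, 30, true), (5, 43, true), (6, 44, true)], 119), ([(7, 38, true), (6, 37, true), (5, 36, true)], 171), ([(7, 41, true), (6, 40, true), (5, 39, true)], 289), ([(7, 43, true), (6, 42, true)], 270), ([(7, 44, true)], 404)],
  [([(5, 7, true), (4, 5, true), (3, 4, true), (2, 2, true), (1, 1, true), (0, 0, true), (2, 21, true), (1, 17, true), (2, 44, true), (1, 32, true), (3, 38, true), (2, 36, true), (4, 41, true), (3, 39, true), (3, 44, true), (2, 35, true), (2, 44, true)], 232), ([(5, 15, true), (4, 13, true), (3, 12, true), (2, 10, true), (1, 9, true), (2, 33, true), (3, 37, true), (5, 43, true), (4, 42, true)], 407), ([(5, 22, true), (4, 20, true), (3, 19, true), (2, 17, true), (3, 37, true), (4, 42, true)], 428), ([(5, 28, true), (4, 26, true), (3, 25, true), (6, 43, true), (7, 44, true)], 416), ([(5, 33, true), (4, 31, true), (3, 30, true)], 265), ([(5, 37, true), (4, 35, true), (4, 43, true)], 151), ([(5, 40, true)], 288), ([(5, 42, true)], 113), ([], 405)],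
  [([(4, 8, true), (3, 5, true), (2, 2, true), (1, 1, true), (0, 0, true), (2, 21, true), (1, 17, true), (2, 44, true), (1, 36, true), (3, 44, true)], 496), ([(4, 16, true), (3, 13, true), (2, 10, true), (1, 9, true), (2, 37, true), (4, 44, true)], 401), ([(4, 23, true), (3, 20, true), (2, 17, true)], 59), ([(4, 29, true), (3, 26, true), (5, 44, true)], 9), ([(4, 34, true), (3, 31, true)], 271), ([(4, 38, true), (3, 35, true), (3, 44, true)], 147), ([(4, 41, true)], 97), ([(4, 43, true)], 118), ([(4, 44, true)], 403)],
  [([(5, 8, true), (4, 6, true), (3, 3, true), (2, 2, true), (1, 1, true), (0, 0, true), (2, 21, true), (1, 17, true), (2, 44, true), (1, 27, true), (2, 39, true), (2, 41, true), (3, 44, true)], 81), ([(5, 16, true), (4, 14, true), (3, 11, true), (2, 10, true), (1, 9, true), (2, 28, true), (4, 34, true), (3, 33, true), (5, 41, true), (4, 40, true), (6, 43, true), (5, 42, true), (5, 44, true)], 406), ([(5, 23, true), (4, 21, true), (3, 18, true), (2, 17, true), (4, 39, true), (4, 44, true)], 214), ([(5, 29, true), (4, 27, true), (3, 24, true)],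 418), ([(5, 34, true), (4, 32, true), (6, 44, true)], 112), ([(5, 38, true), (4, 36, true)], 175), ([(5, 41, true), (4, 39, true)], 96), ([(5, 43, true)], 264), ([(5, 44, true)], 402)],
  [([(4, 7, true), (3, 6, true), (2, 3, true), (1, 2, true), (0, 0, true), (1, 29, true), (2, 41, true), (3, 44, true), (2, 39, true)], 46), ([(4, 15, true), (3, 14, true), (2, 11, true), (1, 10, true), (3, 28, true), (5, 34, true), (4, 33, true), (6, 41, true), (5, 40, true), (7, 43, true), (6, 42, true), (6, 44, true)], 404), ([(4, 22, true), (3, 21, true), (2, 18, true), (1, 17, true), (3, 39, true), (3, 43, true)], 209), ([(4, 28, true), (3, 27, true), (2, 24, true)], 394), ([(4, 33, true), (3, 32, true), (5, 43, true)], 114), ([(4, 37, true), (3, 36, true)], 144), ([(4, 40, true), (3, 39, true)], 359), ([(4, 42, true)], 267), ([], 400)],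
  [([(4, 8, true), (3, 7, true), (2, 5, true), (1, 2, true), (0, 0, true), (1, 38, true), (2, 44, true), (3, 44, true)], 312), ([(4, 16, true), (3, 15, true), (2, 13, true), (1, 10, true), (3, 37, true), (5, 43, true), (4, 42, true), (4, 44, true)], 403), ([(4, 23, true), (3, 22, true), (2, 20, true), (1, 17, true)], 427), ([(4, 29, true), (3, 28, true), (2, 26, true), (4, 43, true), (5, 44, true)], 385), ([(4, 34, true), (3, 33, true), (2, 31, true)], 269), ([(4, 38, true), (3, 37, true), (2, 35, true), (2, 43, true), (3, 44, true)], 173), ([(4, 41, true), (3, 40, true)], 358), ([(4, 43, true), (3, 42, true)], 117), ([(4, 44, true)], 401)],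
  [([(4, 7, true), (3, 6, true), (2, 5, true), (1, 2, true), (0, 0, true), (1, 38, true), (2, 44, true)], 73), ([(4, 15, true), (3, 14, true), (2, 13, true), (1, 10, true), (3, 37, true), (5, 41, true), (4, 40, true), (6, 43, true), (5, 42, true), (5, 44, true)], 354), ([(4, 22, true), (3, 21, true), (2, 20, true), (1, 17, true), (3, 43, true)], 108), ([(4, 28, true), (3, 27, true), (2, 26, true), (4, 41, true), (5, 43, true), (6, 44, true)], 144), ([(4, 33, true), (3, 32, true), (2, 31, true), (5, 43, true)], 292), ([(4, 37, true), (3, 36, true), (2, 35, true), (2, 41, true), (3, 43, true)], 394), ([(4, 40, true), (3, 39, true)], 401), ([(4, 42, true)], 100), ([], 358)],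
  [([(4, 8, true), (3, 7, true), (2, 3, true), (1, 2, true), (0, 0, true), (1, 29, true), (2, 41, true), (3, 44, true), (4, 44, true)], 485), ([(4, 16, true), (3, 15, true), (2, 11, true), (1, 10, true), (3, 28, true), (5, 34, true), (4, 33, true), (6, 43, true), (5, 42, true), (5, 44, true)], 356), ([(4, 23, true), (3, 22, true), (2, 18, true), (1, 17, true)], 242), ([(4, 29, true), (3, 28, true), (2, 24, true), (3, 44, true)], 173), ([(4, 34, true), (3, 33, true)], 99), ([(4, 38, true), (3, 37, true)], 385), ([(4, 41, true), (3, 40, true)], 400), ([(4, 43, true), (3, 42, true)], 290), ([(4, 44, true)], 359)],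
  [([(6, 8, true), (5, 6, true), (4, 5, true), (3, 4, true), (2, 2, true), (1, 1, true), (0, 0, true), (2, 21, true), (1, 17, true), (2, 44, true), (1, 32, true), (3, 38, true), (2, 36, true), (4, 41, true), (3, 39, true), (3, 44, true), (2, 35, true), (2, 44, true)], 207), ([(6, 16, true), (5, 14, true), (4, 13, true), (3, 12, true), (2, 10, true), (1, 9, true), (2, 33, true), (3, 37, true), (5, 41, true), (4, 40, true), (6, 43, true), (5, 42, true), (5, 44, true)], 353), ([(6, 23, true), (5, 21, true), (4, 20, true), (3, 19, true), (2, 17, true), (3, 37, true), (4, 40, true), (6, 44, true)], 107), ([(6, 29, true), (5, 27, true), (4, 26, true), (3, 25, true), (6, 41, true), (7, 44, true)], 65), ([(6, 34, true), (5, 32, true), (4, 31, true), (3, 30, true), (5, 44, true)], 294), ([(6, 38, true), (5, 36, true), (4, 35, true), (4, 41, true), (5, 44, true)], 390), ([(6, 41, true), (5, 39, true)], 271), ([(6, 43, true)], 103), ([(6, 44, true)], 357)],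
  [([(5, 8, true), (4, 4, true), (3, 3, true), (2, 2, true), (1, 1, true), (0, 0, true), (2, 21, true), (1, 17, true), (2, 44, true), (1, 27, true), (2, 39, true), (2, 34, true), (3, 38, true), (4, 41, true), (5, 44, true)], 222), ([(5, 16, true), (4, 12, true), (3, 11, true), (2, 10, true), (1, 9, true), (2, 28, true), (4, 34, true), (3, 33, true), (5, 34, true), (4, 33, true), (3, 30, true), (4, 44, true)], 359), ([(5, 23, true), (4, 19, true), (3, 18, true), (2, 17, true), (4, 32, true), (3, 31, true), (6, 43, true), (7, 44, true)], 251), ([(5, 29, true), (4, 25, true), (3, 24, true)], 349), ([(5, 34, true), (4, 30, true)], 96), ([(5, 38, true)], 396), ([(5, 41, true)], 270), ([(5, 43, true)], 289), ([(5, 44, true)], 356)],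
  [([(4, 7, true), (3, 3, true), (2, 2, true), (1, 1, true), (0, 0, true), (2, 21, true), (1, 17, true), (2, 44, true), (1, 27, true), (2, 39, true), (2, 43, true), (3, 44, true)], 478), ([(4, 15, true), (3, 11, true), (2, 10, true), (1, 9, true), (2, 28, true), (4, 34, true), (3, 33, true), (5, 43, true), (4, 42, true)], 352), ([(4, 22, true), (3, 18, true), (2, 17, true)], 241), ([(4, 28, true), (3, 24, true)], 69), ([(4, 33, true)], 102), ([(4, 37, true)], 399), ([(4, 40, true)], 119), ([(4, 42, true)], 295), ([], 355)],
  [([(6, 8, true), (5, 7, true), (4, 6, true), (3, 5, true), (2, 2, true), (1, 1, true), (0, 0, true), (2, 21, true), (1, 17, true), (2, 44, true), (1, 36, true), (3, 41, true), (2, 39, true), (2, 43, true), (3, 44, true)], 31), ([(6, 16, true), (5, 15, true), (4, 14, true), (3, 13, true), (2, 10, true), (1, 9, true), (2, 37, true), (4, 41, true), (3, 40, true), (5, 43, true), (4, 42, true), (4, 44, true)], 358), ([(6, 23, true), (5, 22, true), (4, 21, true), (3, 20, true), (2, 17, true), (4, 43, true), (5, 44, true)], 437), ([(6, 29, true),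 (5, 28, true), (4, 27, true), (3, 26, true), (5, 41, true), (6, 43, true), (7, 44, true)], 345), ([(6, 34, true), (5, 33, true), (4, 32, true), (3, 31, true), (6, 43, true), (7, 44, true)], 288), ([(6, 38, true), (5, 37, true), (4, 36, true), (3, 35, true), (3, 41, true), (4, 43, true), (5, 44, true)], 388), ([(6, 41, true), (5, 40, true), (4, 39, true)], 118), ([(6, 43, true), (5, 42, true)], 97), ([(6, 44, true)], 354)],
  [([(3, 4, true), (2, 3, true), (1, 2, true), (0, 0, true), (1, 29, true), (2, 41, true), (3, 44, true), (2, 32, true), (4, 38, true), (3, 36, true), (5, 41, true), (4, 39, true), (4, 44, true)], 225), ([(3, 12, true), (2, 11, true), (1, 10, true), (3, 28, true), (5, 34, true), (4, 33, true), (6, 34, true), (5, 33, true), (4, 30, true)], 355), ([(3, 19, true), (2, 18, true), (1, 17, true), (3, 32, true), (2, 31, true), (5, 43, true)], 248), ([(3, 25, true), (2, 24, true)], 148), ([(3, 30, true)], 101), ([], 386), ([], 273), ([], 293), ([], 352)],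
  [([(4, 6, true), (3, 5, true), (2, 4, true), (1, 2, true), (0, 0, true), (1, 34, true), (2, 38, true), (3, 41, true), (4, 44, true), (3, 36, true), (2, 35, true), (2, 41, true), (3, 44, true), (2, 39, true)], 263), ([(4, 14, true), (3, 13, true), (2, 12, true), (1, 10, true), (3, 33, true), (4, 37, true), (6, 41, true), (5, 40, true), (7, 43, true), (6, 42, true), (6, 44, true)], 357), ([(4, 21, true), (3, 20, true), (2, 19, true), (1, 17, true), (2, 37, true), (3, 40, true)], 434), ([(4, 27, true), (3, 26, true), (2, 25, true), (5, 41, true)], 168), ([(4, 32, true), (3, 31, true), (2, 30, true)], 291), ([(4, 36, true), (3, 35, true), (3, 41, true)], 392), ([(4, 39, true)], 272), ([], 98), ([], 353)]]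

/-- Derivations closing the normal words, part 9. -/
def multClosing9 : List (List (List (ℕ × ℕ × Bool) × ℕ)) := [
  [([(6, 7, true), (5, 6, true), (4, 5, true), (3, 4, true), (2, 2, true), (1, 1, true), (0, 0, true), (2, 21, true), (1, 17, true), (2, 44, true), (1, 32, true), (3, 38, true), (2, 36, true), (4, 41, true), (3, 39, true), (3, 44, true), (2, 35, true), (2, 44, true)], 296), ([(6, 15, true), (5, 14, true), (4, 13, true), (3, 12, true), (2, 10, true), (1, 9, true), (2, 33, true), (3, 37, true), (5, 41, true), (4, 40, true), (6, 43, true), (5, 42, true), (5, 44, true)], 98), ([(6, 22, true), (5, 21, true), (4, 20, true), (3, 19, true), (2, 17, true), (3, 37, true), (4, 40, true), (6, 43, true), (5, 42, true)], 452), ([(6, 28, true), (5, 27, true), (4, 26, true), (3, 25, true), (6, 41, true), (7, 43, true), (8, 44, true)], 150), ([(6, 33, true), (5, 32, true), (4, 31, true), (3, 30, true), (5, 43, true)], 285), ([(6, 37, true), (5, 36, true), (4, 35, true), (4, 41, true), (5, 43, true)], 417), ([(6, 40, true), (5, 39, true)], 275), ([(6, 42, true)],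 357), ([], 103)],
  [([(6, 8, true), (5, 7, true), (4, 4, true), (3, 3, true), (2, 2, true), (1, 1, true), (0, 0, true), (2, 21, true), (1, 17, true), (2, 44, true), (1, 27, true), (2, 39, true), (2, 34, true), (3, 38, true), (4, 41, true), (5, 44, true), (6, 44, true)], 233), ([(6, 16, true), (5, 15, true), (4, 12, true), (3, 11, true), (2, 10, true), (1, 9, true), (2, 28, true), (4, 34, true), (3, 33, true), (5, 34, true), (4, 33, true), (3, 30, true), (4, 43, true), (3, 42, true), (3, 44, true)], 101), ([(6, 23, true), (5, 22, true), (4, 19, true), (3, 18, true), (2, 17, true), (4, 32, true), (3, 31, true), (6, 43, true), (7, 43, true), (6, 42, true), (6, 44, true)], 246), ([(6, 29, true), (5, 28, true), (4, 25, true), (3, 24, true), (5, 44, true)], 170), ([(6, 34, true), (5, 33, true), (4, 30, true)], 355), ([(6, 38, true), (5, 37, true)], 11), ([(6, 41, true), (5, 40, true)], 274), ([(6, 43, true), (5, 42, true)], 283), ([(6, 44, true)], 102)],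
  [([(3, 8, true), (2, 3, true), (1, 2, true), (0, 0, true), (1, 29, true), (2, 41, true), (3, 44, true)], 382), ([(3, 16, true), (2, 11, true), (1, 10, true), (3, 28, true), (5, 34, true), (4, 33, true), (6, 44, true)], 102), ([(3, 23, true), (2, 18, true), (1, 17, true)], 254), ([(3, 29, true), (2, 24, true)], 346), ([(3, 34, true)], 352), ([(3, 38, true)], 423), ([(3, 41, true)], 116), ([(3, 43, true)], 281), ([(3, 44, true)], 101)],
  [([(4, 8, true), (3, 6, true), (2, 5, true), (1, 2, true), (0, 0, true), (1, 38, true), (2, 44, true)], 362), ([(4, 16, true), (3, 14, true), (2, 13, true), (1, 10, true), (3, 37, true), (5, 41, true), (4, 40, true), (6, 43, true), (5, 42, true), (5, 44, true)], 97), ([(4, 23, true), (3, 21, true), (2, 20, true), (1, 17, true), (3, 44, true)], 451), ([(4, 29, true), (3, 27, true), (2, 26, true), (4, 41, true), (5, 44, true)], 71), ([(4, 34, true), (3, 32, true), (2, 31, true), (5, 44, true)], 287), ([(4, 38, true), (3, 36, true), (2, 35, true), (2, 41, true), (3, 44, true)], 13), ([(4, 41, true), (3, 39, true)], 117), ([(4,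 43, true)], 358), ([(4, 44, true)], 100)],
  [([(6, 8, true), (5, 7, true), (4, 6, true), (3, 5, true), (2, 4, true), (1, 2, true), (0, 0, true), (1, 34, true), (2, 38, true), (3, 41, true), (4, 44, true), (3, 36, true), (2, 35, true), (2, 41, true), (3, 44, true), (2, 39, true), (3, 44, true)], 194), ([(6, 16, true), (5, 15, true), (4, 14, true), (3, 13, true), (2, 12, true), (1, 10, true), (3, 33, true), (4, 37, true), (6, 41, true), (5, 40, true), (7, 43, true), (6, 42, true), (6, 44, true)], 103), ([(6, 23, true), (5, 22, true), (4, 21, true), (3, 20, true), (2, 19, true), (1, 17, true), (2, 37, true), (3, 40, true), (5, 43, true), (4, 42, true), (4, 44, true)], 468), ([(6, 29, true), (5, 28, true), (4, 27, true), (3, 26, true), (2, 25, true), (5, 41, true), (6, 43, true), (7, 44, true)], 350), ([(6, 34, true), (5, 33, true), (4, 32, true), (3, 31, true), (2, 30, true), (4, 43, true), (5, 44, true)], 280), ([(6, 38, true), (5, 37, true), (4, 36, true), (3, 35, true), (3, 41, true), (4, 43, true), (5, 44, true)], 14), ([(6, 41, true), (5, 40, true), (4,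 39, true)], 269), ([(6, 43, true), (5, 42, true)], 353), ([(6, 44, true)], 98)],
  [([(4, 7, true), (3, 4, true), (2, 3, true), (1, 2, true), (0, 0, true), (1, 29, true), (2, 41, true), (3, 44, true), (2, 32, true), (4, 38, true), (3, 36, true), (5, 41, true), (4, 39, true), (4, 44, true)], 2), ([(4, 15, true), (3, 12, true), (2, 11, true), (1, 10, true), (3, 28, true), (5, 34, true), (4, 33, true), (6, 34, true), (5, 33, true), (4, 30, true), (5, 43, true), (4, 42, true)], 96), ([(4, 22, true), (3, 19, true), (2, 18, true), (1, 17, true), (3, 32, true), (2, 31, true), (5, 43, true), (6, 43, true), (5, 42, true)], 245), ([(4, 28, true), (3, 25, true), (2, 24, true)], 67), ([(4, 33, true), (3, 30, true)], 359), ([(4, 37, true)], 421), ([(4, 40, true)], 268), ([(4, 42, true)], 286), ([], 99)],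
  [([(4, 6, true), (3, 5, true), (2, 2, true), (1, 1, true), (0, 0, true), (2, 21, true), (1, 17, true), (2, 44, true), (1, 36, true), (3, 41, true), (2, 39, true)], 460), ([(4, 14, true), (3, 13, true), (2, 10, true), (1, 9, true), (2, 37, true), (4, 41, true), (3, 40, true), (5, 43, true), (4, 42, true), (4, 44, true)], 100), ([(4, 21, true), (3, 20, true), (2, 17, true)], 466), ([(4, 27, true), (3, 26, true), (5, 41, true)], 175), ([(4, 32, true), (3, 31, true)], 282), ([(4, 36, true), (3, 35, true), (3, 41, true)], 418), ([(4, 39, true)], 403), ([], 354), ([], 97)],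
  [([(3, 3, true), (2, 2, true), (1, 1, true), (0, 0, true), (2, 21, true), (1, 17, true), (2, 44, true), (1, 27, true), (2, 39, true)], 325), ([(3, 11, true), (2, 10, true), (1, 9, true), (2, 28, true), (4, 34, true), (3, 33, true)], 99), ([(3, 18, true), (2, 17, true)], 252), ([(3, 24, true)], 147), ([], 356), ([], 9), ([], 402), ([], 284), ([], 96)],
  [([(4, 8, true), (3, 7, true), (2, 6, true), (1, 4, true), (0, 1, true), (3, 32, true), (5, 38, true), (4, 36, true), (6, 41, true), (5, 39, true), (5, 44, true), (7, 44, true)], 288), ([(4, 16, true), (3, 15, true), (2, 14, true), (1, 12, true), (0, 9, true), (3, 43, true), (2, 42, true), (2, 44, true)], 91), ([(4, 23, true), (3, 22, true), (2, 21, true), (1, 19, true), (3, 40, true), (5, 43, true), (4, 42, true), (4, 44, true)], 226), ([(4, 29, true), (3, 28, true), (2, 27, true), (1, 25, true), (5, 44, true)], 84), ([(4, 34, true), (3, 33, true), (2, 32, true), (1, 30, true), (2, 43, true), (3, 44, true)], 23), ([(4, 38, true), (3, 37, true), (2, 36, true)], 320), ([(4, 41, true), (3, 40, true), (2, 39,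 true)], 232), ([(4, 43, true), (3, 42, true)], 207), ([(4, 44, true)], 93)],
  [([(4, 7, true), (3, 5, true), (2, 4, true), (1, 3, true), (0, 1, true), (3, 27, true), (4, 39, true), (4, 34, true), (5, 38, true), (6, 41, true), (7, 44, true), (6, 36, true), (5, 35, true), (5, 41, true), (6, 44, true)], 274), ([(4, 15, true), (3, 13, true), (2, 12, true), (1, 11, true), (0, 9, true), (1, 30, true), (2, 43, true)], 94), ([(4, 22, true), (3, 20, true), (2, 19, true), (1, 18, true), (4, 32, true), (3, 31, true), (6, 43, true), (7, 38, true), (6, 37, true), (5, 36, true), (4, 35, true), (4, 41, true), (5, 43, true), (6, 44, true), (5, 42, true)], 376), ([(4, 28, true), (3, 26, true), (2, 25, true), (1, 24, true), (3, 43, true), (4, 44, true)], 456), ([(4, 33, true), (3, 31, true), (2, 30, true)], 203), ([(4, 37, true), (3, 35, true), (3, 43, true)], 500), ([(4, 40, true)], 233), ([(4, 42, true)], 18), ([], 92)],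
  [([(2, 7, true), (1, 5, true), (0, 3, true), (3, 38, true), (2, 36, true), (4, 44, true)], 242), ([(2, 15, true), (1, 13, true), (0, 11, true), (4, 43, true)], 92), ([(2, 22, true), (1, 20, true), (0, 18, true), (3, 36, true), (2, 35, true), (2, 41, true), (3, 43, true)], 313), ([(2, 28, true), (1, 26, true), (0, 24, true), (1, 43, true), (2, 44, true)], 177), ([(2, 33, true), (1, 31, true)], 200), ([(2, 37, true), (1, 35, true), (1, 43, true)], 326), ([(2, 40, true)], 221), ([(2, 42, true)], 16), ([], 94)],
  [([(2, 8, true), (1, 7, true), (0, 6, true), (3, 44, true)], 208), ([(2, 16, true), (1, 15, true), (0, 14, true), (3, 43, true), (2, 42, true), (2, 44, true)], 89), ([(2, 23, true), (1, 22, true), (0, 21, true), (2, 43, true), (3, 44, true)], 229), ([(2, 29, true), (1, 28, true), (0, 27, true), (3, 44, true)], 29), ([(2, 34, true), (1, 33, true), (0, 32, true), (2, 43, true), (3, 44, true)], 20), ([(2, 38, true), (1, 37, true), (0, 36, true)], 499), ([(2, 41, true), (1, 40, true), (0, 39, true)], 220), ([(2, 43, true), (1, 42, true)], 205), ([(2, 44,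 true)], 95)],
  [([(3, 8, true), (2, 5, true), (1, 3, true), (0, 1, true), (3, 27, true), (4, 39, true), (4, 38, true), (5, 44, true)], 419), ([(3, 16, true), (2, 13, true), (1, 11, true), (0, 9, true), (3, 44, true)], 90), ([(3, 23, true), (2, 20, true), (1, 18, true), (4, 36, true), (3, 35, true), (3, 41, true), (4, 44, true)], 314), ([(3, 29, true), (2, 26, true), (1, 24, true), (2, 44, true)], 80), ([(3, 34, true), (2, 31, true)], 206), ([(3, 38, true), (2, 35, true), (2, 44, true)], 497), ([(3, 41, true)], 505), ([(3, 43, true)], 22), ([(3, 44, true)], 88)],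
  [([(2, 8, true), (1, 6, true), (0, 1, true), (3, 39, true)], 174), ([(2, 16, true), (1, 14, true), (0, 9, true), (2, 44, true)], 95), ([(2, 23, true), (1, 21, true), (3, 44, true)], 4), ([(2, 29, true), (1, 27, true)], 461), ([(2, 34, true), (1, 32, true), (3, 44, true)], 19), ([(2, 38, true), (1, 36, true)], 324), ([(2, 41, true), (1, 39, true)], 504), ([(2, 43, true)], 202), ([(2, 44, true)], 89)],
  [([(3, 8, true), (2, 5, true), (1, 4, true), (0, 3, true), (3, 34, true), (2, 32, true), (4, 44, true), (3, 36, true), (4, 39, true), (4, 38, true), (3, 35, true), (3, 44, true), (3, 44, true)], 469), ([(3, 16, true), (2, 13, true), (1, 12, true), (0, 11, true), (2, 30, true), (3, 44, true)], 88), ([(3, 23, true), (2, 20, true), (1, 19, true), (0, 18, true), (3, 32, true), (2, 31, true), (5, 43, true), (6, 38, true), (5, 37, true), (4, 36, true), (3, 35, true), (3, 41, true), (4, 43, true), (5, 44, true)], 379), ([(3, 29, true), (2, 26, true), (1, 25, true), (0, 24, true), (2, 44, true)], 24), ([(3, 34, true), (2, 31, true), (1, 30, true)], 204), ([(3, 38,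 true), (2, 35, true), (2, 44, true)], 322), ([(3, 41, true)], 309), ([(3, 43, true)], 21), ([(3, 44, true)], 90)],
  [([(2, 8, true), (1, 6, true), (0, 4, true), (4, 41, true), (3, 39, true), (3, 44, true)], 431), ([(2, 16, true), (1, 14, true), (0, 12, true), (4, 44, true)], 93), ([(2, 23, true), (1, 21, true), (0, 19, true), (2, 40, true), (4, 44, true)], 3), ([(2, 29, true), (1, 27, true), (0, 25, true)], 181), ([(2, 34, true), (1, 32, true), (0, 30, true), (1, 44, true)], 17), ([(2, 38, true), (1, 36, true)], 502), ([(2, 41, true), (1, 39, true)], 308), ([(2, 43, true)], 201), ([(2, 44, true)], 91)],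
  [([(4, 8, true), (3, 7, true), (2, 6, true), (1, 5, true), (0, 3, true), (3, 38, true), (2, 36, true), (4, 44, true), (3, 39, true), (4, 44, true)], 50), ([(4, 16, true), (3, 15, true), (2, 14, true), (1, 13, true), (0, 11, true), (4, 41, true), (5, 43, true), (6, 44, true), (5, 42, true)], 222), ([(4, 23, true), (3, 22, true), (2, 21, true), (1, 20, true), (0, 18, true), (3, 36, true), (2, 35, true), (2, 41, true), (3, 41, true), (2, 39, true), (2, 44, true)], 46), ([(4, 29, true), (3, 28, true), (2, 27, true), (1, 26, true), (0, 24, true), (1, 41, true), (2, 43, true), (3, 44, true)], 499), ([(4, 34, true), (3, 33, true), (2, 32, true), (1, 31, true), (4, 43, true), (5, 44, true)], 507), ([(4, 38, true), (3, 37, true), (2, 36, true), (1, 35, true), (1, 41, true), (2, 43, true), (3, 44, true)], 29), ([(4, 41, true), (3, 40, true), (2, 39, true)], 94), ([(4, 43, true), (3, 42, true)], 235), ([(4, 44, true)], 221)],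
  [([(0, 7, true)], 444), ([(0, 15, true)], 219), ([(0, 22, true)], 343), ([(0, 28, true)], 326), ([(0, 33, true)], 238), ([(0, 37, true)], 177), ([(0, 40, true)], 95), ([(0, 42, true)], 511), ([], 220)],
  [([(4, 6, true), (3, 5, true), (2, 4, true), (1, 3, true), (0, 1, true), (3, 27, true), (4, 39, true), (4, 34, true), (5, 38, true), (6, 41, true), (7, 44, true), (6, 36, true), (5, 35, true), (5, 41, true), (6, 44, true), (5, 39, true)], 356), ([(4, 14, true), (3, 13, true), (2, 12, true), (1, 11, true), (0, 9, true), (1, 30, true), (2, 41, true), (3, 43, true), (4, 44, true)], 221), ([(4, 21, true), (3, 20, true), (2, 19, true), (1, 18, true), (4, 32, true), (3, 31, true), (6, 43, true), (7, 38, true), (6, 37, true), (5, 36, true), (4, 35, true), (4, 41, true), (5, 43, true), (6, 44, true), (5, 40, true), (4, 39, true)], 366), ([(4, 27, true), (3, 26, true), (2, 25, true), (1, 24, true), (3, 41, true)], 474), ([(4, 32, true), (3, 31, true), (2, 30, true)], 505), ([(4, 36, true), (3, 35, true), (3, 41, true)], 183), ([(4, 39, true)], 18), ([], 233), ([],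 222)],
  [([(1, 4, true), (0, 1, true), (3, 32, true), (5, 38, true), (4, 36, true), (6, 41, true), (5, 39, true), (5, 44, true)], 113), ([(1, 12, true), (0, 9, true)], 217), ([(1, 19, true)], 336), ([(1, 25, true)], 126), ([(1, 30, true)], 237), ([], 26), ([], 19), ([], 508), ([], 223)],
  [([(1, 8, true), (0, 4, true), (4, 44, true)], 468), ([(1, 16, true), (0, 12, true)], 223), ([(1, 23, true), (0, 19, true)], 408), ([(1, 29, true), (0, 25, true)], 503), ([(1, 34, true), (0, 30, true)], 234), ([(1, 38, true)], 180), ([(1, 41, true)], 303), ([(1, 43, true)], 506), ([(1, 44, true)], 217)],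
  [([(4, 8, true), (3, 6, true), (2, 5, true), (1, 4, true), (0, 3, true), (3, 34, true), (2, 32, true), (4, 44, true), (3, 36, true), (4, 39, true), (4, 38, true), (3, 35, true), (3, 44, true), (3, 41, true), (4, 44, true)], 430), ([(4, 16, true), (3, 14, true), (2, 13, true), (1, 12, true), (0, 11, true), (2, 30, true), (3, 41, true), (4, 43, true), (5, 44, true)], 218), ([(4, 23, true), (3, 21, true), (2, 20, true), (1, 19, true), (0, 18, true), (3, 32, true), (2, 31, true), (5, 43, true), (6, 38, true), (5, 37, true), (4, 36, true), (3, 35, true), (3, 41, true), (4, 43, true), (5, 44, true), (4, 40, true), (3, 39, true), (4, 44, true)], 365), ([(4, 29, true), (3, 27, true), (2, 26, true), (1, 25, true), (0, 24, true), (2, 41, true), (3, 44, true)], 323), ([(4, 34, true), (3, 32, true), (2, 31, true), (1, 30, true), (3, 44, true)], 510), ([(4, 38, true), (3, 36, true), (2, 35, true), (2, 41, true), (3, 44, true)], 25), ([(4, 41, true), (3, 39, true)], 302), ([(4, 43, true)], 239), ([(4, 44, true)], 216)],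
  [([(2, 8, true), (1, 7, true), (0, 1, true), (5, 44, true)], 388), ([(2, 16, true), (1, 15, true), (0, 9, true)], 220), ([(2, 23, true), (1, 22, true)], 414), ([(2, 29, true), (1, 28, true), (3, 44, true)], 478), ([(2, 34, true), (1, 33, true)], 232), ([(2, 38, true), (1, 37, true)], 31), ([(2, 41, true), (1, 40, true)], 202), ([(2, 43, true), (1, 42, true)], 504), ([(2, 44, true)], 219)],
  [([(4, 7, true), (3, 6, true), (2, 5, true), (1, 3, true), (0, 1, true), (3, 27, true), (4, 39, true), (4, 38, true), (5, 44, true)], 345), ([(4, 15, true), (3, 14, true), (2, 13, true), (1, 11, true), (0, 9, true), (3, 41, true), (4, 43, true), (5, 44, true), (4, 42, true)], 216), ([(4, 22, true), (3, 21, true), (2, 20, true), (1, 18, true), (4, 36, true), (3, 35, true), (3, 41, true), (4, 41, true), (3, 39, true), (3, 44, true)], 44), ([(4, 28, true), (3, 27, true), (2, 26, true), (1, 24, true), (2, 41, true), (3, 43, true), (4, 44, true)], 123), ([(4, 33, true), (3, 32, true), (2, 31, true), (5, 43, true)], 509), ([(4, 37, true), (3, 36, true), (2, 35, true), (2, 41,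 true), (3, 43, true)], 179), ([(4, 40, true), (3, 39, true)], 203), ([(4, 42, true)], 236), ([], 218)],
  [([(2, 7, true), (1, 5, true), (0, 2, true), (2, 38, true), (3, 44, true)], 279), ([(2, 15, true), (1, 13, true), (0, 10, true), (2, 37, true), (4, 43, true), (3, 42, true)], 486), ([(2, 22, true), (1, 20, true), (0, 17, true)], 177), ([(2, 28, true), (1, 26, true), (3, 43, true), (4, 44, true)], 489), ([(2, 33, true), (1, 31, true)], 378), ([(2, 37, true), (1, 35, true), (1, 43, true)], 260), ([(2, 40, true)], 47), ([(2, 42, true)], 163), ([], 484)],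
  [([(4, 8, true), (3, 7, true), (2, 6, true), (1, 3, true), (0, 2, true), (2, 29, true), (3, 41, true), (4, 44, true), (3, 39, true), (4, 44, true)], 359), ([(4, 16, true), (3, 15, true), (2, 14, true), (1, 11, true), (0, 10, true), (2, 28, true), (4, 34, true), (3, 33, true), (5, 41, true), (4, 40, true), (6, 43, true), (5, 42, true), (5, 44, true)], 482), ([(4, 23, true), (3, 22, true), (2, 21, true), (1, 18, true), (0, 17, true), (2, 39, true), (2, 43, true), (3, 44, true)], 298), ([(4, 29, true), (3, 28, true), (2, 27, true), (1, 24, true), (3, 44, true)], 229), ([(4, 34, true), (3, 33, true), (2, 32, true), (4, 43, true), (5, 44, true)], 166), ([(4, 38, true), (3, 37, true), (2, 36, true)], 342), ([(4, 41, true), (3, 40, true), (2, 39, true)], 46), ([(4, 43, true), (3, 42, true)], 382), ([(4, 44, true)], 485)],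
  [([(3, 6, true), (2, 3, true), (1, 2, true), (0, 1, true), (3, 21, true), (2, 17, true), (3, 44, true), (2, 27, true), (3, 39, true), (3, 41, true)], 58), ([(3, 14, true), (2, 11, true), (1, 10, true), (0, 9, true), (1, 28, true), (3, 34, true), (2, 33, true), (4, 41, true), (3, 40, true), (5, 43, true), (4, 42, true), (4, 44, true)], 480), ([(3, 21, true), (2, 18, true), (1, 17, true), (3, 39, true)], 300), ([(3, 27, true), (2, 24, true)], 4), ([(3, 32, true)], 165), ([(3, 36, true)], 256), ([(3, 39, true)], 360), ([], 380), ([], 487)],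
  [([(2, 5, true), (1, 2, true), (0, 1, true), (3, 21, true), (2, 17, true), (3, 44, true), (2, 36, true)], 466), ([(2, 13, true), (1, 10, true), (0, 9, true), (1, 37, true)], 484), ([(2, 20, true), (1, 17, true)], 80), ([(2, 26, true)], 368), ([(2, 31, true)], 377), ([(2, 35, true)], 338), ([], 361), ([], 160), ([], 486)],
  [([(4, 8, true), (3, 6, true), (2, 4, true), (1, 3, true), (0, 2, true), (2, 29, true), (3, 41, true), (4, 44, true), (3, 32, true), (5, 38, true), (4, 36, true), (6, 41, true), (5, 39, true), (5, 44, true)], 168), ([(4, 16, true), (3, 14, true), (2, 12, true), (1, 11, true), (0, 10, true), (2, 28, true), (4, 34, true), (3, 33, true), (5, 34, true), (4, 33, true), (3, 30, true), (4, 41, true), (3, 40, true), (5, 43, true), (4, 42, true), (4, 44, true)], 487), ([(4, 23, true), (3, 21, true), (2, 19, true), (1, 18, true), (0, 17, true), (2, 32, true), (1, 31, true), (4, 43, true), (5, 41, true), (4, 40, true), (3, 39, true), (4, 44, true)], 21), ([(4, 29, true), (3, 27, true), (2, 25, true), (1, 24, true)], 492), ([(4, 34, true), (3, 32,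 true), (2, 30, true), (3, 44, true)], 162), ([(4, 38, true), (3, 36, true)], 341), ([(4, 41, true), (3, 39, true)], 79), ([(4, 43, true)], 379), ([(4, 44, true)], 480)],
  [([(3, 8, true), (2, 5, true), (1, 4, true), (0, 2, true), (2, 34, true), (3, 38, true), (4, 41, true), (5, 44, true), (4, 36, true), (3, 35, true), (3, 41, true), (4, 44, true)], 392), ([(3, 16, true), (2, 13, true), (1, 12, true), (0, 10, true), (2, 33, true), (3, 37, true), (5, 44, true)], 483), ([(3, 23, true), (2, 20, true), (1, 19, true), (0, 17, true), (1, 37, true)], 86), ([(3, 29, true), (2, 26, true), (1, 25, true), (4, 44, true)], 225), ([(3, 34, true), (2, 31, true), (1, 30, true)], 383), ([(3, 38, true), (2, 35, true), (2, 44, true)], 263), ([(3, 41, true)], 78), ([(3, 43, true)], 167), ([(3, 44, true)], 481)],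
  [([(5, 8, true), (4, 7, true), (3, 5, true), (2, 4, true), (1, 2, true), (0, 1, true), (3, 21, true), (2, 17, true), (3, 44, true), (2, 32, true), (4, 38, true), (3, 36, true), (5, 41, true), (4, 39, true), (4, 44, true), (3, 35, true), (3, 44, true), (4, 44, true)], 37), ([(5, 16, true), (4, 15, true), (3, 13, true), (2, 12, true), (1, 10, true), (0, 9, true), (1, 33, true), (2, 37, true), (4, 43, true), (3, 42, true), (3, 44, true)], 481), ([(5, 23, true), (4, 22, true), (3, 20, true), (2, 19, true), (1, 17, true), (2, 37, true), (3, 42, true)], 182), ([(5, 29, true), (4, 28, true), (3, 26, true), (2, 25, true), (5, 43, true), (6, 44, true)], 0), ([(5, 34, true), (4, 33, true), (3, 31, true), (2, 30, true)], 381), ([(5, 38, true), (4, 37, true), (3, 35, true), (3, 43, true), (4, 44, true)], 336), ([(5, 41, true), (4, 40, true)], 152), ([(5, 43, true), (4, 42, true)], 164), ([(5, 44, true)], 483)],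
  [([(5, 7, true), (4, 6, true), (3, 4, true), (2, 3, true), (1, 2, true), (0, 1, true), (3, 21, true), (2, 17, true), (3, 44, true), (2, 27, true), (3, 39, true), (3, 34, true), (4, 38, true), (5, 41, true), (6, 44, true), (5, 39, true)], 212), ([(5, 15, true), (4, 14, true), (3, 12, true), (2, 11, true), (1, 10, true), (0, 9, true), (1, 28, true), (3, 34, true), (2, 33, true), (4, 34, true), (3, 33, true), (2, 30, true), (3, 41, true), (2, 40, true), (4, 43, true), (3, 42, true), (3, 44, true)], 485), ([(5, 22, true), (4, 21, true), (3, 19, true), (2, 18, true), (1, 17, true), (3, 32, true), (2, 31, true), (5, 43, true), (6, 41, true), (5, 40, true), (4, 39, true), (5, 44, true), (4, 42, true)], 18), ([(5, 28, true), (4, 27, true), (3, 25, true), (2, 24, true)], 372), ([(5, 33, true), (4, 32, true), (3, 30, true), (4, 43, true)], 161), ([(5, 37, true), (4, 36, true)], 258), ([(5, 40, true), (4, 39, true)], 153), ([(5, 42, true)], 376), ([], 482)]]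

/-- Derivations closing the normal words, part 10. -/
def multClosing10 : List (List (List (ℕ × ℕ × Bool) × ℕ)) := [
  [([(5, 8, true), (4, 7, true), (3, 6, true), (2, 5, true), (1, 4, true), (0, 1, true), (3, 32, true), (5, 38, true), (4, 36, true), (6, 41, true), (5, 39, true), (5, 44, true), (4, 35, true), (4, 44, true), (6, 44, true)], 10), ([(5, 16, true), (4, 15, true), (3, 14, true), (2, 13, true), (1, 12, true), (0, 9, true), (2, 41, true), (3, 43, true), (4, 44, true), (3, 42, true)], 502), ([(5, 23, true), (4, 22, true), (3, 21, true), (2, 20, true), (1, 19, true), (3, 37, true), (4, 40, true), (6, 43, true), (5, 42, true), (5, 44, true)], 77), ([(5, 29, true), (4, 28, true), (3, 27, true), (2, 26, true), (1, 25, true), (4, 41, true), (5, 43, true), (6, 44, true)], 509), ([(5, 34, true), (4, 33, true), (3, 32, true), (2, 31, true), (1, 30, true), (3, 43, true), (4, 44, true)], 123), ([(5, 38, true), (4, 37, true), (3, 36, true), (2, 35, true), (2, 41, true), (3, 43, true), (4, 44, true)], 93), ([(5, 41, true), (4, 40, true), (3, 39, true)], 85),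 ([(5, 43, true), (4, 42, true)], 474), ([(5, 44, true)], 501)],
  [([(3, 7, true), (2, 4, true), (1, 3, true), (0, 1, true), (3, 27, true), (4, 39, true), (4, 34, true), (5, 38, true), (6, 41, true), (7, 44, true)], 171), ([(3, 15, true), (2, 12, true), (1, 11, true), (0, 9, true), (1, 30, true)], 498), ([(3, 22, true), (2, 19, true), (1, 18, true), (4, 32, true), (3, 31, true), (6, 43, true), (7, 43, true), (6, 42, true)], 199), ([(3, 28, true), (2, 25, true), (1, 24, true)], 232), ([(3, 33, true), (2, 30, true)], 478), ([(3, 37, true)], 297), ([(3, 40, true)], 84), ([(3, 42, true)], 126), ([], 500)],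
  [([(1, 4, true), (0, 3, true), (3, 34, true), (2, 32, true), (4, 44, true), (3, 36, true), (4, 39, true)], 49), ([(1, 12, true), (0, 11, true), (2, 30, true)], 497), ([(1, 19, true), (0, 18, true), (3, 32, true), (2, 31, true), (5, 43, true)], 195), ([(1, 25, true), (0, 24, true)], 217), ([(1, 30, true)], 476), ([], 90), ([], 25), ([], 125), ([], 503)],
  [([(2, 6, true), (1, 5, true), (0, 4, true), (4, 38, true), (3, 36, true), (2, 35, true), (2, 41, true), (3, 44, true), (3, 41, true), (2, 39, true)], 244), ([(2, 14, true), (1, 13, true), (0, 12, true), (3, 41, true), (4, 43, true), (5, 44, true)], 501), ([(2, 21, true), (1, 20, true), (0, 19, true), (2, 37, true), (3, 40, true)], 364), ([(2, 27, true), (1, 26, true), (0, 25, true), (3, 41, true)], 309), ([(2, 32, true), (1, 31, true), (0, 30, true)], 120), ([(2, 36, true), (1, 35, true), (1, 41, true)], 303), ([(2, 39, true)], 24), ([], 473), ([], 502)],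
  [([(3, 8, true), (2, 6, true), (1, 5, true), (0, 1, true), (3, 36, true), (5, 41, true), (4, 39, true), (4, 44, true)], 403), ([(3, 16, true), (2, 14, true), (1, 13, true), (0, 9, true), (1, 41, true), (2, 43, true), (3, 44, true)], 499), ([(3, 23, true), (2, 21, true), (1, 20, true), (4, 44, true)], 361), ([(3, 29, true), (2, 27, true), (1, 26, true), (3, 41, true), (4, 44, true)], 236), ([(3, 34, true), (2, 32, true), (1, 31, true), (4, 44, true)], 127), ([(3, 38, true), (2, 36, true), (1, 35, true), (1, 41, true), (2, 44, true)], 89), ([(3, 41, true), (2, 39, true)], 460), ([(3, 43, true)], 479), ([(3, 44, true)], 496)],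
  [([(2, 8, true), (1, 3, true), (0, 1, true), (3, 27, true), (4, 39, true), (4, 44, true)], 295), ([(2, 16, true), (1, 11, true), (0, 9, true)], 503), ([(2, 23, true), (1, 18, true)], 339), ([(2, 29, true), (1, 24, true)], 504), ([(2, 34, true)], 475), ([(2, 38, true)], 300), ([(2, 41, true)], 461), ([(2, 43, true)], 122), ([(2, 44, true)], 497)],
  [([(2, 8, true), (1, 7, true), (0, 3, true), (3, 43, true), (4, 44, true)], 143), ([(2, 16, true), (1, 15, true), (0, 11, true)], 500), ([(2, 23, true), (1, 22, true), (0, 18, true)], 342), ([(2, 29, true), (1, 28, true), (0, 24, true), (1, 44, true)], 305), ([(2, 34, true), (1, 33, true)], 472), ([(2, 38, true), (1, 37, true)], 94), ([(2, 41, true), (1, 40, true)], 176), ([(2, 43, true), (1, 42, true)], 121), ([(2, 44, true)], 498)],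
  [([(2, 7, true), (1, 6, true), (0, 5, true), (2, 41, true), (3, 43, true), (4, 44, true)], 465), ([(2, 15, true), (1, 14, true), (0, 13, true), (2, 41, true), (3, 43, true), (4, 44, true), (3, 42, true)], 496), ([(2, 22, true), (1, 21, true), (0, 20, true), (3, 43, true)], 73), ([(2, 28, true), (1, 27, true), (0, 26, true), (2, 41, true), (3, 43, true), (4, 44, true)], 221), ([(2, 33, true), (1, 32, true), (0, 31, true), (3, 43, true)], 124), ([(2, 37, true), (1, 36, true), (0, 35, true), (0, 41, true), (1, 43, true)], 299), ([(2, 40, true), (1, 39, true)], 177), ([(2, 42, true)], 477), ([], 499)],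
  [([(5, 8, true), (4, 7, true), (3, 5, true), (2, 3, true), (1, 1, true), (0, 0, true), (2, 27, true), (3, 39, true), (3, 38, true), (4, 44, true), (5, 44, true)], 490), ([(5, 16, true), (4, 15, true), (3, 13, true), (2, 11, true), (1, 9, true), (4, 43, true), (5, 44, true)], 191), ([(5, 23, true), (4, 22, true), (3, 20, true), (2, 18, true), (5, 36, true), (4, 35, true), (4, 41, true), (5, 43, true), (6, 44, true)], 119), ([(5, 29, true), (4, 28, true), (3, 26, true), (2, 24, true), (3, 43, true), (4, 44, true)], 425), ([(5, 34, true), (4, 33, true), (3, 31, true)], 212), ([(5, 38, true), (4, 37, true), (3, 35, true), (3, 43, true), (4, 44, true)], 449), ([(5, 41, true), (4, 40, true)], 446), ([(5, 43, true), (4, 42, true)], 53), ([(5, 44, true)], 187)],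
  [([(3, 7, true), (2, 6, true), (1, 1, true), (0, 0, true), (2, 39, true)], 414), ([(3, 15, true), (2, 14, true), (1, 9, true), (3, 43, true), (2, 42, true)], 188), ([(3, 22, true), (2, 21, true), (4, 43, true)], 398), ([(3, 28, true), (2, 27, true)], 141), ([(3, 33, true), (2, 32, true), (4, 43, true)], 54), ([(3, 37, true), (2, 36, true)], 437), ([(3, 40, true), (2, 39, true)], 447), ([(3, 42, true)], 215), ([], 186)],
  [([(3, 6, true), (2, 4, true), (1, 1, true), (0, 0, true), (2, 32, true), (4, 38, true), (3, 36, true), (5, 41, true), (4, 39, true), (4, 44, true)], 77), ([(3, 14, true), (2, 12, true), (1, 9, true)], 190), ([(3, 21, true), (2, 19, true), (4, 40, true)], 417), ([(3, 27, true), (2, 25, true)], 429), ([(3, 32, true), (2, 30, true)], 52), ([(3, 36, true)], 432), ([(3, 39, true)], 247), ([], 213), ([], 184)],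
  [([(4, 5, true), (3, 4, true), (2, 3, true), (1, 1, true), (0, 0, true), (2, 27, true), (3, 39, true), (3, 34, true), (4, 38, true), (5, 41, true), (6, 44, true), (5, 36, true), (4, 35, true), (4, 41, true), (5, 44, true)], 376), ([(4, 13, true), (3, 12, true), (2, 11, true), (1, 9, true), (2, 30, true)], 189), ([(4, 20, true), (3, 19, true), (2, 18, true), (5, 32, true), (4, 31, true), (7, 43, true), (8, 38, true), (7, 37, true), (6, 36, true), (5, 35, true), (5, 41, true), (6, 43, true), (7, 44, true)], 404), ([(4, 26, true), (3, 25, true), (2, 24, true)], 137), ([(4, 31, true), (3, 30, true)], 214), ([(4, 35, true)], 453), ([], 246), ([], 55), ([], 185)],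
  [([(5, 8, true), (4, 7, true), (3, 5, true), (2, 4, true), (1, 3, true), (0, 0, true), (2, 34, true), (1, 32, true), (3, 44, true), (2, 36, true), (3, 39, true), (3, 38, true), (2, 35, true), (2, 44, true), (2, 43, true), (3, 44, true)], 472), ([(5, 16, true), (4, 15, true), (3, 13, true), (2, 12, true), (1, 11, true), (3, 30, true), (4, 43, true), (5, 44, true)], 187), ([(5, 23, true), (4, 22, true), (3, 20, true), (2, 19, true), (1, 18, true), (4, 32, true), (3, 31, true), (6, 43, true), (7, 38, true), (6, 37, true), (5, 36, true), (4, 35, true), (4, 41, true), (5, 43, true), (6, 44, true), (5, 42, true)], 406), ([(5, 29, true), (4, 28, true), (3, 26, true), (2, 25, true), (1, 24, true), (3, 43, true), (4, 44, true)], 128), ([(5, 34, true), (4, 33, true), (3, 31, true), (2, 30, true)], 209), ([(5, 38, true), (4, 37, true), (3, 35, true), (3, 43, true), (4, 44, true)], 435), ([(5, 41, true), (4, 40, true)], 248), ([(5, 43, true), (4, 42, true)], 49), ([(5, 44, true)], 191)],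
  [([(3, 7, true), (2, 6, true), (1, 4, true), (0, 0, true), (3, 41, true), (2, 39, true), (2, 43, true), (3, 44, true)], 458), ([(3, 15, true), (2, 14, true), (1, 12, true), (5, 43, true), (4, 42, true)], 184), ([(3, 22, true), (2, 21, true), (1, 19, true), (3, 40, true), (5, 43, true), (4, 42, true)], 392), ([(3, 28, true), (2, 27, true), (1, 25, true)], 60), ([(3, 33, true), (2, 32, true), (1, 30, true), (2, 43, true)], 51), ([(3, 37, true), (2, 36, true)], 455), ([(3, 40, true), (2, 39, true)], 249), ([(3, 42, true)], 210), ([], 190)],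
  [([(1, 6, true), (0, 0, true)], 17), ([(1, 14, true)], 186), ([(1, 21, true)], 422), ([(1, 27, true)], 132), ([(1, 32, true)], 48), ([(1, 36, true)], 451), ([(1, 39, true)], 32), ([], 208), ([], 188)],
  [([(2, 5, true), (1, 3, true), (0, 0, true), (2, 38, true), (1, 36, true), (3, 44, true)], 510), ([(2, 13, true), (1, 11, true)], 185), ([(2, 20, true), (1, 18, true), (4, 36, true), (3, 35, true), (3, 41, true)], 116), ([(2, 26, true), (1, 24, true)], 57), ([(2, 31, true)], 211), ([(2, 35, true)], 439), ([], 33), ([], 50), ([], 189)],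
  [([(3, 7, true), (2, 4, true), (1, 2, true), (0, 1, true), (3, 21, true), (2, 17, true), (3, 44, true), (2, 32, true), (4, 38, true), (3, 36, true), (5, 41, true), (4, 39, true), (4, 44, true)], 131), ([(3, 15, true), (2, 12, true), (1, 10, true), (0, 9, true), (1, 33, true), (2, 42, true)], 263), ([(3, 22, true), (2, 19, true), (1, 17, true), (2, 42, true)], 307), ([(3, 28, true), (2, 25, true)], 366), ([(3, 33, true), (2, 30, true)], 197), ([(3, 37, true)], 483), ([(3, 40, true)], 1), ([(3, 42, true)], 413), ([], 259)],
  [([(7, 8, true), (6, 7, true), (5, 6, true), (4, 5, true), (3, 4, true), (2, 3, true), (1, 2, true), (0, 1, true), (3, 21, true), (2, 17, true), (3, 44, true), (2, 27, true), (3, 39, true), (3, 34, true), (4, 38, true), (5, 41, true), (6, 44, true), (5, 36, true), (4, 35, true), (4, 41, true), (5, 44, true), (4, 39, true), (5, 44, true)], 471), ([(7, 16, true), (6, 15, true), (5, 14, true), (4, 13, true), (3, 12, true), (2, 11, true), (1, 10, true), (0, 9, true), (1, 28, true), (3, 34, true), (2, 33, true), (4, 34, true), (3, 33, true),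 (2, 30, true), (3, 38, true), (2, 37, true), (4, 44, true), (3, 40, true), (4, 42, true), (4, 43, true), (5, 44, true)], 261), ([(7, 23, true), (6, 22, true), (5, 21, true), (4, 20, true), (3, 19, true), (2, 18, true), (1, 17, true), (3, 32, true), (2, 31, true), (5, 43, true), (6, 38, true), (5, 37, true), (4, 36, true), (3, 35, true), (3, 41, true), (4, 43, true), (5, 44, true), (4, 40, true), (3, 39, true), (4, 43, true), (3, 42, true), (3, 44, true)], 126), ([(7, 29, true), (6, 28, true), (5, 27, true), (4, 26, true), (3, 25, true), (2, 24, true), (4, 41, true), (5, 43, true), (6, 44, true)], 152), ([(7, 34, true), (6, 33, true), (5, 32, true), (4, 31, true), (3, 30, true), (5, 43, true), (6, 44, true)], 415), ([(7, 38, true), (6, 37, true), (5, 36, true), (4, 35, true), (4, 41, true), (5, 43, true), (6, 44, true)], 319), ([(7, 41, true), (6, 40, true), (5, 39, true)], 0), ([(7, 43, true), (6, 42, true)], 199), ([(7, 44, true)], 258)],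
  [([(2, 8, true), (1, 2, true), (0, 1, true), (3, 21, true), (2, 17, true), (3, 44, true)], 52), ([(2, 16, true), (1, 10, true), (0, 9, true)], 260), ([(2, 23, true), (1, 17, true)], 504), ([(2, 29, true)], 159), ([(2, 34, true)], 198), ([(2, 38, true)], 486), ([(2, 41, true)], 369), ([(2, 43, true)], 414), ([(2, 44, true)], 257)],
  [([(5, 8, true), (4, 6, true), (3, 5, true), (2, 3, true), (1, 2, true), (0, 1, true), (3, 21, true), (2, 17, true), (3, 44, true), (2, 27, true), (3, 39, true), (3, 38, true), (4, 44, true)], 34), ([(5, 16, true), (4, 14, true), (3, 13, true), (2, 11, true), (1, 10, true), (0, 9, true), (1, 28, true), (3, 34, true), (2, 33, true), (4, 38, true), (3, 37, true), (5, 44, true), (4, 40, true), (5, 42, true), (5, 44, true)], 262), ([(5, 23, true), (4, 21, true), (3, 20, true), (2, 18, true), (1, 17, true), (3, 36, true), (2, 35, true), (2, 41, true), (3, 41, true), (2, 39, true), (2, 44, true)], 325), ([(5, 29, true), (4, 27, true), (3, 26, true), (2, 24, true), (3, 41, true), (4, 44, true)], 361), ([(5, 34, true), (4, 32, true),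 (3, 31, true), (6, 44, true)], 412), ([(5, 38, true), (4, 36, true), (3, 35, true), (3, 41, true), (4, 44, true)], 314), ([(5, 41, true), (4, 39, true)], 368), ([(5, 43, true)], 196), ([(5, 44, true)], 256)],
  [([(2, 8, true), (1, 4, true), (0, 2, true), (2, 34, true), (3, 38, true), (4, 41, true), (5, 44, true)], 353), ([(2, 16, true), (1, 12, true), (0, 10, true), (2, 33, true)], 259), ([(2, 23, true), (1, 19, true), (0, 17, true)], 506), ([(2, 29, true), (1, 25, true)], 79), ([(2, 34, true), (1, 30, true)], 193), ([(2, 38, true)], 317), ([(2, 41, true)], 492), ([(2, 43, true)], 408), ([(2, 44, true)], 263)],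
  [([(5, 8, true), (4, 6, true), (3, 5, true), (2, 4, true), (1, 3, true), (0, 2, true), (2, 29, true), (3, 41, true), (4, 44, true), (3, 32, true), (5, 38, true), (4, 36, true), (6, 41, true), (5, 39, true), (5, 44, true), (4, 35, true), (4, 44, true)], 406), ([(5, 16, true), (4, 14, true), (3, 13, true), (2, 12, true), (1, 11, true), (0, 10, true), (2, 28, true), (4, 34, true), (3, 33, true), (5, 34, true), (4, 33, true), (3, 30, true), (4, 38, true), (3, 37, true), (5, 44, true), (4, 40, true), (5, 42, true), (5, 44, true)], 256), ([(5, 23, true), (4, 21, true), (3, 20, true), (2, 19, true), (1, 18, true), (0, 17, true), (2, 32, true), (1, 31, true), (4, 43, true), (5, 38, true), (4, 37, true), (3, 36, true), (2, 35, true), (2, 41, true), (3, 43, true), (4, 44, true), (3, 40, true), (2, 39, true), (3, 44, true)], 125), ([(5, 29, true), (4, 27, true), (3, 26, true), (2, 25, true), (1, 24, true), (3, 41, true), (4, 44, true)], 40), ([(5, 34, true), (4, 32, true), (3, 31, true), (2, 30, true), (4, 44, true)], 410), ([(5, 38, true), (4, 36, true), (3, 35, true),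 (3, 41, true), (4, 44, true)], 480), ([(5, 41, true), (4, 39, true)], 493), ([(5, 43, true)], 195), ([(5, 44, true)], 262)],
  [([(5, 8, true), (4, 7, true), (3, 6, true), (2, 5, true), (1, 3, true), (0, 2, true), (2, 29, true), (3, 41, true), (4, 44, true), (3, 36, true), (5, 41, true), (4, 39, true), (4, 43, true), (5, 44, true)], 385), ([(5, 16, true), (4, 15, true), (3, 14, true), (2, 13, true), (1, 11, true), (0, 10, true), (2, 28, true), (4, 34, true), (3, 33, true), (5, 38, true), (4, 37, true), (6, 44, true), (5, 40, true), (6, 42, true), (6, 43, true), (7, 44, true)], 258), ([(5, 23, true), (4, 22, true), (3, 21, true), (2, 20, true), (1, 18, true), (0, 17, true), (2, 36, true), (1, 35, true), (1, 41, true), (2, 41, true), (1, 39, true), (1, 44, true)], 326), ([(5, 29, true), (4, 28, true), (3, 27, true), (2, 26, true), (1, 24, true), (2, 41, true), (3, 43, true), (4, 44, true)], 73), ([(5, 34, true), (4, 33, true), (3, 32, true), (2, 31, true), (5, 43, true), (6, 44, true)], 409), ([(5, 38, true), (4, 37, true), (3, 36, true), (2, 35, true), (2, 41,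 true), (3, 43, true), (4, 44, true)], 485), ([(5, 41, true), (4, 40, true), (3, 39, true)], 228), ([(5, 43, true), (4, 42, true)], 192), ([(5, 44, true)], 261)],
  [([(1, 7, true), (0, 2, true), (2, 43, true), (3, 44, true)], 173), ([(1, 15, true), (0, 10, true), (2, 42, true)], 257), ([(1, 22, true), (0, 17, true)], 305), ([(1, 28, true)], 46), ([(1, 33, true)], 194), ([(1, 37, true)], 312), ([(1, 40, true)], 229), ([(1, 42, true)], 411), ([], 260)],
  [([(3, 7, true), (2, 2, true), (1, 1, true), (0, 0, true), (2, 21, true), (1, 17, true), (2, 44, true)], 202), ([(3, 15, true), (2, 10, true), (1, 9, true), (2, 42, true)], 70), ([(3, 22, true), (2, 17, true)], 447), ([(3, 28, true)], 355), ([(3, 33, true)], 170), ([(3, 37, true)], 265), ([(3, 40, true)], 388), ([(3, 42, true)], 147), ([], 69)],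
  [([(7, 8, true), (6, 7, true), (5, 6, true), (4, 5, true), (3, 3, true), (2, 2, true), (1, 1, true), (0, 0, true), (2, 21, true), (1, 17, true), (2, 44, true), (1, 27, true), (2, 39, true), (2, 38, true), (3, 44, true), (5, 44, true)], 311), ([(7, 16, true), (6, 15, true), (5, 14, true), (4, 13, true), (3, 11, true), (2, 10, true), (1, 9, true), (2, 28, true), (4, 34, true), (3, 33, true), (5, 38, true), (4, 37, true), (6, 44, true), (5, 40, true), (6, 42, true), (6, 43, true), (7, 44, true)], 66), ([(7, 23, true), (6, 22, true), (5, 21, true), (4, 20, true), (3, 18, true), (2, 17, true), (4, 36, true), (3, 35, true), (3, 41, true), (4, 41, true), (3, 39, true), (3, 44, true)], 436), ([(7, 29, true), (6, 28, true), (5, 27, true), (4, 26, true), (3, 24, true), (4, 41, true), (5, 43, true), (6, 44, true)], 285), ([(7, 34, true), (6, 33, true), (5, 32, true), (4, 31, true), (7, 43, true), (8, 44, true)], 150), ([(7, 38, true), (6, 37, true), (5, 36, true), (4, 35, true), (4, 41, true), (5, 43, true), (6, 44, true)], 119), ([(7, 41, true), (6, 40, true), (5,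 39, true)], 389), ([(7, 43, true), (6, 42, true)], 175), ([(7, 44, true)], 68)],
  [([(2, 8, true), (1, 2, true), (0, 0, true), (1, 44, true)], 411), ([(2, 16, true), (1, 10, true)], 69), ([(2, 23, true), (1, 17, true)], 255), ([(2, 29, true)], 290), ([(2, 34, true)], 169), ([(2, 38, true)], 117), ([(2, 41, true)], 422), ([(2, 43, true)], 145), ([(2, 44, true)], 70)],
  [([(5, 8, true), (4, 6, true), (3, 5, true), (2, 3, true), (1, 2, true), (0, 0, true), (1, 29, true), (2, 41, true), (3, 44, true), (2, 36, true), (4, 41, true), (3, 39, true), (3, 44, true)], 7), ([(5, 16, true), (4, 14, true), (3, 13, true), (2, 11, true), (1, 10, true), (3, 28, true), (5, 34, true), (4, 33, true), (6, 38, true), (5, 37, true), (7, 44, true), (6, 40, true), (7, 42, true), (7, 44, true)], 65), ([(5, 23, true), (4, 21, true), (3, 20, true), (2, 18, true), (1, 17, true), (3, 36, true), (2, 35, true), (2, 41, true), (3, 41, true), (2, 39, true), (2, 44, true)], 439), ([(5, 29, true), (4, 27, true), (3, 26, true), (2, 24, true), (3, 41, true), (4, 44, true)], 100), ([(5, 34, true),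 (4, 32, true), (3, 31, true), (6, 44, true)], 149), ([(5, 38, true), (4, 36, true), (3, 35, true), (3, 41, true), (4, 44, true)], 267), ([(5, 41, true), (4, 39, true)], 423), ([(5, 43, true)], 172), ([(5, 44, true)], 71)],
  [([(7, 8, true), (6, 6, true), (5, 5, true), (4, 4, true), (3, 3, true), (2, 2, true), (1, 1, true), (0, 0, true), (2, 21, true), (1, 17, true), (2, 44, true), (1, 27, true), (2, 39, true), (2, 34, true), (3, 38, true), (4, 41, true), (5, 44, true), (4, 36, true), (3, 35, true), (3, 41, true), (4, 44, true), (3, 39, true)], 475), ([(7, 16, true), (6, 14, true), (5, 13, true), (4, 12, true), (3, 11, true), (2, 10, true), (1, 9, true), (2, 28, true), (4, 34, true), (3, 33, true), (5, 34, true), (4, 33, true), (3, 30, true), (4, 38, true), (3, 37, true), (5, 44, true), (4, 40, true), (5, 42, true), (5, 44, true)], 71), ([(7, 23, true), (6, 21, true), (5, 20, true), (4, 19, true), (3, 18, true), (2, 17, true), (4, 32, true), (3, 31, true), (6, 43, true), (7, 38, true), (6, 37, true), (5, 36, true), (4, 35, true), (4, 41, true), (5, 43, true),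 (6, 44, true), (5, 40, true), (4, 39, true), (5, 44, true)], 471), ([(7, 29, true), (6, 27, true), (5, 26, true), (4, 25, true), (3, 24, true), (5, 41, true), (6, 44, true)], 357), ([(7, 34, true), (6, 32, true), (5, 31, true), (4, 30, true), (6, 44, true)], 146), ([(7, 38, true), (6, 36, true), (5, 35, true), (5, 41, true), (6, 44, true)], 112), ([(7, 41, true), (6, 39, true)], 396), ([(7, 43, true)], 171), ([(7, 44, true)], 65)],
  [([(4, 8, true), (3, 4, true), (2, 2, true), (1, 1, true), (0, 0, true), (2, 21, true), (1, 17, true), (2, 44, true), (1, 32, true), (3, 38, true), (2, 36, true), (4, 41, true), (3, 39, true), (3, 44, true)], 182), ([(4, 16, true), (3, 12, true), (2, 10, true), (1, 9, true), (2, 33, true)], 67), ([(4, 23, true), (3, 19, true), (2, 17, true)], 250), ([(4, 29, true), (3, 25, true)], 283), ([(4, 34, true), (3, 30, true)], 174), ([(4, 38, true)], 271), ([(4, 41, true)], 397), ([(4, 43, true)], 151), ([(4, 44, true)], 64)],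
  [([(7, 8, true), (6, 7, true), (5, 6, true), (4, 5, true), (3, 4, true), (2, 3, true), (1, 2, true), (0, 0, true), (1, 29, true), (2, 41, true), (3, 44, true), (2, 32, true), (4, 38, true), (3, 36, true), (5, 41, true), (4, 39, true), (4, 44, true), (3, 35, true), (3, 44, true), (5, 44, true)], 166), ([(7, 16, true), (6, 15, true), (5, 14, true), (4, 13, true), (3, 12, true), (2, 11, true), (1, 10, true), (3, 28, true), (5, 34, true), (4, 33, true), (6, 34, true), (5, 33, true), (4, 30, true), (5, 38, true), (4, 37, true), (6, 44, true), (5, 40, true), (6, 42, true), (6, 43, true), (7, 44, true)], 68), ([(7, 23, true), (6, 22, true), (5, 21, true), (4, 20, true), (3, 19, true), (2, 18, true), (1, 17, true), (3, 32, true), (2, 31, true), (5, 43, true), (6, 38, true), (5, 37, true), (4, 36, true), (3, 35, true), (3, 41, true), (4, 43, true), (5, 44, true), (4, 40, true), (3, 39, true), (4, 43, true), (3, 42, true), (3, 44, true)], 469), ([(7, 29, true), (6, 28, true), (5, 27, true), (4, 26, true), (3, 25, true), (2, 24, true), (4, 41, true), (5, 43, true),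 (6, 44, true)], 292), ([(7, 34, true), (6, 33, true), (5, 32, true), (4, 31, true), (3, 30, true), (5, 43, true), (6, 44, true)], 144), ([(7, 38, true), (6, 37, true), (5, 36, true), (4, 35, true), (4, 41, true), (5, 43, true), (6, 44, true)], 268), ([(7, 41, true), (6, 40, true), (5, 39, true)], 15), ([(7, 43, true), (6, 42, true)], 168), ([(7, 44, true)], 66)],
  [([(3, 7, true), (2, 4, true), (1, 2, true), (0, 0, true), (1, 34, true), (2, 38, true), (3, 41, true), (4, 44, true)], 364), ([(3, 15, true), (2, 12, true), (1, 10, true), (3, 33, true), (4, 42, true)], 64), ([(3, 22, true), (2, 19, true), (1, 17, true), (2, 42, true)], 443), ([(3, 28, true), (2, 25, true)], 99), ([(3, 33, true), (2, 30, true)], 173), ([(3, 37, true)], 115), ([(3, 40, true)], 14), ([(3, 42, true)], 148), ([], 67)]]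

/-- Derivations closing the normal words, part 11. -/
def multClosing11 : List (List (List (ℕ × ℕ × Bool) × ℕ)) := [
  [([(4, 8, true), (3, 4, true), (2, 3, true), (1, 2, true), (0, 0, true), (1, 29, true), (2, 41, true), (3, 44, true), (2, 32, true), (4, 38, true), (3, 36, true), (5, 41, true), (4, 39, true), (4, 44, true)], 493), ([(4, 16, true), (3, 12, true), (2, 11, true), (1, 10, true), (3, 28, true), (5, 34, true), (4, 33, true), (6, 34, true), (5, 33, true), (4, 30, true), (5, 44, true)], 284), ([(4, 23, true), (3, 19, true), (2, 18, true), (1, 17, true), (3, 32, true), (2, 31, true), (5, 43, true), (6, 44, true)], 39), ([(4, 29, true), (3, 25, true), (2, 24, true)], 169), ([(4, 34, true), (3, 30, true)], 290), ([(4, 38, true)], 393), ([(4, 41, true)], 406), ([(4, 43, true)], 99), ([(4, 44, true)], 286)],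
  [([(5, 8, true), (4, 6, true), (3, 5, true), (2, 4, true), (1, 2, true), (0, 0, true), (1, 34, true), (2, 38, true), (3, 41, true), (4, 44, true), (3, 36, true), (2, 35, true), (2, 41, true), (3, 44, true), (2, 39, true)], 340), ([(5, 16, true), (4, 14, true), (3, 13, true), (2, 12, true), (1, 10, true), (3, 33, true), (4, 37, true), (6, 41, true), (5, 40, true), (7, 43, true), (6, 42, true), (6, 44, true)], 282), ([(5, 23, true), (4, 21, true), (3, 20, true), (2, 19, true), (1, 17, true), (2, 37, true), (3, 40, true), (5, 44, true)], 455), ([(5, 29, true), (4, 27, true), (3, 26, true), (2, 25, true), (5, 41, true), (6, 44, true)], 149), ([(5, 34, true), (4, 32, true), (3, 31, true), (2, 30, true), (4, 44, true)], 100), ([(5, 38, true), (4, 36, true), (3, 35, true), (3, 41, true), (4, 44, true)], 387), ([(5, 41, true), (4, 39, true)], 407), ([(5, 43, true)], 292), ([(5, 44, true)], 287)],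
  [([(5, 7, true), (4, 6, true), (3, 5, true), (2, 2, true), (1, 1, true), (0, 0, true), (2, 21, true), (1, 17, true), (2, 44, true), (1, 36, true), (3, 41, true), (2, 39, true), (2, 43, true), (3, 44, true)], 178), ([(5, 15, true), (4, 14, true), (3, 13, true), (2, 10, true), (1, 9, true), (2, 37, true), (4, 41, true), (3, 40, true), (5, 43, true), (4, 42, true), (4, 44, true)], 280), ([(5, 22, true), (4, 21, true), (3, 20, true), (2, 17, true), (4, 43, true)], 448), ([(5, 28, true), (4, 27, true), (3, 26, true), (5, 41, true), (6, 43, true), (7, 44, true)], 68), ([(5, 33, true), (4, 32, true), (3, 31, true), (6, 43, true)], 103), ([(5, 37, true), (4, 36, true), (3, 35, true), (3, 41, true), (4, 43, true)], 398), ([(5, 40, true), (4, 39, true)], 265), ([(5, 42, true)], 294), ([], 285)],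
  [([(5, 8, true), (4, 7, true), (3, 3, true), (2, 2, true), (1, 1, true), (0, 0, true), (2, 21, true), (1, 17, true), (2, 44, true), (1, 27, true), (2, 39, true), (2, 43, true), (3, 44, true)], 122), ([(5, 16, true), (4, 15, true), (3, 11, true), (2, 10, true), (1, 9, true), (2, 28, true), (4, 34, true), (3, 33, true), (5, 43, true), (4, 42, true), (4, 44, true)], 286), ([(5, 23, true), (4, 22, true), (3, 18, true), (2, 17, true)], 446), ([(5, 29, true), (4, 28, true), (3, 24, true), (4, 44, true)], 344), ([(5, 34, true), (4, 33, true)], 289), ([(5, 38, true), (4, 37, true)], 389), ([(5, 41, true), (4, 40, true)], 264), ([(5, 43, true), (4, 42, true)], 96), ([(5, 44, true)], 284)],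
  [([(4, 4, true), (3, 3, true), (2, 2, true), (1, 1, true), (0, 0, true), (2, 21, true), (1, 17, true), (2, 44, true), (1, 27, true), (2, 39, true), (2, 34, true), (3, 38, true), (4, 41, true), (5, 44, true)], 306), ([(4, 12, true), (3, 11, true), (2, 10, true), (1, 9, true), (2, 28, true), (4, 34, true), (3, 33, true), (5, 34, true), (4, 33, true), (3, 30, true)], 281), ([(4, 19, true), (3, 18, true), (2, 17, true), (4, 32, true), (3, 31, true), (6, 43, true)], 36), ([(4, 25, true), (3, 24, true)], 64), ([(4, 30, true)], 295), ([], 391), ([], 112), ([], 102), ([], 283)],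
  [([(5, 6, true), (4, 5, true), (3, 4, true), (2, 2, true), (1, 1, true), (0, 0, true), (2, 21, true), (1, 17, true), (2, 44, true), (1, 32, true), (3, 38, true), (2, 36, true), (4, 41, true), (3, 39, true), (3, 44, true), (2, 35, true), (2, 44, true)], 19), ([(5, 14, true), (4, 13, true), (3, 12, true), (2, 10, true), (1, 9, true), (2, 33, true), (3, 37, true), (5, 41, true), (4, 40, true), (6, 43, true), (5, 42, true), (5, 44, true)], 287), ([(5, 21, true), (4, 20, true), (3, 19, true), (2, 17, true), (3, 37, true), (4, 40, true)], 470), ([(5, 27, true), (4, 26, true), (3, 25, true), (6, 41, true)], 348), ([(5, 32, true), (4, 31, true), (3, 30, true)], 97), ([(5, 36, true), (4, 35, true), (4, 41, true)], 397), ([(5, 39, true)], 113), ([], 288), ([], 282)],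
  [([(5, 8, true), (4, 7, true), (3, 6, true), (2, 5, true), (1, 2, true), (0, 0, true), (1, 38, true), (2, 44, true), (4, 44, true)], 47), ([(5, 16, true), (4, 15, true), (3, 14, true), (2, 13, true), (1, 10, true), (3, 37, true), (5, 41, true), (4, 40, true), (6, 43, true), (5, 42, true), (5, 44, true)], 285), ([(5, 23, true), (4, 22, true), (3, 21, true), (2, 20, true), (1, 17, true), (3, 43, true), (4, 44, true)], 465), ([(5, 29, true), (4, 28, true), (3, 27, true), (2, 26, true), (4, 41, true), (5, 43, true), (6, 44, true)], 172), ([(5, 34, true), (4, 33, true), (3, 32, true), (2, 31, true), (5, 43, true), (6, 44, true)], 98), ([(5, 38, true), (4, 37, true), (3, 36, true), (2, 35, true), (2, 41, true), (3, 43, true), (4, 44, true)], 384), ([(5, 41, true), (4, 40, true), (3, 39, true)], 279), ([(5, 43, true), (4, 42, true)], 291), ([(5, 44, true)], 280)],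
  [([(3, 7, true), (2, 3, true), (1, 2, true), (0, 0, true), (1, 29, true), (2, 41, true), (3, 44, true)], 313), ([(3, 15, true), (2, 11, true), (1, 10, true), (3, 28, true), (5, 34, true), (4, 33, true), (6, 43, true), (5, 42, true)], 283), ([(3, 22, true), (2, 18, true), (1, 17, true)], 445), ([(3, 28, true), (2, 24, true)], 145), ([(3, 33, true)], 293), ([(3, 37, true)], 395), ([(3, 40, true)], 278), ([(3, 42, true)], 101), ([], 281)],
  [([(2, 3, true), (1, 2, true), (0, 1, true), (3, 21, true), (2, 17, true), (3, 44, true), (2, 27, true), (3, 39, true)], 467), ([(2, 11, true), (1, 10, true), (0, 9, true), (1, 28, true), (3, 34, true), (2, 33, true)], 154), ([(2, 18, true), (1, 17, true)], 236), ([(2, 24, true)], 257), ([], 76), ([], 5), ([], 314), ([], 44), ([], 159)],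
  [([(3, 6, true), (2, 5, true), (1, 2, true), (0, 1, true), (3, 21, true), (2, 17, true), (3, 44, true), (2, 36, true), (4, 41, true), (3, 39, true)], 59), ([(3, 14, true), (2, 13, true), (1, 10, true), (0, 9, true), (1, 37, true), (3, 41, true), (2, 40, true), (4, 43, true), (3, 42, true), (3, 44, true)], 157), ([(3, 21, true), (2, 20, true), (1, 17, true)], 324), ([(3, 27, true), (2, 26, true), (4, 41, true)], 339), ([(3, 32, true), (2, 31, true)], 42), ([(3, 36, true), (2, 35, true), (2, 41, true)], 369), ([(3, 39, true)], 315), ([], 74), ([], 158)],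
  [([(3, 8, true), (2, 6, true), (1, 5, true), (0, 2, true), (2, 38, true), (3, 44, true)], 291), ([(3, 16, true), (2, 14, true), (1, 13, true), (0, 10, true), (2, 37, true), (4, 41, true), (3, 40, true), (5, 43, true), (4, 42, true), (4, 44, true)], 158), ([(3, 23, true), (2, 21, true), (1, 20, true), (0, 17, true), (2, 44, true)], 477), ([(3, 29, true), (2, 27, true), (1, 26, true), (3, 41, true), (4, 44, true)], 410), ([(3, 34, true), (2, 32, true), (1, 31, true), (4, 44, true)], 40), ([(3, 38, true), (2, 36, true), (1, 35, true), (1, 41, true), (2, 44, true)], 6), ([(3, 41, true), (2, 39, true)], 383), ([(3, 43, true)], 73), ([(3, 44, true)], 157)],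
  [([(2, 8, true), (1, 3, true), (0, 2, true), (2, 29, true), (3, 41, true), (4, 44, true)], 116), ([(2, 16, true), (1, 11, true), (0, 10, true), (2, 28, true), (4, 34, true), (3, 33, true), (5, 44, true)], 153), ([(2, 23, true), (1, 18, true), (0, 17, true)], 235), ([(2, 29, true), (1, 24, true)], 193), ([(2, 34, true)], 79), ([(2, 38, true)], 371), ([(2, 41, true)], 382), ([(2, 43, true)], 46), ([(2, 44, true)], 156)],
  [([(5, 8, true), (4, 7, true), (3, 6, true), (2, 5, true), (1, 4, true), (0, 2, true), (2, 34, true), (3, 38, true), (4, 41, true), (5, 44, true), (4, 36, true), (3, 35, true), (3, 41, true), (4, 44, true), (3, 39, true), (4, 44, true)], 351), ([(5, 16, true), (4, 15, true), (3, 14, true), (2, 13, true), (1, 12, true), (0, 10, true), (2, 33, true), (3, 37, true), (5, 41, true), (4, 40, true), (6, 43, true), (5, 42, true), (5, 44, true)], 152), ([(5, 23, true), (4, 22, true), (3, 21, true), (2, 20, true), (1, 19, true), (0, 17, true), (1, 37, true), (2, 40, true), (4, 43, true), (3, 42, true), (3, 44, true)], 323), ([(5, 29, true), (4, 28,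 true), (3, 27, true), (2, 26, true), (1, 25, true), (4, 41, true), (5, 43, true), (6, 44, true)], 195), ([(5, 34, true), (4, 33, true), (3, 32, true), (2, 31, true), (1, 30, true), (3, 43, true), (4, 44, true)], 47), ([(5, 38, true), (4, 37, true), (3, 36, true), (2, 35, true), (2, 41, true), (3, 43, true), (4, 44, true)], 3), ([(5, 41, true), (4, 40, true), (3, 39, true)], 167), ([(5, 43, true), (4, 42, true)], 78), ([(5, 44, true)], 155)],
  [([(3, 7, true), (2, 4, true), (1, 3, true), (0, 2, true), (2, 29, true), (3, 41, true), (4, 44, true), (3, 32, true), (5, 38, true), (4, 36, true), (6, 41, true), (5, 39, true), (5, 44, true)], 15), ([(3, 15, true), (2, 12, true), (1, 11, true), (0, 10, true), (2, 28, true), (4, 34, true), (3, 33, true), (5, 34, true), (4, 33, true), (3, 30, true), (4, 43, true), (3, 42, true)], 159), ([(3, 22, true), (2, 19, true), (1, 18, true), (0, 17, true), (2, 32, true), (1, 31, true), (4, 43, true), (5, 43, true), (4, 42, true)], 309), ([(3, 28, true), (2, 25, true), (1, 24, true)], 408), ([(3, 33, true), (2, 30, true)], 72),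 ([(3, 37, true)], 374), ([(3, 40, true)], 166), ([(3, 42, true)], 41), ([], 154)],
  [([(5, 8, true), (4, 7, true), (3, 4, true), (2, 3, true), (1, 2, true), (0, 1, true), (3, 21, true), (2, 17, true), (3, 44, true), (2, 27, true), (3, 39, true), (3, 34, true), (4, 38, true), (5, 41, true), (6, 44, true), (7, 44, true)], 251), ([(5, 16, true), (4, 15, true), (3, 12, true), (2, 11, true), (1, 10, true), (0, 9, true), (1, 28, true), (3, 34, true), (2, 33, true), (4, 34, true), (3, 33, true), (2, 30, true), (3, 43, true), (2, 42, true), (2, 44, true)], 156), ([(5, 23, true), (4, 22, true), (3, 19, true), (2, 18, true), (1, 17, true), (3, 32, true), (2, 31, true), (5, 43, true), (6, 43, true), (5, 42, true), (5, 44, true)], 306), ([(5, 29, true), (4, 28, true), (3, 25, true), (2, 24, true), (4, 44, true)], 336), ([(5, 34, true), (4, 33, true), (3, 30, true)], 75), ([(5, 38, true), (4, 37, true)], 0), ([(5, 41, true), (4, 40, true)], 482), ([(5, 43, true), (4, 42, true)], 43), ([(5, 44, true)], 153)],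
  [([(5, 7, true), (4, 6, true), (3, 5, true), (2, 4, true), (1, 2, true), (0, 1, true), (3, 21, true), (2, 17, true), (3, 44, true), (2, 32, true), (4, 38, true), (3, 36, true), (5, 41, true), (4, 39, true), (4, 44, true), (3, 35, true), (3, 44, true)], 54), ([(5, 15, true), (4, 14, true), (3, 13, true), (2, 12, true), (1, 10, true), (0, 9, true), (1, 33, true), (2, 37, true), (4, 41, true), (3, 40, true), (5, 43, true), (4, 42, true), (4, 44, true)], 155), ([(5, 22, true), (4, 21, true), (3, 20, true), (2, 19, true), (1, 17, true), (2, 37, true), (3, 40, true), (5, 43, true), (4, 42, true)], 474), ([(5, 28, true), (4, 27, true), (3, 26, true), (2, 25, true), (5, 41, true), (6, 43, true), (7, 44, true)], 258), ([(5, 33, true), (4, 32, true), (3, 31, true), (2, 30, true), (4, 43, true)], 45), ([(5, 37, true), (4, 36, true), (3, 35, true), (3, 41, true), (4, 43, true)], 372), ([(5, 40, true), (4, 39, true)], 483), ([(5, 42, true)], 77), ([], 152)],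
  [([(4, 8, true), (3, 5, true), (2, 3, true), (1, 2, true), (0, 1, true), (3, 21, true), (2, 17, true), (3, 44, true), (2, 27, true), (3, 39, true), (3, 38, true), (4, 44, true)], 53), ([(4, 16, true), (3, 13, true), (2, 11, true), (1, 10, true), (0, 9, true), (1, 28, true), (3, 34, true), (2, 33, true), (4, 38, true), (3, 37, true), (5, 44, true)], 2), ([(4, 23, true), (3, 20, true), (2, 18, true), (1, 17, true), (3, 36, true), (2, 35, true), (2, 41, true), (3, 44, true)], 81), ([(4, 29, true), (3, 26, true), (2, 24, true), (3, 44, true)], 315), ([(4, 34, true), (3, 31, true)], 494), ([(4, 38, true), (3, 35, true), (3, 44, true)], 360), ([(4, 41, true)], 339), ([(4, 43, true)], 231), ([(4, 44, true)], 5)],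
  [([(3, 8, true), (2, 6, true), (1, 2, true), (0, 1, true), (3, 21, true), (2, 17, true), (3, 44, true), (2, 39, true)], 35), ([(3, 16, true), (2, 14, true), (1, 10, true), (0, 9, true), (1, 40, true), (2, 42, true), (2, 44, true)], 6), ([(3, 23, true), (2, 21, true), (1, 17, true), (2, 44, true)], 89), ([(3, 29, true), (2, 27, true)], 487), ([(3, 34, true), (2, 32, true), (4, 44, true)], 226), ([(3, 38, true), (2, 36, true)], 158), ([(3, 41, true), (2, 39, true)], 338), ([(3, 43, true)], 491), ([(3, 44, true)], 4)],
  [([(2, 8, true), (1, 6, true), (0, 2, true), (2, 41, true), (3, 44, true)], 13), ([(2, 16, true), (1, 14, true), (0, 10, true), (2, 40, true), (3, 42, true), (3, 44, true)], 4), ([(2, 23, true), (1, 21, true), (0, 17, true), (1, 44, true)], 17), ([(2, 29, true), (1, 27, true)], 382), ([(2, 34, true), (1, 32, true), (3, 44, true)], 224), ([(2, 38, true), (1, 36, true)], 362), ([(2, 41, true), (1, 39, true)], 193), ([(2, 43, true)], 488), ([(2, 44, true)], 6)],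
  [([(3, 8, true), (2, 5, true), (1, 3, true), (0, 2, true), (2, 29, true), (3, 41, true), (4, 44, true), (3, 36, true), (5, 44, true)], 71), ([(3, 16, true), (2, 13, true), (1, 11, true), (0, 10, true), (2, 28, true), (4, 34, true), (3, 33, true), (5, 38, true), (4, 37, true), (6, 44, true)], 0), ([(3, 23, true), (2, 20, true), (1, 18, true), (0, 17, true), (2, 36, true), (1, 35, true), (1, 41, true), (2, 44, true)], 83), ([(3, 29, true), (2, 26, true), (1, 24, true), (2, 44, true)], 163), ([(3, 34, true), (2, 31, true)], 493), ([(3, 38, true), (2, 35, true), (2, 44, true)], 156), ([(3, 41, true)], 192), ([(3, 43, true)], 228), ([(3, 44, true)], 7)],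
  [([(5, 8, true), (4, 7, true), (3, 6, true), (2, 4, true), (1, 2, true), (0, 1, true), (3, 21, true), (2, 17, true), (3, 44, true), (2, 32, true), (4, 38, true), (3, 36, true), (5, 41, true), (4, 39, true), (4, 44, true), (6, 44, true)], 107), ([(5, 16, true), (4, 15, true), (3, 14, true), (2, 12, true), (1, 10, true), (0, 9, true), (1, 33, true), (2, 40, true), (3, 42, true), (3, 43, true), (4, 44, true)], 3), ([(5, 23, true), (4, 22, true), (3, 21, true), (2, 19, true), (1, 17, true), (2, 40, true), (4, 43, true), (3, 42, true), (3, 44, true)], 19), ([(5, 29, true), (4, 28, true), (3, 27, true), (2, 25, true), (6, 44, true)], 319), ([(5, 34, true), (4, 33, true), (3, 32, true), (2, 30, true), (3, 43, true), (4, 44, true)], 230), ([(5, 38, true), (4, 37, true), (3, 36, true)], 152), ([(5, 41, true), (4, 40, true), (3, 39, true)], 259), ([(5, 43, true), (4, 42, true)], 495), ([(5, 44, true)], 1)],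
  [([(5, 7, true), (4, 5, true), (3, 4, true), (2, 3, true), (1, 2, true), (0, 1, true), (3, 21, true), (2, 17, true), (3, 44, true), (2, 27, true), (3, 39, true), (3, 34, true), (4, 38, true), (5, 41, true), (6, 44, true), (5, 36, true), (4, 35, true), (4, 41, true), (5, 44, true)], 63), ([(5, 15, true), (4, 13, true), (3, 12, true), (2, 11, true), (1, 10, true), (0, 9, true), (1, 28, true), (3, 34, true), (2, 33, true), (4, 34, true), (3, 33, true), (2, 30, true), (3, 38, true), (2, 37, true), (4, 44, true), (3, 42, true)], 7), ([(5, 22, true), (4, 20, true), (3, 19, true), (2, 18, true), (1, 17, true), (3, 32, true), (2, 31, true), (5, 43, true), (6, 38, true), (5, 37, true), (4, 36, true), (3, 35, true), (3, 41, true), (4, 43, true), (5, 44, true), (4, 42, true)], 27), ([(5, 28, true), (4, 26, true), (3, 25, true), (2, 24, true), (4, 43, true), (5, 44, true)], 483), ([(5, 33, true), (4, 31, true), (3, 30, true)], 490), ([(5, 37, true), (4, 35, true), (4, 43, true)], 366), ([(5, 40, true)], 258), ([(5, 42, true)], 227), ([], 0)],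
  [([(4, 7, true), (3, 5, true), (2, 4, true), (1, 3, true), (0, 2, true), (2, 29, true), (3, 41, true), (4, 44, true), (3, 32, true), (5, 38, true), (4, 36, true), (6, 41, true), (5, 39, true), (5, 44, true), (4, 35, true), (4, 44, true)], 99), ([(4, 15, true), (3, 13, true), (2, 12, true), (1, 11, true), (0, 10, true), (2, 28, true), (4, 34, true), (3, 33, true), (5, 34, true), (4, 33, true), (3, 30, true), (4, 38, true), (3, 37, true), (5, 44, true), (4, 42, true)], 5), ([(4, 22, true), (3, 20, true), (2, 19, true), (1, 18, true), (0, 17, true), (2, 32, true), (1, 31, true), (4, 43, true), (5, 38, true), (4, 37, true), (3, 36, true), (2, 35, true), (2, 41, true), (3, 43, true), (4, 44, true), (3, 42, true)], 25), ([(4, 28, true), (3, 26, true), (2, 25, true), (1, 24, true), (3, 43, true), (4, 44, true)], 378), ([(4, 33, true), (3, 31, true), (2, 30, true)], 489), ([(4, 37, true), (3, 35, true), (3, 43, true)], 154), ([(4, 40, true)], 409), ([(4, 42, true)], 225), ([], 2)],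
  [([(4, 8, true), (3, 7, true), (2, 6, true), (1, 4, true), (0, 2, true), (2, 34, true), (3, 38, true), (4, 41, true), (5, 44, true), (4, 39, true), (5, 44, true)], 115), ([(4, 16, true), (3, 15, true), (2, 14, true), (1, 12, true), (0, 10, true), (2, 33, true), (3, 40, true), (4, 42, true), (4, 43, true), (5, 44, true)], 1), ([(4, 23, true), (3, 22, true), (2, 21, true), (1, 19, true), (0, 17, true), (1, 40, true), (3, 43, true), (2, 42, true), (2, 44, true)], 91), ([(4, 29, true), (3, 28, true), (2, 27, true), (1, 25, true), (5, 44, true)], 166), ([(4, 34, true), (3, 33, true), (2, 32, true), (1, 30, true), (2, 43, true), (3, 44, true)], 229), ([(4, 38, true), (3, 37, true), (2, 36, true)], 364), ([(4, 41, true), (3, 40, true), (2, 39, true)], 408), ([(4, 43, true), (3, 42, true)], 492), ([(4, 44, true)], 3)],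
  [([(4, 6, true), (3, 4, true), (2, 3, true), (1, 2, true), (0, 1, true), (3, 21, true), (2, 17, true), (3, 44, true), (2, 27, true), (3, 39, true), (3, 34, true), (4, 38, true), (5, 41, true), (6, 44, true), (5, 39, true)], 331), ([(4, 14, true), (3, 12, true), (2, 11, true), (1, 10, true), (0, 9, true), (1, 28, true), (3, 34, true), (2, 33, true), (4, 34, true), (3, 33, true), (2, 30, true), (3, 41, true), (2, 40, true), (4, 43, true), (3, 42, true), (3, 44, true)], 162), ([(4, 21, true), (3, 19, true), (2, 18, true), (1, 17, true), (3, 32, true), (2, 31, true), (5, 43, true), (6, 41, true), (5, 40, true), (4, 39, true), (5, 44, true)], 297), ([(4, 27, true), (3, 25, true), (2, 24, true)], 226), ([(4, 32, true), (3, 30, true)], 487), ([(4, 36, true)], 412), ([(4, 39, true)], 76), ([], 319), ([], 165)],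
  [([(3, 5, true), (2, 4, true), (1, 2, true), (0, 1, true), (3, 21, true), (2, 17, true), (3, 44, true), (2, 32, true), (4, 38, true), (3, 36, true), (5, 41, true), (4, 39, true), (4, 44, true), (3, 35, true), (3, 44, true)], 247), ([(3, 13, true), (2, 12, true), (1, 10, true), (0, 9, true), (1, 33, true), (2, 37, true)], 167), ([(3, 20, true), (2, 19, true), (1, 17, true), (2, 37, true)], 456), ([(3, 26, true), (2, 25, true)], 494), ([(3, 31, true), (2, 30, true)], 315), ([(3, 35, true)], 198), ([], 77), ([], 483), ([], 164)],
  [([(3, 7, true), (2, 5, true), (1, 4, true), (0, 2, true), (2, 34, true), (3, 38, true), (4, 41, true), (5, 44, true), (4, 36, true), (3, 35, true), (3, 41, true), (4, 44, true)], 420), ([(3, 15, true), (2, 13, true), (1, 12, true), (0, 10, true), (2, 33, true), (3, 37, true), (5, 43, true), (4, 42, true)], 164), ([(3, 22, true), (2, 20, true), (1, 19, true), (0, 17, true), (1, 37, true), (2, 42, true)], 24), ([(3, 28, true), (2, 26, true), (1, 25, true), (4, 43, true), (5, 44, true)], 374), ([(3, 33, true), (2, 31, true), (1, 30,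 true)], 312), ([(3, 37, true), (2, 35, true), (2, 43, true)], 408), ([(3, 40, true)], 155), ([(3, 42, true)], 481), ([], 167)],
  [([(5, 8, true), (4, 7, true), (3, 6, true), (2, 4, true), (1, 3, true), (0, 2, true), (2, 29, true), (3, 41, true), (4, 44, true), (3, 32, true), (5, 38, true), (4, 36, true), (6, 41, true), (5, 39, true), (5, 44, true), (7, 44, true)], 66), ([(5, 16, true), (4, 15, true), (3, 14, true), (2, 12, true), (1, 11, true), (0, 10, true), (2, 28, true), (4, 34, true), (3, 33, true), (5, 34, true), (4, 33, true), (3, 30, true), (4, 41, true), (3, 40, true), (5, 43, true), (4, 42, true), (4, 44, true)], 161), ([(5, 23, true), (4, 22, true), (3, 21, true), (2, 19, true), (1, 18, true), (0, 17, true), (2, 32, true), (1, 31, true), (4, 43, true), (5, 41, true), (4, 40, true), (3, 39, true), (4, 44, true), (3, 42, true)], 302), ([(5, 29, true), (4, 28, true), (3, 27, true), (2, 25, true), (1, 24, true), (4, 44, true)], 3), ([(5, 34, true), (4, 33, true), (3, 32, true), (2, 30, true), (3, 43, true), (4, 44, true)], 485), ([(5, 38, true), (4,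 37, true), (3, 36, true)], 195), ([(5, 41, true), (4, 40, true), (3, 39, true)], 154), ([(5, 43, true), (4, 42, true)], 316), ([(5, 44, true)], 166)],
  [([(4, 7, true), (3, 6, true), (2, 3, true), (1, 2, true), (0, 1, true), (3, 21, true), (2, 17, true), (3, 44, true), (2, 27, true), (3, 39, true), (3, 41, true), (4, 43, true), (5, 44, true)], 424), ([(4, 15, true), (3, 14, true), (2, 11, true), (1, 10, true), (0, 9, true), (1, 28, true), (3, 34, true), (2, 33, true), (4, 41, true), (3, 40, true), (5, 43, true), (4, 42, true), (4, 44, true)], 166), ([(4, 22, true), (3, 21, true), (2, 18, true), (1, 17, true), (3, 39, true), (3, 43, true)], 22), ([(4, 28, true), (3, 27, true), (2, 24, true)], 491), ([(4, 33, true), (3, 32, true), (5, 43, true)], 482), ([(4, 37, true), (3, 36, true)], 415), ([(4, 40, true), (3, 39, true)], 44), ([(4, 42, true)], 314), ([], 161)],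
  [([(4, 8, true), (3, 7, true), (2, 5, true), (1, 2, true), (0, 1, true), (3, 21, true), (2, 17, true), (3, 44, true), (2, 36, true), (4, 43, true), (5, 44, true)], 448), ([(4, 16, true), (3, 15, true), (2, 13, true), (1, 10, true), (0, 9, true), (1, 37, true), (3, 43, true), (2, 42, true), (2, 44, true)], 163), ([(4, 23, true), (3, 22, true), (2, 20, true), (1, 17, true)], 31), ([(4, 29, true), (3, 28, true), (2, 26, true), (4, 43, true), (5, 44, true)], 231), ([(4, 34, true), (3, 33, true), (2, 31, true)], 318), ([(4, 38, true), (3, 37, true), (2, 35, true), (2, 43, true), (3, 44, true)], 197), ([(4, 41, true), (3, 40, true)], 45), ([(4, 43, true), (3, 42, true)], 486), ([(4, 44, true)], 160)],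
  [([(3, 8, true), (2, 6, true), (1, 3, true), (0, 2, true), (2, 29, true), (3, 41, true), (4, 44, true), (3, 39, true)], 290), ([(3, 16, true), (2, 14, true), (1, 11, true), (0, 10, true), (2, 28, true), (4, 34, true), (3, 33, true), (5, 41, true), (4, 40, true), (6, 43, true), (5, 42, true), (5, 44, true)], 165), ([(3, 23, true), (2, 21, true), (1, 18, true), (0, 17, true), (2, 39, true), (2, 44, true)], 16), ([(3, 29, true), (2, 27, true), (1, 24, true)], 370), ([(3, 34, true), (2, 32, true), (4, 44, true)], 480), ([(3, 38, true), (2, 36, true)], 192), ([(3, 41, true), (2, 39, true)], 363), ([(3, 43, true)], 313), ([(3, 44, true)], 162)],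
  [([(2, 8, true), (1, 5, true), (0, 2, true), (2, 38, true), (3, 44, true)], 117), ([(2, 16, true), (1, 13, true), (0, 10, true), (2, 37, true), (4, 44, true)], 160), ([(2, 23, true), (1, 20, true), (0, 17, true)], 462), ([(2, 29, true), (1, 26, true), (3, 44, true)], 7), ([(2, 34, true), (1, 31, true)], 317), ([(2, 38, true), (1, 35, true), (1, 44, true)], 411), ([(2, 41, true)], 362), ([(2, 43, true)], 484), ([(2, 44, true)], 163)]]

/-- Derivations closing the normal words, part 12. -/
def multClosing12 : List (List (List (ℕ × ℕ × Bool) × ℕ)) := [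
  [([(3, 7, true), (2, 6, true), (1, 2, true), (0, 0, true), (1, 41, true), (2, 43, true), (3, 44, true)], 229), ([(3, 15, true), (2, 14, true), (1, 10, true), (3, 40, true), (4, 42, true), (4, 43, true)], 398), ([(3, 22, true), (2, 21, true), (1, 17, true), (2, 43, true)], 51), ([(3, 28, true), (2, 27, true)], 400), ([(3, 33, true), (2, 32, true), (4, 43, true)], 420), ([(3, 37, true), (2, 36, true)], 280), ([(3, 40, true), (2, 39, true)], 173), ([(3, 42, true)], 13), ([], 394)],
  [([(5, 8, true), (4, 7, true), (3, 5, true), (2, 3, true), (1, 2, true), (0, 0, true), (1, 29, true), (2, 41, true), (3, 44, true), (2, 36, true), (4, 43, true), (5, 44, true)], 342), ([(5, 16, true), (4, 15, true), (3, 13, true), (2, 11, true), (1, 10, true), (3, 28, true), (5, 34, true), (4, 33, true), (6, 38, true), (5, 37, true), (7, 44, true), (6, 42, true)], 396), ([(5, 23, true), (4, 22, true), (3, 20, true), (2, 18, true), (1, 17, true), (3, 36, true), (2, 35, true), (2, 41, true), (3, 43, true), (4, 44, true)], 426), ([(5, 29, true), (4, 28, true), (3, 26, true), (2, 24,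 true), (3, 43, true), (4, 44, true)], 279), ([(5, 34, true), (4, 33, true), (3, 31, true)], 15), ([(5, 38, true), (4, 37, true), (3, 35, true), (3, 43, true), (4, 44, true)], 359), ([(5, 41, true), (4, 40, true)], 172), ([(5, 43, true), (4, 42, true)], 423), ([(5, 44, true)], 395)],
  [([(4, 5, true), (3, 4, true), (2, 3, true), (1, 2, true), (0, 0, true), (1, 29, true), (2, 41, true), (3, 44, true), (2, 32, true), (4, 38, true), (3, 36, true), (5, 41, true), (4, 39, true), (4, 44, true), (3, 35, true), (3, 44, true)], 41), ([(4, 13, true), (3, 12, true), (2, 11, true), (1, 10, true), (3, 28, true), (5, 34, true), (4, 33, true), (6, 34, true), (5, 33, true), (4, 30, true), (5, 38, true), (4, 37, true), (6, 44, true)], 399), ([(4, 20, true), (3, 19, true), (2, 18, true), (1, 17, true), (3, 32, true), (2, 31, true), (5, 43, true), (6, 38, true), (5, 37, true), (4, 36, true), (3, 35, true), (3, 41, true), (4, 43, true), (5, 44, true)], 129), ([(4, 26, true), (3, 25, true), (2, 24, true)], 407), ([(4, 31, true), (3, 30, true)], 12), ([(4, 35, true)], 352), ([],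 149), ([], 421), ([], 393)],
  [([(3, 6, true), (2, 4, true), (1, 2, true), (0, 0, true), (1, 34, true), (2, 38, true), (3, 41, true), (4, 44, true), (3, 39, true)], 481), ([(3, 14, true), (2, 12, true), (1, 10, true), (3, 33, true), (4, 40, true), (5, 42, true)], 397), ([(3, 21, true), (2, 19, true), (1, 17, true), (2, 40, true)], 190), ([(3, 27, true), (2, 25, true)], 273), ([(3, 32, true), (2, 30, true)], 422), ([(3, 36, true)], 287), ([(3, 39, true)], 148), ([], 14), ([], 392)],
  [([(4, 7, true), (3, 6, true), (2, 2, true), (1, 1, true), (0, 0, true), (2, 21, true), (1, 17, true), (2, 44, true), (1, 39, true)], 310), ([(4, 15, true), (3, 14, true), (2, 10, true), (1, 9, true), (2, 40, true), (3, 42, true), (3, 43, true)], 394), ([(4, 22, true), (3, 21, true), (2, 17, true), (3, 43, true)], 186), ([(4, 28, true), (3, 27, true)], 264), ([(4, 33, true), (3, 32, true), (5, 43, true)], 417), ([(4, 37, true), (3, 36, true)], 354), ([(4, 40, true), (3, 39, true)], 344), ([(4, 42, true)], 8), ([], 398)],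
  [([(6, 8, true), (5, 7, true), (4, 5, true), (3, 3, true), (2, 2, true), (1, 1, true), (0, 0, true), (2, 21, true), (1, 17, true), (2, 44, true), (1, 27, true), (2, 39, true), (2, 38, true), (3, 44, true), (4, 44, true)], 203), ([(6, 16, true), (5, 15, true), (4, 13, true), (3, 11, true), (2, 10, true), (1, 9, true), (2, 28, true), (4, 34, true), (3, 33, true), (5, 38, true), (4, 37, true), (6, 44, true), (5, 42, true)], 393), ([(6, 23, true), (5, 22, true), (4, 20, true), (3, 18, true), (2, 17, true), (4, 36, true), (3, 35, true), (3, 41, true), (4, 43, true), (5, 44, true)], 424), ([(6, 29, true), (5, 28, true), (4, 26, true), (3, 24, true), (4, 43, true), (5, 44, true)], 118), ([(6, 34, true), (5, 33, true), (4, 31, true)], 11), ([(6, 38, true), (5, 37, true), (4, 35, true), (4, 43, true), (5, 44, true)], 284), ([(6, 41, true), (5, 40, true)], 345), ([(6, 43, true), (5, 42, true)], 419), ([(6, 44, true)], 399)],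
  [([(4, 6, true), (3, 4, true), (2, 2, true), (1, 1, true), (0, 0, true), (2, 21, true), (1, 17, true), (2, 44, true), (1, 32, true), (3, 38, true), (2, 36, true), (4, 41, true), (3, 39, true), (3, 44, true)], 127), ([(4, 14, true), (3, 12, true), (2, 10, true), (1, 9, true), (2, 33, true), (3, 40, true), (4, 42, true)], 392), ([(4, 21, true), (3, 19, true), (2, 17, true), (3, 40, true)], 54), ([(4, 27, true), (3, 25, true)], 112), ([(4, 32, true), (3, 30, true)], 418), ([(4, 36, true)], 357), ([(4, 39, true)], 64), ([], 10), ([], 397)],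
  [([(5, 5, true), (4, 4, true), (3, 3, true), (2, 2, true), (1, 1, true), (0, 0, true), (2, 21, true), (1, 17, true), (2, 44, true), (1, 27, true), (2, 39, true), (2, 34, true), (3, 38, true), (4, 41, true), (5, 44, true), (4, 36, true), (3, 35, true), (3, 41, true), (4, 44, true)], 27), ([(5, 13, true), (4, 12, true), (3, 11, true), (2, 10, true), (1, 9, true), (2, 28, true), (4, 34, true), (3, 33, true), (5, 34, true), (4, 33, true), (3, 30, true), (4, 38, true), (3, 37, true), (5, 44, true)], 395), ([(5, 20, true), (4, 19, true), (3, 18, true), (2, 17, true), (4, 32, true), (3, 31, true), (6, 43, true), (7, 38, true), (6, 37, true), (5, 36, true), (4, 35, true), (4, 41, true), (5, 43, true), (6, 44, true)], 130), ([(5, 26, true), (4, 25, true), (3, 24, true)], 271), ([(5, 31, true), (4, 30, true)], 9), ([(5, 35, true)], 283), ([], 65), ([], 416), ([], 396)],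
  [([(4, 8, true), (3, 6, true), (2, 4, true), (1, 2, true), (0, 0, true), (1, 34, true), (2, 38, true), (3, 41, true), (4, 44, true), (3, 39, true)], 317), ([(4, 16, true), (3, 14, true), (2, 12, true), (1, 10, true), (3, 33, true), (4, 40, true), (5, 42, true), (5, 44, true)], 390), ([(4, 23, true), (3, 21, true), (2, 19, true), (1, 17, true), (2, 40, true), (4, 44, true)], 333), ([(4, 29, true), (3, 27, true), (2, 25, true)], 406), ([(4, 34, true), (3, 32, true), (2, 30, true), (3, 44, true)], 13), ([(4, 38, true), (3, 36, true)], 353), ([(4, 41, true), (3, 39, true)], 169), ([(4, 43, true)], 420), ([(4, 44, true)], 387)],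
  [([(5, 8, true), (4, 5, true), (3, 4, true), (2, 3, true), (1, 2, true), (0, 0, true), (1, 29, true), (2, 41, true), (3, 44, true), (2, 32, true), (4, 38, true), (3, 36, true), (5, 41, true), (4, 39, true), (4, 44, true), (3, 35, true), (3, 44, true)], 79), ([(5, 16, true), (4, 13, true), (3, 12, true), (2, 11, true), (1, 10, true), (3, 28, true), (5, 34, true), (4, 33, true), (6, 34, true), (5, 33, true), (4, 30, true), (5, 38, true), (4, 37, true), (6, 44, true)], 389), ([(5, 23, true), (4, 20, true), (3, 19, true), (2, 18, true), (1, 17, true), (3, 32, true), (2, 31, true), (5, 43, true), (6, 38, true), (5, 37, true), (4, 36, true), (3, 35, true), (3, 41, true), (4, 43, true), (5, 44, true)], 60), ([(5, 29, true), (4, 26, true), (3, 25, true), (2, 24, true), (4, 44, true)], 272), ([(5, 34, true), (4, 31, true), (3, 30, true)], 423), ([(5, 38, true), (4, 35, true), (4, 44, true)], 286), ([(5, 41, true)], 168), ([(5, 43, true)], 15), ([(5, 44, true)], 386)],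
  [([(4, 8, true), (3, 7, true), (2, 6, true), (1, 2, true), (0, 0, true), (1, 41, true), (2, 43, true), (3, 44, true)], 488), ([(4, 16, true), (3, 15, true), (2, 14, true), (1, 10, true), (3, 40, true), (4, 42, true), (4, 43, true), (5, 44, true)], 388), ([(4, 23, true), (3, 22, true), (2, 21, true), (1, 17, true), (2, 43, true), (3, 44, true)], 208), ([(4, 29, true), (3, 28, true), (2, 27, true), (5, 44, true)], 278), ([(4, 34, true), (3, 33, true), (2, 32, true), (4, 43, true), (5, 44, true)], 14), ([(4, 38, true), (3, 37, true), (2, 36, true)], 358), ([(4, 41, true), (3, 40, true), (2, 39, true)], 145), ([(4, 43, true), (3, 42, true)], 422), ([(4, 44, true)], 384)],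
  [([(4, 7, true), (3, 5, true), (2, 3, true), (1, 2, true), (0, 0, true), (1, 29, true), (2, 41, true), (3, 44, true), (2, 36, true), (4, 43, true), (5, 44, true)], 261), ([(4, 15, true), (3, 13, true), (2, 11, true), (1, 10, true), (3, 28, true), (5, 34, true), (4, 33, true), (6, 38, true), (5, 37, true), (7, 44, true), (6, 42, true)], 391), ([(4, 22, true), (3, 20, true), (2, 18, true), (1, 17, true), (3, 36, true), (2, 35, true), (2, 41, true), (3, 43, true)], 143), ([(4, 28, true), (3, 26, true), (2, 24, true), (3, 43, true), (4, 44, true)], 401), ([(4, 33, true), (3, 31, true)], 421), ([(4, 37, true), (3, 35, true), (3, 43, true)], 281), ([(4, 40, true)], 144), ([(4, 42, true)], 12), ([], 385)],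
  [([(6, 8, true), (5, 5, true), (4, 4, true), (3, 3, true), (2, 2, true), (1, 1, true), (0, 0, true), (2, 21, true), (1, 17, true), (2, 44, true), (1, 27, true), (2, 39, true), (2, 34, true), (3, 38, true), (4, 41, true), (5, 44, true), (4, 36, true), (3, 35, true), (3, 41, true), (4, 44, true)], 183), ([(6, 16, true), (5, 13, true), (4, 12, true), (3, 11, true), (2, 10, true), (1, 9, true), (2, 28, true), (4, 34, true), (3, 33, true), (5, 34, true), (4, 33, true), (3, 30, true), (4, 38, true), (3, 37, true), (5, 44, true)], 385), ([(6, 23, true), (5, 20, true), (4, 19, true), (3, 18, true), (2, 17, true), (4, 32, true), (3, 31, true), (6, 43, true), (7, 38, true), (6, 37, true), (5, 36, true), (4, 35, true), (4, 41, true), (5, 43, true), (6, 44, true)], 63), ([(6, 29, true), (5, 26, true), (4, 25, true), (3, 24, true), (5, 44, true)], 113), ([(6, 34, true), (5, 31, true), (4, 30, true)], 419), ([(6, 38, true), (5, 35, true), (5, 44, true)], 356), ([(6, 41, true)], 348), ([(6, 43, true)], 11), ([(6, 44, true)], 391)],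
  [([(5, 8, true), (4, 6, true), (3, 4, true), (2, 2, true), (1, 1, true), (0, 0, true), (2, 21, true), (1, 17, true), (2, 44, true), (1, 32, true), (3, 38, true), (2, 36, true), (4, 41, true), (3, 39, true), (3, 44, true)], 474), ([(5, 16, true), (4, 14, true), (3, 12, true), (2, 10, true), (1, 9, true), (2, 33, true), (3, 40, true), (4, 42, true), (4, 44, true)], 387), ([(5, 23, true), (4, 21, true), (3, 19, true), (2, 17, true), (3, 40, true), (5, 44, true)], 213), ([(5, 29, true), (4, 27, true), (3, 25, true)], 270), ([(5, 34, true), (4, 32, true), (3, 30, true), (4, 44, true)], 8), ([(5, 38, true), (4, 36, true)], 282), ([(5, 41, true), (4, 39, true)], 349), ([(5, 43, true)], 417), ([(5, 44, true)], 390)],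
  [([(5, 8, true), (4, 7, true), (3, 6, true), (2, 2, true), (1, 1, true), (0, 0, true), (2, 21, true), (1, 17, true), (2, 44, true), (1, 39, true), (2, 44, true)], 219), ([(5, 16, true), (4, 15, true), (3, 14, true), (2, 10, true), (1, 9, true), (2, 40, true), (3, 42, true), (3, 43, true), (4, 44, true)], 384), ([(5, 23, true), (4, 22, true), (3, 21, true), (2, 17, true), (3, 43, true), (4, 44, true)], 329), ([(5, 29, true), (4, 28, true), (3, 27, true), (6, 44, true)], 119), ([(5, 34, true), (4, 33, true), (3, 32, true), (5, 43, true), (6, 44, true)], 10), ([(5, 38, true), (4, 37, true), (3, 36, true)], 285), ([(5, 41, true), (4, 40, true), (3, 39, true)], 69), ([(5, 43, true), (4, 42, true)], 418), ([(5, 44, true)], 388)],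
  [([(5, 7, true), (4, 5, true), (3, 3, true), (2, 2, true), (1, 1, true), (0, 0, true), (2, 21, true), (1, 17, true), (2, 44, true), (1, 27, true), (2, 39, true), (2, 38, true), (3, 44, true)], 22), ([(5, 15, true), (4, 13, true), (3, 11, true), (2, 10, true), (1, 9, true), (2, 28, true), (4, 34, true), (3, 33, true), (5, 38, true), (4, 37, true), (6, 44, true), (5, 42, true)], 386), ([(5, 22, true), (4, 20, true), (3, 18, true), (2, 17, true), (4, 36, true), (3, 35, true), (3, 41, true), (4, 43, true)], 141), ([(5, 28, true), (4, 26, true), (3, 24, true), (4, 43, true), (5, 44, true)], 265), ([(5, 33, true), (4, 31, true)], 416), ([(5, 37, true), (4, 35, true), (4, 43, true)], 355), ([(5, 40, true)], 68), ([(5, 42, true)], 9), ([], 389)],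
  [([(5, 8, true), (4, 7, true), (3, 6, true), (2, 3, true), (1, 2, true), (0, 0, true), (1, 29, true), (2, 41, true), (3, 44, true), (2, 39, true), (3, 44, true)], 72), ([(5, 16, true), (4, 15, true), (3, 14, true), (2, 11, true), (1, 10, true), (3, 28, true), (5, 34, true), (4, 33, true), (6, 41, true), (5, 40, true), (7, 43, true), (6, 42, true), (6, 44, true)], 274), ([(5, 23, true), (4, 22, true), (3, 21, true), (2, 18, true), (1, 17, true), (3, 39, true), (3, 43, true), (4, 44, true)], 50), ([(5, 29, true), (4, 28, true), (3, 27, true), (2, 24, true), (4, 44, true)], 384), ([(5, 34, true), (4, 33, true), (3, 32, true), (5, 43, true), (6, 44, true)], 268), ([(5, 38, true), (4, 37, true), (3, 36, true)], 172), ([(5, 41, true), (4, 40, true), (3, 39, true)], 281), ([(5, 43, true), (4, 42, true)], 116), ([(5, 44, true)], 278)],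
  [([(3, 7, true), (2, 5, true), (1, 2, true), (0, 0, true), (1, 38, true), (2, 44, true)], 484), ([(3, 15, true), (2, 13, true), (1, 10, true), (3, 37, true), (5, 43, true), (4, 42, true)], 276), ([(3, 22, true), (2, 20, true), (1, 17, true)], 142), ([(3, 28, true), (2, 26, true), (4, 43, true), (5, 44, true)], 395), ([(3, 33, true), (2, 31, true)], 115), ([(3, 37, true), (2, 35, true), (2, 43, true)], 145), ([(3, 40, true)], 280), ([(3, 42, true)], 266), ([], 279)],
  [([(4, 6, true), (3, 3, true), (2, 2, true), (1, 1, true), (0, 0, true), (2, 21, true), (1, 17, true), (2, 44, true), (1, 27, true), (2, 39, true), (2, 41, true)], 461), ([(4, 14, true), (3, 11, true), (2, 10, true), (1, 9, true), (2, 28, true), (4, 34, true), (3, 33, true), (5, 41, true), (4, 40, true), (6, 43, true), (5, 42, true), (5, 44, true)], 273), ([(4, 21, true), (3, 18, true), (2, 17, true), (4, 39, true)], 53), ([(4, 27, true), (3, 24, true)], 8), ([(4, 32, true)], 270), ([(4, 36, true)], 146), ([(4, 39, true)], 295), ([], 119), ([], 277)],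
  [([(3, 5, true), (2, 2, true), (1, 1, true), (0, 0, true), (2, 21, true), (1, 17, true), (2, 44, true), (1, 36, true)], 324), ([(3, 13, true), (2, 10, true), (1, 9, true), (2, 37, true)], 279), ([(3, 20, true), (2, 17, true)], 135), ([(3, 26, true)], 419), ([(3, 31, true)], 113), ([(3, 35, true)], 174), ([], 294), ([], 265), ([], 276)],
  [([(6, 7, true), (5, 6, true), (4, 4, true), (3, 3, true), (2, 2, true), (1, 1, true), (0, 0, true), (2, 21, true), (1, 17, true), (2, 44, true), (1, 27, true), (2, 39, true), (2, 34, true), (3, 38, true), (4, 41, true), (5, 44, true), (4, 39, true)], 92), ([(6, 15, true), (5, 14, true), (4, 12, true), (3, 11, true), (2, 10, true), (1, 9, true), (2, 28, true), (4, 34, true), (3, 33, true), (5, 34, true), (4, 33, true), (3, 30, true), (4, 41, true), (3, 40, true), (5, 43, true), (4, 42, true), (4, 44, true)], 278), ([(6, 22, true), (5, 21, true), (4, 19, true), (3, 18, true), (2, 17, true), (4, 32, true), (3, 31, true), (6, 43, true), (7, 41, true), (6, 40, true), (5, 39, true), (6, 44, true), (5, 42, true)], 331), ([(6,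 28, true), (5, 27, true), (4, 25, true), (3, 24, true)], 417), ([(6, 33, true), (5, 32, true), (4, 30, true), (5, 43, true)], 264), ([(6, 37, true), (5, 36, true)], 150), ([(6, 40, true), (5, 39, true)], 102), ([(6, 42, true)], 112), ([], 274)],
  [([(6, 8, true), (5, 7, true), (4, 5, true), (3, 4, true), (2, 2, true), (1, 1, true), (0, 0, true), (2, 21, true), (1, 17, true), (2, 44, true), (1, 32, true), (3, 38, true), (2, 36, true), (4, 41, true), (3, 39, true), (3, 44, true), (2, 35, true), (2, 44, true), (3, 44, true)], 508), ([(6, 16, true), (5, 15, true), (4, 13, true), (3, 12, true), (2, 10, true), (1, 9, true), (2, 33, true), (3, 37, true), (5, 43, true), (4, 42, true), (4, 44, true)], 272), ([(6, 23, true), (5, 22, true), (4, 20, true), (3, 19, true), (2, 17, true), (3, 37, true), (4, 42, true)], 137), ([(6, 29, true), (5, 28, true), (4, 26, true), (3, 25, true), (6, 43, true), (7, 44, true)], 11), ([(6, 34, true), (5, 33, true), (4, 31, true), (3, 30, true)], 118), ([(6, 38, true), (5, 37, true), (4, 35, true), (4, 43, true), (5, 44, true)], 170),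 ([(6, 41, true), (5, 40, true)], 103), ([(6, 43, true), (5, 42, true)], 271), ([(6, 44, true)], 275)],
  [([(5, 8, true), (4, 6, true), (3, 4, true), (2, 3, true), (1, 2, true), (0, 0, true), (1, 29, true), (2, 41, true), (3, 44, true), (2, 32, true), (4, 38, true), (3, 36, true), (5, 41, true), (4, 39, true), (4, 44, true)], 341), ([(5, 16, true), (4, 14, true), (3, 12, true), (2, 11, true), (1, 10, true), (3, 28, true), (5, 34, true), (4, 33, true), (6, 34, true), (5, 33, true), (4, 30, true), (5, 41, true), (4, 40, true), (6, 43, true), (5, 42, true), (5, 44, true)], 277), ([(5, 23, true), (4, 21, true), (3, 19, true), (2, 18, true), (1, 17, true), (3, 32, true), (2, 31, true), (5, 43, true), (6, 41, true), (5, 40, true), (4, 39, true), (5, 44, true)], 332), ([(5, 29, true), (4, 27, true), (3, 25, true), (2, 24, true)], 392), ([(5, 34, true), (4, 32, true), (3, 30, true), (4, 44, true)], 267), ([(5, 38, true), (4, 36, true)], 168), ([(5, 41, true), (4, 39, true)], 352), ([(5, 43, true)], 114), ([(5, 44, true)], 273)],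
  [([(4, 8, true), (3, 5, true), (2, 4, true), (1, 2, true), (0, 0, true), (1, 34, true), (2, 38, true), (3, 41, true), (4, 44, true), (3, 36, true), (2, 35, true), (2, 41, true), (3, 44, true)], 492), ([(4, 16, true), (3, 13, true), (2, 12, true), (1, 10, true), (3, 33, true), (4, 37, true), (6, 44, true)], 275), ([(4, 23, true), (3, 20, true), (2, 19, true), (1, 17, true), (2, 37, true)], 128), ([(4, 29, true), (3, 26, true), (2, 25, true), (5, 44, true)], 386), ([(4, 34, true), (3, 31, true), (2, 30, true)], 117), ([(4, 38, true), (3, 35, true), (3, 44, true)], 148), ([(4, 41, true)], 353), ([(4, 43, true)], 269), ([(4, 44, true)], 272)],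
  [([(3, 8, true), (2, 7, true), (1, 4, true), (0, 2, true), (2, 34, true), (3, 38, true), (4, 41, true), (5, 44, true), (6, 44, true)], 98), ([(3, 16, true), (2, 15, true), (1, 12, true), (0, 10, true), (2, 33, true), (3, 42, true)], 198), ([(3, 23, true), (2, 22, true), (1, 19, true), (0, 17, true), (1, 42, true)], 308), ([(3, 29, true), (2, 28, true), (1, 25, true), (4, 44, true)], 365), ([(3, 34, true), (2, 33, true), (1, 30, true)], 260), ([(3, 38, true), (2, 37, true)], 167), ([(3, 41, true), (2, 40, true)], 375), ([(3, 43, true), (2, 42, true)], 340), ([(3, 44, true)], 194)],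
  [([(5, 7, true), (4, 6, true), (3, 5, true), (2, 4, true), (1, 3, true), (0, 2, true), (2, 29, true), (3, 41, true), (4, 44, true), (3, 32, true), (5, 38, true), (4, 36, true), (6, 41, true), (5, 39, true), (5, 44, true), (4, 35, true), (4, 44, true)], 114), ([(5, 15, true), (4, 14, true), (3, 13, true), (2, 12, true), (1, 11, true), (0, 10, true), (2, 28, true), (4, 34, true), (3, 33, true), (5, 34, true), (4, 33, true), (3, 30, true), (4, 38, true), (3, 37, true), (5, 44, true), (4, 40, true), (5, 42, true), (5, 43, true)], 196), ([(5, 22, true), (4, 21, true), (3, 20, true), (2, 19, true), (1, 18, true), (0, 17, true), (2, 32, true), (1, 31, true), (4, 43, true), (5, 38, true), (4, 37, true), (3, 36, true), (2, 35, true), (2, 41, true), (3, 43, true), (4, 44, true), (3, 40, true), (2, 39, true), (3, 43, true), (2, 42, true)], 503), ([(5, 28, true), (4, 27, true), (3, 26, true), (2, 25, true), (1, 24, true), (3, 41, true), (4, 43, true), (5, 44, true)], 155), ([(5, 33, true), (4, 32, true), (3, 31, true), (2, 30, true), (4, 43, true)], 342), ([(5, 37, true),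 (4, 36, true), (3, 35, true), (3, 41, true), (4, 43, true)], 379), ([(5, 40, true), (4, 39, true)], 374), ([(5, 42, true)], 262), ([], 195)],
  [([(3, 6, true), (2, 5, true), (1, 3, true), (0, 2, true), (2, 29, true), (3, 41, true), (4, 44, true), (3, 36, true), (5, 41, true), (4, 39, true)], 423), ([(3, 14, true), (2, 13, true), (1, 11, true), (0, 10, true), (2, 28, true), (4, 34, true), (3, 33, true), (5, 38, true), (4, 37, true), (6, 44, true), (5, 40, true), (6, 42, true)], 199), ([(3, 21, true), (2, 20, true), (1, 18, true), (0, 17, true), (2, 36, true), (1, 35, true), (1, 41, true), (2, 41, true), (1, 39, true), (1, 44, true)], 476), ([(3, 27, true), (2, 26, true), (1, 24, true), (2, 41, true)], 362), ([(3, 32, true), (2, 31, true)], 341), ([(3, 36, true), (2, 35, true), (2, 41, true)], 382), ([(3, 39, true)], 7), ([], 261), ([], 192)],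
  [([(0, 2, true)], 346), ([(0, 10, true)], 197), ([(0, 17, true)], 511), ([], 156), ([], 263), ([], 163), ([], 6), ([], 343), ([], 193)],
  [([(5, 6, true), (4, 5, true), (3, 4, true), (2, 3, true), (1, 2, true), (0, 1, true), (3, 21, true), (2, 17, true), (3, 44, true), (2, 27, true), (3, 39, true), (3, 34, true), (4, 38, true), (5, 41, true), (6, 44, true), (5, 36, true), (4, 35, true), (4, 41, true), (5, 44, true), (4, 39, true)], 433), ([(5, 14, true), (4, 13, true), (3, 12, true), (2, 11, true), (1, 10, true), (0, 9, true), (1, 28, true), (3, 34, true), (2, 33, true), (4, 34, true), (3, 33, true), (2, 30, true), (3, 38, true), (2, 37, true), (4, 44, true), (3, 40, true), (4, 42, true)], 192), ([(5, 21, true), (4, 20, true), (3, 19, true), (2, 18, true), (1, 17, true), (3, 32, true), (2, 31, true), (5, 43, true), (6, 38, true), (5, 37, true), (4, 36, true), (3, 35, true), (3, 41, true), (4, 43, true), (5, 44, true), (4, 40, true), (3, 39, true)], 500), ([(5, 27, true), (4, 26, true), (3, 25, true), (2, 24, true), (4, 41, true)], 42), ([(5, 32, true), (4,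 31, true), (3, 30, true)], 339), ([(5, 36, true), (4, 35, true), (4, 41, true)], 165), ([(5, 39, true)], 227), ([], 258), ([], 199)],
  [([(2, 4, true), (1, 2, true), (0, 1, true), (3, 21, true), (2, 17, true), (3, 44, true), (2, 32, true), (4, 38, true), (3, 36, true), (5, 41, true), (4, 39, true), (4, 44, true)], 428), ([(2, 12, true), (1, 10, true), (0, 9, true), (1, 33, true)], 194), ([(2, 19, true), (1, 17, true)], 508), ([(2, 25, true)], 76), ([(2, 30, true)], 257), ([], 377), ([], 226), ([], 336), ([], 198)],
  [([(3, 8, true), (2, 7, true), (1, 2, true), (0, 1, true), (3, 21, true), (2, 17, true), (3, 44, true), (4, 44, true)], 329), ([(3, 16, true), (2, 15, true), (1, 10, true), (0, 9, true), (1, 42, true)], 193), ([(3, 23, true), (2, 22, true), (1, 17, true)], 310), ([(3, 29, true), (2, 28, true), (4, 44, true)], 44), ([(3, 34, true), (2, 33, true)], 259), ([(3, 38, true), (2, 37, true)], 381), ([(3, 41, true), (2, 40, true)], 491), ([(3, 43, true), (2, 42, true)], 338), ([(3, 44, true)], 197)],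
  [([(5, 7, true), (4, 6, true), (3, 5, true), (2, 3, true), (1, 2, true), (0, 1, true), (3, 21, true), (2, 17, true), (3, 44, true), (2, 27, true), (3, 39, true), (3, 38, true), (4, 44, true)], 446), ([(5, 15, true), (4, 14, true), (3, 13, true), (2, 11, true), (1, 10, true), (0, 9, true), (1, 28, true), (3, 34, true), (2, 33, true), (4, 38, true), (3, 37, true), (5, 44, true), (4, 40, true), (5, 42, true), (5, 43, true)], 195), ([(5, 22, true), (4, 21, true), (3, 20, true), (2, 18, true), (1, 17, true), (3, 36, true), (2, 35, true), (2, 41, true), (3, 41, true), (2, 39, true), (2, 44, true)], 478), ([(5, 28, true), (4, 27, true), (3, 26, true), (2, 24, true), (3, 41, true), (4, 43, true), (5, 44, true)], 74), ([(5, 33, true), (4, 32, true), (3, 31, true), (6, 43, true)], 337), ([(5, 37, true), (4, 36, true), (3, 35, true), (3, 41, true), (4, 43, true)], 161), ([(5, 40, true), (4, 39, true)], 490), ([(5, 42, true)], 256), ([], 196)]]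

/-- Derivations closing the normal words, part 13. -/
def multClosing13 : List (List (List (ℕ × ℕ × Bool) × ℕ)) := [
  [([(6, 7, true), (5, 5, true), (4, 4, true), (3, 3, true), (2, 2, true), (1, 1, true), (0, 0, true), (2, 21, true), (1, 17, true), (2, 44, true), (1, 27, true), (2, 39, true), (2, 34, true), (3, 38, true), (4, 41, true), (5, 44, true), (4, 36, true), (3, 35, true), (3, 41, true), (4, 44, true)], 457), ([(6, 15, true), (5, 13, true), (4, 12, true), (3, 11, true), (2, 10, true), (1, 9, true), (2, 28, true), (4, 34, true), (3, 33, true), (5, 34, true), (4, 33, true), (3, 30, true), (4, 38, true), (3, 37, true), (5, 44, true), (4, 42, true)], 12), ([(6, 22, true), (5, 20, true), (4, 19, true), (3, 18, true), (2, 17, true), (4, 32, true), (3, 31, true), (6, 43, true), (7, 38, true), (6, 37, true), (5, 36, true), (4, 35, true), (4, 41, true), (5, 43, true), (6, 44, true), (5, 42, true)], 429), ([(6, 28, true), (5, 26, true), (4, 25, true), (3, 24, true), (5, 43, true), (6, 44, true)], 275), ([(6, 33, true), (5, 31, true), (4, 30, true)], 399), ([(6,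 37, true), (5, 35, true), (5, 43, true)], 289), ([(6, 40, true)], 150), ([(6, 42, true)], 391), ([], 11)],
  [([(6, 8, true), (5, 7, true), (4, 6, true), (3, 4, true), (2, 2, true), (1, 1, true), (0, 0, true), (2, 21, true), (1, 17, true), (2, 44, true), (1, 32, true), (3, 38, true), (2, 36, true), (4, 41, true), (3, 39, true), (3, 44, true), (5, 44, true)], 501), ([(6, 16, true), (5, 15, true), (4, 14, true), (3, 12, true), (2, 10, true), (1, 9, true), (2, 33, true), (3, 40, true), (4, 42, true), (4, 43, true), (5, 44, true)], 14), ([(6, 23, true), (5, 22, true), (4, 21, true), (3, 19, true), (2, 17, true), (3, 40, true), (5, 43, true), (4, 42, true), (4, 44, true)], 330), ([(6, 29, true), (5, 28, true), (4, 27, true), (3, 25, true), (7, 44, true)], 404), ([(6, 34, true), (5, 33, true), (4, 32, true), (3, 30, true), (4, 43, true), (5, 44, true)], 388), ([(6, 38, true), (5, 37, true), (4, 36, true)], 103), ([(6, 41, true), (5, 40, true), (4, 39, true)], 151), ([(6, 43, true), (5, 42, true)], 397), ([(6, 44, true)], 10)],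
  [([(4, 8, true), (3, 6, true), (2, 2, true), (1, 1, true), (0, 0, true), (2, 21, true), (1, 17, true), (2, 44, true), (1, 39, true)], 504), ([(4, 16, true), (3, 14, true), (2, 10, true), (1, 9, true), (2, 40, true), (3, 42, true), (3, 44, true)], 13), ([(4, 23, true), (3, 21, true), (2, 17, true), (3, 44, true)], 215), ([(4, 29, true), (3, 27, true)], 277), ([(4, 34, true), (3, 32, true), (5, 44, true)], 390), ([(4, 38, true), (3, 36, true)], 97), ([(4, 41, true), (3, 39, true)], 174), ([(4, 43, true)], 398), ([(4, 44, true)], 8)],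
  [([(5, 8, true), (4, 5, true), (3, 3, true), (2, 2, true), (1, 1, true), (0, 0, true), (2, 21, true), (1, 17, true), (2, 44, true), (1, 27, true), (2, 39, true), (2, 38, true), (3, 44, true)], 300), ([(5, 16, true), (4, 13, true), (3, 11, true), (2, 10, true), (1, 9, true), (2, 28, true), (4, 34, true), (3, 33, true), (5, 38, true), (4, 37, true), (6, 44, true)], 15), ([(5, 23, true), (4, 20, true), (3, 18, true), (2, 17, true), (4, 36, true), (3, 35, true), (3, 41, true), (4, 44, true)], 134), ([(5, 29, true), (4, 26, true), (3, 24, true), (4, 44, true)], 403), ([(5, 34, true), (4, 31, true)], 396), ([(5, 38, true), (4, 35, true), (4, 44, true)], 295), ([(5, 41, true)], 175), ([(5, 43, true)], 389), ([(5, 44, true)], 9)],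
  [([(5, 8, true), (4, 7, true), (3, 6, true), (2, 4, true), (1, 2, true), (0, 0, true), (1, 34, true), (2, 38, true), (3, 41, true), (4, 44, true), (3, 39, true), (4, 44, true)], 378), ([(5, 16, true), (4, 15, true), (3, 14, true), (2, 12, true), (1, 10, true), (3, 33, true), (4, 40, true), (5, 42, true), (5, 43, true), (6, 44, true)], 10), ([(5, 23, true), (4, 22, true), (3, 21, true), (2, 19, true), (1, 17, true), (2, 40, true), (4, 43, true), (3, 42, true), (3, 44, true)], 210), ([(5, 29, true), (4, 28, true), (3, 27, true), (2, 25, true), (6, 44, true)], 268), ([(5, 34, true), (4, 33, true), (3, 32, true), (2, 30, true), (3, 43, true), (4, 44, true)], 384), ([(5, 38, true), (4, 37, true), (3, 36, true)], 292), ([(5, 41, true), (4, 40, true), (3, 39, true)], 67), ([(5, 43, true), (4, 42, true)], 392), ([(5, 44, true)], 14)],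
  [([(5, 7, true), (4, 5, true), (3, 4, true), (2, 3, true), (1, 2, true), (0, 0, true), (1, 29, true), (2, 41, true), (3, 44, true), (2, 32, true), (4, 38, true), (3, 36, true), (5, 41, true), (4, 39, true), (4, 44, true), (3, 35, true), (3, 44, true)], 154), ([(5, 15, true), (4, 13, true), (3, 12, true), (2, 11, true), (1, 10, true), (3, 28, true), (5, 34, true), (4, 33, true), (6, 34, true), (5, 33, true), (4, 30, true), (5, 38, true), (4, 37, true), (6, 44, true), (5, 42, true)], 9), ([(5, 22, true), (4, 20, true), (3, 19, true), (2, 18, true), (1, 17, true), (3, 32, true), (2, 31, true), (5, 43, true), (6, 38, true), (5, 37, true), (4, 36, true), (3, 35, true), (3, 41, true), (4, 43, true), (5, 44, true), (4, 42, true)], 430), ([(5, 28, true), (4, 26, true), (3, 25, true), (2, 24, true), (4, 43, true), (5, 44, true)], 115), ([(5, 33, true), (4, 31, true), (3, 30, true)], 395), ([(5, 37, true), (4, 35, true), (4, 43, true)], 99), ([(5, 40, true)], 66), ([(5, 42, true)], 386), ([], 15)],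
  [([(3, 8, true), (2, 6, true), (1, 2, true), (0, 0, true), (1, 41, true), (2, 44, true)], 6), ([(3, 16, true), (2, 14, true), (1, 10, true), (3, 40, true), (4, 42, true), (4, 44, true)], 8), ([(3, 23, true), (2, 21, true), (1, 17, true), (2, 44, true)], 334), ([(3, 29, true), (2, 27, true)], 116), ([(3, 34, true), (2, 32, true), (4, 44, true)], 387), ([(3, 38, true), (2, 36, true)], 291), ([(3, 41, true), (2, 39, true)], 346), ([(3, 43, true)], 394), ([(3, 44, true)], 13)],
  [([(4, 8, true), (3, 5, true), (2, 3, true), (1, 2, true), (0, 0, true), (1, 29, true), (2, 41, true), (3, 44, true), (2, 36, true), (4, 44, true)], 410), ([(4, 16, true), (3, 13, true), (2, 11, true), (1, 10, true), (3, 28, true), (5, 34, true), (4, 33, true), (6, 38, true), (5, 37, true), (7, 44, true)], 11), ([(4, 23, true), (3, 20, true), (2, 18, true), (1, 17, true), (3, 36, true), (2, 35, true), (2, 41, true), (3, 44, true)], 132), ([(4, 29, true), (3, 26, true), (2, 24, true), (3, 44, true)], 266), ([(4, 34, true), (3, 31, true)], 393), ([(4, 38, true), (3, 35, true), (3, 44,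 true)], 101), ([(4, 41, true)], 347), ([(4, 43, true)], 385), ([(4, 44, true)], 12)],
  [([(4, 7, true), (3, 6, true), (2, 3, true), (1, 1, true), (0, 0, true), (2, 27, true), (3, 39, true), (3, 41, true), (4, 43, true), (5, 44, true)], 380), ([(4, 15, true), (3, 14, true), (2, 11, true), (1, 9, true), (5, 43, true), (4, 42, true)], 138), ([(4, 22, true), (3, 21, true), (2, 18, true), (5, 39, true), (5, 43, true)], 389), ([(4, 28, true), (3, 27, true), (2, 24, true)], 186), ([(4, 33, true), (3, 32, true), (5, 43, true)], 63), ([(4, 37, true), (3, 36, true)], 241), ([(4, 40, true), (3, 39, true)], 449), ([(4, 42, true)], 134), ([], 141)],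
  [([(4, 8, true), (3, 7, true), (2, 5, true), (1, 1, true), (0, 0, true), (2, 36, true), (4, 43, true), (5, 44, true)], 45), ([(4, 16, true), (3, 15, true), (2, 13, true), (1, 9, true), (2, 43, true), (3, 44, true)], 142), ([(4, 23, true), (3, 22, true), (2, 20, true)], 118), ([(4, 29, true), (3, 28, true), (2, 26, true), (4, 43, true), (5, 44, true)], 328), ([(4, 34, true), (3, 33, true), (2, 31, true)], 131), ([(4, 38, true), (3, 37, true), (2, 35, true), (2, 43, true), (3, 44, true)], 447), ([(4, 41, true), (3, 40, true)], 448), ([(4, 43, true), (3, 42, true)], 59), ([(4, 44, true)], 140)],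
  [([(3, 7, true), (2, 6, true), (1, 3, true), (0, 0, true), (2, 41, true), (1, 39, true), (1, 43, true), (2, 44, true)], 498), ([(3, 15, true), (2, 14, true), (1, 11, true), (6, 43, true), (5, 42, true)], 136), ([(3, 22, true), (2, 21, true), (1, 18, true), (4, 39, true), (4, 43, true)], 385), ([(3, 28, true), (2, 27, true), (1, 24, true)], 51), ([(3, 33, true), (2, 32, true), (4, 43, true)], 60), ([(3, 37, true), (2, 36, true)], 445), ([(3, 40, true), (2, 39, true)], 109), ([(3, 42, true)], 132), ([], 143)],
  [([(3, 8, true), (2, 7, true), (1, 5, true), (0, 0, true), (1, 43, true), (2, 44, true)], 28), ([(3, 16, true), (2, 15, true), (1, 13, true), (3, 43, true), (4, 44, true)], 140), ([(3, 23, true), (2, 22, true), (1, 20, true)], 279), ([(3, 29, true), (2, 28, true), (1, 26, true), (3, 43, true), (4, 44, true)], 209), ([(3, 34, true), (2, 33, true), (1, 31, true)], 128), ([(3, 38, true), (2, 37, true), (1, 35, true), (1, 43, true), (2, 44, true)], 243), ([(3, 41, true), (2, 40, true)], 108), ([(3, 43, true), (2, 42, true)], 57), ([(3, 44, true)], 142)],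
  [([(3, 5, true), (2, 4, true), (1, 1, true), (0, 0, true), (2, 32, true), (4, 38, true), (3, 36, true), (5, 41, true), (4, 39, true), (4, 44, true), (3, 35, true), (3, 44, true)], 413), ([(3, 13, true), (2, 12, true), (1, 9, true)], 139), ([(3, 20, true), (2, 19, true), (4, 37, true)], 275), ([(3, 26, true), (2, 25, true)], 185), ([(3, 31, true), (2, 30, true)], 135), ([(3, 35, true)], 441), ([], 432), ([], 62), ([], 137)],
  [([(4, 6, true), (3, 4, true), (2, 3, true), (1, 1, true), (0, 0, true), (2, 27, true), (3, 39, true), (3, 34, true), (4, 38, true), (5, 41, true), (6, 44, true), (5, 39, true)], 227), ([(4, 14, true), (3, 12, true), (2, 11, true), (1, 9, true), (2, 30, true)], 143), ([(4, 21, true), (3, 19, true), (2, 18, true), (5, 32, true), (4, 31, true), (7, 43, true), (8, 41, true), (7, 40, true), (6, 39, true), (7, 44, true)], 416), ([(4, 27, true), (3, 25, true), (2, 24, true)], 330), ([(4, 32, true), (3, 30, true)], 58), ([(4, 36, true)], 246), ([(4, 39, true)], 433), ([], 130), ([], 136)],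
  [([(3, 6, true), (2, 4, true), (1, 3, true), (0, 0, true), (2, 34, true), (1, 32, true), (3, 44, true), (2, 36, true), (3, 39, true), (3, 41, true)], 309), ([(3, 14, true), (2, 12, true), (1, 11, true), (3, 30, true)], 141), ([(3, 21, true), (2, 19, true), (1, 18, true), (4, 32, true), (3, 31, true), (6, 43, true), (7, 41, true), (6, 40, true), (5, 39, true), (6, 44, true)], 421), ([(3, 27, true), (2, 25, true), (1, 24, true)], 210), ([(3, 32, true), (2, 30, true)], 56), ([(3, 36, true)], 442), ([(3, 39, true)], 469), ([], 129), ([], 138)],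
  [([(2, 5, true), (1, 4, true), (0, 0, true), (3, 38, true), (2, 36, true), (1, 35, true), (1, 41, true), (2, 44, true)], 303), ([(2, 13, true), (1, 12, true)], 137), ([(2, 20, true), (1, 19, true), (3, 37, true)], 115), ([(2, 26, true), (1, 25, true)], 49), ([(2, 31, true), (1, 30, true)], 133), ([(2, 35, true)], 244), ([], 468), ([], 61), ([], 139)],
  [([(4, 6, true), (3, 5, true), (2, 4, true), (1, 1, true), (0, 0, true), (2, 32, true), (4, 38, true), (3, 36, true), (5, 41, true), (4, 39, true), (4, 44, true), (3, 35, true), (3, 44, true)], 226), ([(4, 14, true), (3, 13, true), (2, 12, true), (1, 9, true), (3, 41, true), (4, 43, true), (5, 44, true)], 455), ([(4, 21, true), (3, 20, true), (2, 19, true), (4, 37, true), (5, 40, true)], 103), ([(4, 27, true), (3, 26, true), (2, 25, true), (5, 41, true)], 440), ([(4, 32, true), (3, 31, true), (2, 30, true)], 466), ([(4, 36, true), (3, 35, true), (3, 41, true)], 184), ([(4, 39, true)], 428), ([], 107), ([], 452)],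
  [([(3, 4, true), (2, 3, true), (1, 1, true), (0, 0, true), (2, 27, true), (3, 39, true), (3, 34, true), (4, 38, true), (5, 41, true), (6, 44, true)], 412), ([(3, 12, true), (2, 11, true), (1, 9, true), (2, 30, true)], 450), ([(3, 19, true), (2, 18, true), (5, 32, true), (4, 31, true), (7, 43, true)], 171), ([(3, 25, true), (2, 24, true)], 247), ([(3, 30, true)], 111), ([], 331), ([], 429), ([], 471), ([], 453)],
  [([(5, 8, true), (4, 7, true), (3, 6, true), (2, 5, true), (1, 4, true), (0, 0, true), (3, 38, true), (2, 36, true), (1, 35, true), (1, 41, true), (2, 44, true), (2, 41, true), (1, 39, true), (1, 43, true), (2, 44, true)], 506), ([(5, 16, true), (4, 15, true), (3, 14, true), (2, 13, true), (1, 12, true), (4, 41, true), (5, 43, true), (6, 44, true), (5, 42, true)], 452), ([(5, 23, true), (4, 22, true), (3, 21, true), (2, 20, true), (1, 19, true), (3, 37, true), (4, 40, true), (6, 43, true), (5, 42, true), (5, 44, true)], 287), ([(5, 29, true), (4, 28, true), (3, 27, true), (2, 26, true), (1, 25, true), (4, 41, true), (5, 43, true), (6, 44, true)],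 248), ([(5, 34, true), (4, 33, true), (3, 32, true), (2, 31, true), (1, 30, true), (3, 43, true), (4, 44, true)], 465), ([(5, 38, true), (4, 37, true), (3, 36, true), (2, 35, true), (2, 41, true), (3, 43, true), (4, 44, true)], 333), ([(5, 41, true), (4, 40, true), (3, 39, true)], 128), ([(5, 43, true), (4, 42, true)], 105), ([(5, 44, true)], 455)],
  [([(3, 7, true), (2, 4, true), (1, 3, true), (0, 0, true), (2, 34, true), (1, 32, true), (3, 44, true), (2, 36, true), (3, 39, true), (3, 43, true), (4, 44, true)], 200), ([(3, 15, true), (2, 12, true), (1, 11, true), (3, 30, true)], 449), ([(3, 22, true), (2, 19, true), (1, 18, true), (4, 32, true), (3, 31, true), (6, 43, true), (7, 43, true), (6, 42, true)], 168), ([(3, 28, true), (2, 25, true), (1, 24, true)], 38), ([(3, 33, true), (2, 30, true)], 109), ([(3, 37, true)], 191), ([(3, 40, true)], 129), ([(3, 42, true)], 469), ([], 454)],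
  [([(4, 8, true), (3, 7, true), (2, 3, true), (1, 1, true), (0, 0, true), (2, 27, true), (3, 39, true), (3, 43, true), (4, 44, true)], 75), ([(4, 16, true), (3, 15, true), (2, 11, true), (1, 9, true)], 454), ([(4, 23, true), (3, 22, true), (2, 18, true)], 345), ([(4, 29, true), (3, 28, true), (2, 24, true), (3, 44, true)], 447), ([(4, 34, true), (3, 33, true)], 106), ([(4, 38, true), (3, 37, true)], 328), ([(4, 41, true), (3, 40, true)], 141), ([(4, 43, true), (3, 42, true)], 467), ([(4, 44, true)], 449)],
  [([(4, 7, true), (3, 6, true), (2, 5, true), (1, 1, true), (0, 0, true), (2, 36, true), (4, 41, true), (3, 39, true), (3, 43, true), (4, 44, true)], 160), ([(4, 15, true), (3, 14, true), (2, 13, true), (1, 9, true), (2, 41, true), (3, 43, true), (4, 44, true), (3, 42, true)], 451), ([(4, 22, true), (3, 21, true), (2, 20, true), (5, 43, true)], 285), ([(4, 28, true), (3, 27, true), (2, 26, true), (4, 41, true), (5, 43, true), (6, 44, true)], 241), ([(4, 33, true), (3, 32, true), (2, 31, true), (5, 43, true)], 470), ([(4, 37, true), (3, 36, true), (2, 35,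 true), (2, 41, true), (3, 43, true)], 186), ([(4, 40, true), (3, 39, true)], 140), ([(4, 42, true)], 110), ([], 448)],
  [([(3, 8, true), (2, 6, true), (1, 5, true), (0, 0, true), (1, 41, true), (2, 44, true)], 477), ([(3, 16, true), (2, 14, true), (1, 13, true), (3, 41, true), (4, 43, true), (5, 44, true)], 448), ([(3, 23, true), (2, 21, true), (1, 20, true), (4, 44, true)], 100), ([(3, 29, true), (2, 27, true), (1, 26, true), (3, 41, true), (4, 44, true)], 33), ([(3, 34, true), (2, 32, true), (1, 31, true), (4, 44, true)], 468), ([(3, 38, true), (2, 36, true), (1, 35, true), (1, 41, true), (2, 44, true)], 334), ([(3, 41, true), (2, 39, true)], 57), ([(3, 43, true)], 108), ([(3, 44, true)], 451)],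
  [([(2, 8, true), (1, 3, true), (0, 0, true), (2, 44, true)], 83), ([(2, 16, true), (1, 11, true)], 453), ([(2, 23, true), (1, 18, true)], 347), ([(2, 29, true), (1, 24, true)], 255), ([(2, 34, true)], 104), ([(2, 38, true)], 189), ([(2, 41, true)], 56), ([(2, 43, true)], 464), ([(2, 44, true)], 450)],
  [([(6, 8, true), (5, 6, true), (4, 5, true), (3, 4, true), (2, 3, true), (1, 1, true), (0, 0, true), (2, 27, true), (3, 39, true), (3, 34, true), (4, 38, true), (5, 41, true), (6, 44, true), (5, 36, true), (4, 35, true), (4, 41, true), (5, 44, true), (4, 39, true)], 43), ([(6, 16, true), (5, 14, true), (4, 13, true), (3, 12, true), (2, 11, true), (1, 9, true), (2, 30, true), (3, 41, true), (4, 43, true), (5, 44, true)], 242), ([(6, 23, true), (5, 21, true), (4, 20, true), (3, 19, true), (2, 18, true), (5, 32, true), (4, 31, true), (7, 43, true), (8, 38, true), (7, 37, true), (6, 36, true), (5, 35, true), (5, 41, true), (6, 43, true), (7, 44, true), (6, 40, true), (5, 39, true), (6, 44, true)], 102), ([(6, 29, true), (5, 27, true), (4, 26, true), (3, 25, true),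 (2, 24, true), (4, 41, true), (5, 44, true)], 432), ([(6, 34, true), (5, 32, true), (4, 31, true), (3, 30, true), (5, 44, true)], 252), ([(6, 38, true), (5, 36, true), (4, 35, true), (4, 41, true), (5, 44, true)], 429), ([(6, 41, true), (5, 39, true)], 185), ([(6, 43, true)], 36), ([(6, 44, true)], 246)],
  [([(3, 8, true), (2, 4, true), (1, 1, true), (0, 0, true), (2, 32, true), (4, 38, true), (3, 36, true), (5, 41, true), (4, 39, true), (4, 44, true)], 164), ([(3, 16, true), (2, 12, true), (1, 9, true)], 244), ([(3, 23, true), (2, 19, true)], 151), ([(3, 29, true), (2, 25, true)], 453), ([(3, 34, true), (2, 30, true)], 35), ([(3, 38, true)], 137), ([(3, 41, true)], 184), ([(3, 43, true)], 250), ([(3, 44, true)], 247)],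
  [([(4, 6, true), (3, 5, true), (2, 4, true), (1, 3, true), (0, 0, true), (2, 34, true), (1, 32, true), (3, 44, true), (2, 36, true), (3, 39, true), (3, 38, true), (2, 35, true), (2, 44, true), (2, 41, true)], 181), ([(4, 14, true), (3, 13, true), (2, 12, true), (1, 11, true), (3, 30, true), (4, 41, true), (5, 43, true), (6, 44, true)], 241), ([(4, 21, true), (3, 20, true), (2, 19, true), (1, 18, true), (4, 32, true), (3, 31, true), (6, 43, true), (7, 38, true), (6, 37, true), (5, 36, true), (4, 35, true), (4, 41, true), (5, 43, true), (6, 44, true), (5, 40, true), (4, 39, true)], 99), ([(4, 27, true), (3, 26, true), (2, 25, true), (1, 24, true), (3, 41, true)], 105), ([(4, 32, true), (3, 31, true), (2, 30, true)], 254), ([(4, 36, true), (3, 35, true), (3, 41, true)], 138), ([(4, 39, true)], 211), ([], 39), ([], 245)],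
  [([(1, 4, true), (0, 0, true)], 502), ([(1, 12, true)], 247), ([(1, 19, true)], 351), ([(1, 25, true)], 469), ([(1, 30, true)], 32), ([], 431), ([], 210), ([], 249), ([], 244)],
  [([(2, 8, true), (1, 7, true), (0, 0, true), (1, 44, true)], 305), ([(2, 16, true), (1, 15, true)], 240), ([(2, 23, true), (1, 22, true)], 145), ([(2, 29, true), (1, 28, true), (3, 44, true)], 109), ([(2, 34, true), (1, 33, true)], 38), ([(2, 38, true), (1, 37, true)], 427), ([(2, 41, true), (1, 40, true)], 51), ([(2, 43, true), (1, 42, true)], 255), ([(2, 44, true)], 243)],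
  [([(4, 7, true), (3, 6, true), (2, 5, true), (1, 3, true), (0, 0, true), (2, 38, true), (1, 36, true), (3, 44, true), (2, 39, true)], 94), ([(4, 15, true), (3, 14, true), (2, 13, true), (1, 11, true), (5, 41, true), (6, 43, true), (7, 44, true), (6, 42, true)], 246), ([(4, 22, true), (3, 21, true), (2, 20, true), (1, 18, true), (4, 36, true), (3, 35, true), (3, 41, true), (4, 41, true), (3, 39, true), (3, 44, true)], 359), ([(4, 28, true), (3, 27, true), (2, 26, true), (1, 24, true), (2, 41, true), (3, 43, true), (4, 44, true)], 465), ([(4, 33, true), (3, 32, true), (2, 31, true), (5, 43, true)], 248), ([(4, 37, true), (3, 36, true), (2, 35, true), (2, 41, true), (3, 43, true)], 143), ([(4, 40, true), (3, 39, true)], 50), ([(4, 42, true)], 33), ([], 242)],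
  [([(6, 8, true), (5, 7, true), (4, 6, true), (3, 5, true), (2, 3, true), (1, 1, true), (0, 0, true), (2, 27, true), (3, 39, true), (3, 38, true), (4, 44, true), (6, 44, true)], 415), ([(6, 16, true), (5, 15, true), (4, 14, true), (3, 13, true), (2, 11, true), (1, 9, true), (4, 41, true), (5, 43, true), (6, 44, true), (5, 42, true)], 245), ([(6, 23, true), (5, 22, true), (4, 21, true), (3, 20, true), (2, 18, true), (5, 36, true), (4, 35, true), (4, 41, true), (5, 41, true), (4, 39, true), (4, 44, true)], 355), ([(6, 29, true), (5, 28, true), (4, 27, true), (3, 26, true), (2, 24, true), (3, 41, true), (4, 43, true), (5, 44, true)], 448), ([(6, 34, true), (5, 33, true), (4, 32, true), (3, 31, true), (6, 43, true), (7, 44, true)], 251), ([(6, 38, true), (5, 37, true), (4, 36, true), (3, 35, true), (3, 41, true), (4, 43, true), (5, 44, true)], 424), ([(6, 41, true), (5, 40, true), (4, 39, true)], 328), ([(6, 43, true), (5, 42, true)], 34), ([(6, 44, true)], 241)],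
  [([(2, 7, true), (1, 1, true), (0, 0, true)], 491), ([(2, 15, true), (1, 9, true)], 243), ([(2, 22, true)], 344), ([(2, 28, true)], 436), ([(2, 33, true)], 37), ([(2, 37, true)], 140), ([(2, 40, true)], 329), ([(2, 42, true)], 253), ([], 240)]]

/-- Derivations closing the normal words, part 14. -/
def multClosing14 : List (List (List (ℕ × ℕ × Bool) × ℕ)) := [
  [([(5, 8, true), (4, 7, true), (3, 6, true), (2, 5, true), (1, 1, true), (0, 0, true), (2, 36, true), (4, 41, true), (3, 39, true), (3, 43, true), (4, 44, true)], 381), ([(5, 16, true), (4, 15, true), (3, 14, true), (2, 13, true), (1, 9, true), (2, 41, true), (3, 43, true), (4, 44, true), (3, 42, true)], 438), ([(5, 23, true), (4, 22, true), (3, 21, true), (2, 20, true), (5, 43, true), (6, 44, true)], 354), ([(5, 29, true), (4, 28, true), (3, 27, true), (2, 26, true), (4, 41, true), (5, 43, true), (6, 44, true)], 446), ([(5, 34, true), (4, 33, true), (3, 32, true), (2, 31, true), (5, 43, true), (6, 44, true)], 107), ([(5, 38, true), (4, 37, true), (3, 36, true), (2, 35, true), (2, 41, true), (3, 43,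 true), (4, 44, true)], 329), ([(5, 41, true), (4, 40, true), (3, 39, true)], 425), ([(5, 43, true), (4, 42, true)], 466), ([(5, 44, true)], 437)],
  [([(3, 7, true), (2, 3, true), (1, 1, true), (0, 0, true), (2, 27, true), (3, 39, true), (3, 43, true), (4, 44, true)], 44), ([(3, 15, true), (2, 11, true), (1, 9, true)], 435), ([(3, 22, true), (2, 18, true)], 68), ([(3, 28, true), (2, 24, true)], 240), ([(3, 33, true)], 471), ([(3, 37, true)], 187), ([(3, 40, true)], 424), ([(3, 42, true)], 111), ([], 436)],
  [([(1, 3, true), (0, 0, true)], 463), ([(1, 11, true)], 433), ([(1, 18, true)], 71), ([(1, 24, true)], 32), ([], 469), ([], 335), ([], 132), ([], 109), ([], 439)],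
  [([(2, 6, true), (1, 5, true), (0, 0, true), (1, 41, true)], 120), ([(2, 14, true), (1, 13, true), (3, 41, true), (4, 43, true), (5, 44, true)], 437), ([(2, 21, true), (1, 20, true)], 291), ([(2, 27, true), (1, 26, true), (3, 41, true)], 254), ([(2, 32, true), (1, 31, true)], 105), ([(2, 36, true), (1, 35, true), (1, 41, true)], 188), ([(2, 39, true)], 133), ([], 465), ([], 438)],
  [([(5, 8, true), (4, 6, true), (3, 5, true), (2, 4, true), (1, 1, true), (0, 0, true), (2, 32, true), (4, 38, true), (3, 36, true), (5, 41, true), (4, 39, true), (4, 44, true), (3, 35, true), (3, 44, true)], 495), ([(5, 16, true), (4, 14, true), (3, 13, true), (2, 12, true), (1, 9, true), (3, 41, true), (4, 43, true), (5, 44, true)], 434), ([(5, 23, true), (4, 21, true), (3, 20, true), (2, 19, true), (4, 37, true), (5, 40, true), (7, 44, true)], 288), ([(5, 29, true), (4, 27, true), (3, 26, true), (2, 25, true), (5, 41, true), (6, 44, true)], 246), ([(5, 34, true), (4, 32, true), (3, 31, true), (2, 30, true), (4, 44, true)], 110), ([(5, 38, true), (4, 36, true), (3, 35, true),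 (3, 41, true), (4, 44, true)], 330), ([(5, 41, true), (4, 39, true)], 137), ([(5, 43, true)], 470), ([(5, 44, true)], 432)],
  [([(4, 8, true), (3, 4, true), (2, 3, true), (1, 1, true), (0, 0, true), (2, 27, true), (3, 39, true), (3, 34, true), (4, 38, true), (5, 41, true), (6, 44, true)], 199), ([(4, 16, true), (3, 12, true), (2, 11, true), (1, 9, true), (2, 30, true)], 439), ([(4, 23, true), (3, 19, true), (2, 18, true), (5, 32, true), (4, 31, true), (7, 43, true), (8, 44, true)], 150), ([(4, 29, true), (3, 25, true), (2, 24, true)], 441), ([(4, 34, true), (3, 30, true)], 467), ([(4, 38, true)], 185), ([(4, 41, true)], 136), ([(4, 43, true)], 106), ([(4, 44, true)], 433)],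
  [([(4, 8, true), (3, 7, true), (2, 4, true), (1, 3, true), (0, 0, true), (2, 34, true), (1, 32, true), (3, 44, true), (2, 36, true), (3, 39, true), (3, 43, true), (4, 44, true)], 21), ([(4, 16, true), (3, 15, true), (2, 12, true), (1, 11, true), (3, 30, true)], 436), ([(4, 23, true), (3, 22, true), (2, 19, true), (1, 18, true), (4, 32, true), (3, 31, true), (6, 43, true), (7, 43, true), (6, 42, true), (6, 44, true)], 149), ([(4, 29, true), (3, 28, true), (2, 25, true), (1, 24, true), (3, 44, true)], 249), ([(4, 34, true), (3, 33, true), (2, 30, true)], 464), ([(4, 38, true), (3, 37, true)], 332), ([(4, 41, true), (3, 40, true)], 60), ([(4, 43, true), (3, 42, true)], 104), ([(4, 44, true)], 435)],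
  [([(4, 7, true), (3, 6, true), (2, 5, true), (1, 4, true), (0, 0, true), (3, 38, true), (2, 36, true), (1, 35, true), (1, 41, true), (2, 44, true), (2, 41, true), (1, 39, true), (1, 43, true), (2, 44, true)], 238), ([(4, 15, true), (3, 14, true), (2, 13, true), (1, 12, true), (4, 41, true), (5, 43, true), (6, 44, true), (5, 42, true)], 432), ([(4, 22, true), (3, 21, true), (2, 20, true), (1, 19, true), (3, 37, true), (4, 40, true), (6, 43, true), (5, 42, true)], 353), ([(4, 28, true), (3, 27, true), (2, 26, true), (1, 25, true), (4, 41, true), (5, 43, true), (6, 44, true)], 39), ([(4, 33, true), (3, 32, true), (2, 31, true), (1, 30, true), (3, 43, true)], 108), ([(4, 37, true), (3, 36, true), (2, 35, true), (2, 41, true), (3, 43, true)], 190), ([(4, 40, true), (3, 39, true)], 61), ([(4, 42, true)], 468), ([], 434)],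
  [([(3, 7, true), (2, 5, true), (1, 4, true), (0, 1, true), (3, 32, true), (5, 38, true), (4, 36, true), (6, 41, true), (5, 39, true), (5, 44, true), (4, 35, true), (4, 44, true)], 151), ([(3, 15, true), (2, 13, true), (1, 12, true), (0, 9, true), (2, 43, true)], 86), ([(3, 22, true), (2, 20, true), (1, 19, true), (3, 37, true), (4, 42, true)], 377), ([(3, 28, true), (2, 26, true), (1, 25, true), (4, 43, true), (5, 44, true)], 297), ([(3, 33, true), (2, 31, true), (1, 30, true)], 178), ([(3, 37, true), (2, 35, true), (2, 43, true)], 232), ([(3, 40, true)], 501), ([(3, 42, true)], 26), ([], 85)],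
  [([(5, 8, true), (4, 7, true), (3, 6, true), (2, 4, true), (1, 3, true), (0, 1, true), (3, 27, true), (4, 39, true), (4, 34, true), (5, 38, true), (6, 41, true), (7, 44, true), (6, 39, true), (7, 44, true)], 416), ([(5, 16, true), (4, 15, true), (3, 14, true), (2, 12, true), (1, 11, true), (0, 9, true), (1, 30, true), (3, 43, true), (2, 42, true), (2, 44, true)], 83), ([(5, 23, true), (4, 22, true), (3, 21, true), (2, 19, true), (1, 18, true), (4, 32, true), (3, 31, true), (6, 43, true), (7, 41, true), (6, 40, true), (5, 39, true), (6, 44, true), (5, 42, true)], 494), ([(5, 29, true), (4, 28, true), (3, 27, true), (2, 25, true), (1, 24, true), (4, 44, true)], 93), ([(5, 34, true), (4, 33, true), (3, 32, true), (2, 30, true), (3, 43, true), (4, 44, true)], 30), ([(5, 38, true), (4, 37, true), (3, 36, true)], 509), ([(5, 41, true), (4, 40, true), (3, 39, true)], 500), ([(5, 43, true), (4, 42, true)], 183), ([(5, 44, true)], 84)],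
  [([(2, 7, true), (1, 5, true), (0, 4, true), (4, 38, true), (3, 36, true), (2, 35, true), (2, 41, true), (3, 44, true), (3, 43, true), (4, 44, true)], 333), ([(2, 15, true), (1, 13, true), (0, 12, true), (3, 43, true)], 85), ([(2, 22, true), (1, 20, true), (0, 19, true), (2, 37, true), (3, 42, true)], 481), ([(2, 28, true), (1, 26, true), (0, 25, true), (3, 43, true), (4, 44, true)], 200), ([(2, 33, true), (1, 31, true), (0, 30, true)], 177), ([(2, 37, true), (1, 35, true), (1, 43, true)], 506), ([(2, 40, true)], 473), ([(2, 42, true)], 24), ([], 86)],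
  [([(4, 8, true), (3, 7, true), (2, 6, true), (1, 4, true), (0, 3, true), (3, 34, true), (2, 32, true), (4, 44, true), (3, 36, true), (4, 39, true), (4, 41, true), (5, 43, true), (6, 44, true)], 248), ([(4, 16, true), (3, 15, true), (2, 14, true), (1, 12, true), (0, 11, true), (2, 30, true), (4, 43, true), (3, 42, true), (3, 44, true)], 81), ([(4, 23, true), (3, 22, true), (2, 21, true), (1, 19, true), (0, 18, true), (3, 32, true), (2, 31, true), (5, 43, true), (6, 41, true), (5, 40, true), (4, 39, true), (5, 44, true), (4, 42, true)], 493), ([(4, 29, true), (3, 28, true), (2, 27, true), (1, 25, true), (0, 24, true), (3, 44, true)], 20), ([(4, 34, true), (3, 33, true), (2, 32, true), (1, 30, true), (2, 43, true), (3, 44, true)], 29), ([(4, 38, true), (3, 37, true), (2, 36, true)], 239), ([(4, 41, true), (3, 40, true), (2, 39, true)], 472), ([(4, 43, true), (3, 42, true)], 181), ([(4, 44, true)], 87)],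
  [([(2, 8, true), (1, 5, true), (0, 1, true), (3, 36, true), (5, 44, true)], 294), ([(2, 16, true), (1, 13, true), (0, 9, true), (1, 44, true)], 82), ([(2, 23, true), (1, 20, true)], 486), ([(2, 29, true), (1, 26, true), (3, 44, true)], 88), ([(2, 34, true), (1, 31, true)], 182), ([(2, 38, true), (1, 35, true), (1, 44, true)], 237), ([(2, 41, true)], 324), ([(2, 43, true)], 31), ([(2, 44, true)], 80)],
  [([(3, 8, true), (2, 6, true), (1, 3, true), (0, 1, true), (3, 27, true), (4, 39, true), (4, 41, true), (5, 44, true)], 402), ([(3, 16, true), (2, 14, true), (1, 11, true), (0, 9, true), (4, 44, true)], 87), ([(3, 23, true), (2, 21, true), (1, 18, true), (4, 39, true), (4, 44, true)], 5), ([(3, 29, true), (2, 27, true), (1, 24, true)], 301), ([(3, 34, true), (2, 32, true), (4, 44, true)], 27), ([(3, 38, true), (2, 36, true)], 505), ([(3, 41, true), (2, 39, true)], 325), ([(3, 43, true)], 179), ([(3, 44, true)], 81)],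
  [([(1, 8, true), (0, 5, true), (2, 44, true)], 133), ([(1, 16, true), (0, 13, true), (2, 44, true)], 80), ([(1, 23, true), (0, 20, true)], 383), ([(1, 29, true), (0, 26, true), (2, 44, true)], 16), ([(1, 34, true), (0, 31, true)], 180), ([(1, 38, true), (0, 35, true), (0, 44, true)], 511), ([(1, 41, true)], 120), ([(1, 43, true)], 28), ([(1, 44, true)], 82)],
  [([(2, 8, true), (1, 6, true), (0, 3, true), (3, 41, true), (2, 39, true), (2, 44, true)], 450), ([(2, 16, true), (1, 14, true), (0, 11, true), (5, 44, true)], 84), ([(2, 23, true), (1, 21, true), (0, 18, true), (3, 39, true), (3, 44, true)], 7), ([(2, 29, true), (1, 27, true), (0, 24, true)], 205), ([(2, 34, true), (1, 32, true), (3, 44, true)], 25), ([(2, 38, true), (1, 36, true)], 235), ([(2, 41, true), (1, 39, true)], 121), ([(2, 43, true)], 176), ([(2, 44, true)], 83)],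
  [([(3, 8, true), (2, 7, true), (1, 3, true), (0, 0, true), (2, 43, true), (3, 44, true)], 176), ([(3, 16, true), (2, 15, true), (1, 11, true)], 106), ([(3, 23, true), (2, 22, true), (1, 18, true)], 172), ([(3, 29, true), (2, 28, true), (1, 24, true), (2, 44, true)], 243), ([(3, 34, true), (2, 33, true)], 454), ([(3, 38, true), (2, 37, true)], 209), ([(3, 41, true), (2, 40, true)], 143), ([(3, 43, true), (2, 42, true)], 439), ([(3, 44, true)], 109)],
  [([(3, 7, true), (2, 6, true), (1, 5, true), (0, 0, true), (1, 41, true), (2, 43, true), (3, 44, true)], 327), ([(3, 15, true), (2, 14, true), (1, 13, true), (3, 41, true), (4, 43, true), (5, 44, true), (4, 42, true)], 110), ([(3, 22, true), (2, 21, true), (1, 20, true), (4, 43, true)], 358), ([(3, 28, true), (2, 27, true), (1, 26, true), (3, 41, true), (4, 43, true), (5, 44, true)], 445), ([(3, 33, true), (2, 32, true), (1, 31, true), (4, 43, true)], 434), ([(3, 37, true), (2, 36, true), (1, 35, true), (1, 41, true), (2, 43, true)], 51), ([(3, 40, true), (2, 39, true)], 142), ([(3, 42, true)], 451), ([], 108)],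
  [([(4, 8, true), (3, 6, true), (2, 5, true), (1, 1, true), (0, 0, true), (2, 36, true), (4, 41, true), (3, 39, true), (3, 44, true)], 315), ([(4, 16, true), (3, 14, true), (2, 13, true), (1, 9, true), (2, 41, true), (3, 43, true), (4, 44, true)], 108), ([(4, 23, true), (3, 21, true), (2, 20, true), (5, 44, true)], 294), ([(4, 29, true), (3, 27, true), (2, 26, true), (4, 41, true), (5, 44, true)], 252), ([(4, 34, true), (3, 32, true), (2, 31, true), (5, 44, true)], 432), ([(4, 38, true), (3, 36, true), (2, 35, true), (2, 41, true), (3, 44, true)], 215), ([(4, 41, true), (3, 39, true)], 59), ([(4, 43, true)], 448), ([(4, 44, true)], 110)],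
  [([(3, 8, true), (2, 3, true), (1, 1, true), (0, 0, true), (2, 27, true), (3, 39, true), (3, 44, true)], 360), ([(3, 16, true), (2, 11, true), (1, 9, true)], 104), ([(3, 23, true), (2, 18, true)], 175), ([(3, 29, true), (2, 24, true)], 35), ([(3, 34, true)], 453), ([(3, 38, true)], 53), ([(3, 41, true)], 58), ([(3, 43, true)], 436), ([(3, 44, true)], 111)],
  [([(3, 6, true), (2, 5, true), (1, 4, true), (0, 0, true), (3, 38, true), (2, 36, true), (1, 35, true), (1, 41, true), (2, 44, true), (2, 41, true), (1, 39, true)], 308), ([(3, 14, true), (2, 13, true), (1, 12, true), (4, 41, true), (5, 43, true), (6, 44, true)], 107), ([(3, 21, true), (2, 20, true), (1, 19, true), (3, 37, true), (4, 40, true)], 292), ([(3, 27, true), (2, 26, true), (1, 25, true), (4, 41, true)], 245), ([(3, 32, true), (2, 31, true), (1, 30, true)], 438), ([(3, 36, true), (2, 35, true), (2, 41, true)], 48), ([(3, 39, true)], 431), ([], 455), ([], 105)],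
  [([(2, 4, true), (1, 3, true), (0, 0, true), (2, 34, true), (1, 32, true), (3, 44, true), (2, 36, true), (3, 39, true)], 302), ([(2, 12, true), (1, 11, true), (3, 30, true)], 111), ([(2, 19, true), (1, 18, true), (4, 32, true), (3, 31, true), (6, 43, true)], 350), ([(2, 25, true), (1, 24, true)], 443), ([(2, 30, true)], 450), ([], 211), ([], 430), ([], 435), ([], 104)],
  [([(6, 8, true), (5, 7, true), (4, 6, true), (3, 5, true), (2, 4, true), (1, 1, true), (0, 0, true), (2, 32, true), (4, 38, true), (3, 36, true), (5, 41, true), (4, 39, true), (4, 44, true), (3, 35, true), (3, 44, true), (5, 44, true)], 1), ([(6, 16, true), (5, 15, true), (4, 14, true), (3, 13, true), (2, 12, true), (1, 9, true), (3, 41, true), (4, 43, true), (5, 44, true), (4, 42, true)], 105), ([(6, 23, true), (5, 22, true), (4, 21, true), (3, 20, true), (2, 19, true), (4, 37, true), (5, 40, true), (7, 43, true), (6, 42, true), (6, 44, true)], 357), ([(6, 29, true), (5, 28, true), (4, 27, true), (3, 26, true), (2, 25, true), (5, 41, true), (6, 43, true), (7, 44, true)], 36), ([(6, 34,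 true), (5, 33, true), (4, 32, true), (3, 31, true), (2, 30, true), (4, 43, true), (5, 44, true)], 437), ([(6, 38, true), (5, 37, true), (4, 36, true), (3, 35, true), (3, 41, true), (4, 43, true), (5, 44, true)], 213), ([(6, 41, true), (5, 40, true), (4, 39, true)], 131), ([(6, 43, true), (5, 42, true)], 452), ([(6, 44, true)], 107)],
  [([(4, 7, true), (3, 4, true), (2, 3, true), (1, 1, true), (0, 0, true), (2, 27, true), (3, 39, true), (3, 34, true), (4, 38, true), (5, 41, true), (6, 44, true)], 337), ([(4, 15, true), (3, 12, true), (2, 11, true), (1, 9, true), (2, 30, true)], 109), ([(4, 22, true), (3, 19, true), (2, 18, true), (5, 32, true), (4, 31, true), (7, 43, true), (8, 43, true), (7, 42, true)], 348), ([(4, 28, true), (3, 25, true), (2, 24, true)], 250), ([(4, 33, true), (3, 30, true)], 449), ([(4, 37, true)], 55), ([(4, 40, true)], 130), ([(4, 42, true)], 433), ([], 106)],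
  [([(3, 8, true), (2, 7, true), (1, 4, true), (0, 3, true), (3, 34, true), (2, 32, true), (4, 44, true), (3, 36, true), (4, 39, true), (4, 43, true), (5, 44, true)], 332), ([(3, 16, true), (2, 15, true), (1, 12, true), (0, 11, true), (2, 30, true)], 122), ([(3, 23, true), (2, 22, true), (1, 19, true), (0, 18, true), (3, 32, true), (2, 31, true), (5, 43, true), (6, 43, true), (5, 42, true), (5, 44, true)], 262), ([(3, 29, true), (2, 28, true), (1, 25, true), (0, 24, true), (2, 44, true)], 238), ([(3, 34, true), (2, 33, true), (1, 30, true)], 326), ([(3, 38, true), (2, 37, true)], 21), ([(3, 41, true), (2, 40, true)], 459), ([(3, 43, true), (2, 42, true)], 503), ([(3, 44, true)], 125)],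
  [([(3, 7, true), (2, 6, true), (1, 5, true), (0, 4, true), (4, 38, true), (3, 36, true), (2, 35, true), (2, 41, true), (3, 44, true), (3, 41, true), (2, 39, true), (2, 43, true), (3, 44, true)], 249), ([(3, 15, true), (2, 14, true), (1, 13, true), (0, 12, true), (3, 41, true), (4, 43, true), (5, 44, true), (4, 42, true)], 127), ([(3, 22, true), (2, 21, true), (1, 20, true), (0, 19, true), (2, 37, true), (3, 40, true), (5, 43, true), (4, 42, true)], 78), ([(3, 28, true), (2, 27, true), (1, 26, true), (0, 25, true), (3, 41, true), (4, 43, true), (5, 44, true)], 507), ([(3, 33, true), (2, 32, true), (1, 31, true), (0, 30, true), (2, 43, true)], 499), ([(3, 37, true), (2, 36, true), (1, 35, true), (1, 41, true), (2, 43, true)], 201), ([(3, 40, true), (2, 39, true)], 458), ([(3, 42, true)], 323), ([], 124)],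
  [([(4, 8, true), (3, 6, true), (2, 5, true), (1, 4, true), (0, 1, true), (3, 32, true), (5, 38, true), (4, 36, true), (6, 41, true), (5, 39, true), (5, 44, true), (4, 35, true), (4, 44, true)], 397), ([(4, 16, true), (3, 14, true), (2, 13, true), (1, 12, true), (0, 9, true), (2, 41, true), (3, 43, true), (4, 44, true)], 124), ([(4, 23, true), (3, 21, true), (2, 20, true), (1, 19, true), (3, 37, true), (4, 40, true), (6, 44, true)], 367), ([(4, 29, true), (3, 27, true), (2, 26, true), (1, 25, true), (4, 41, true), (5, 44, true)], 306), ([(4, 34, true), (3, 32, true), (2, 31, true), (1, 30, true), (3, 44, true)], 496), ([(4, 38, true), (3, 36, true), (2, 35, true), (2, 41, true), (3, 44, true)], 19), ([(4, 41, true), (3, 39, true)], 182), ([(4, 43, true)], 320), ([(4, 44, true)], 127)],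
  [([(3, 8, true), (2, 4, true), (1, 3, true), (0, 1, true), (3, 27, true), (4, 39, true), (4, 34, true), (5, 38, true), (6, 41, true), (7, 44, true)], 348), ([(3, 16, true), (2, 12, true), (1, 11, true), (0, 9, true), (1, 30, true)], 121), ([(3, 23, true), (2, 19, true), (1, 18, true), (4, 32, true), (3, 31, true), (6, 43, true), (7, 44, true)], 258), ([(3, 29, true), (2, 25, true), (1, 24, true)], 223), ([(3, 34, true), (2, 30, true)], 325), ([(3, 38, true)], 206), ([(3, 41, true)], 183), ([(3, 43, true)], 500), ([(3, 44, true)], 126)],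
  [([(0, 3, true)], 56), ([(0, 11, true)], 126), ([(0, 18, true)], 410), ([(0, 24, true)], 511), ([], 322), ([], 16), ([], 83), ([], 498), ([], 121)],
  [([(1, 6, true), (0, 5, true), (2, 41, true)], 438), ([(1, 14, true), (0, 13, true), (2, 41, true), (3, 43, true), (4, 44, true)], 123), ([(1, 21, true), (0, 20, true)], 362), ([(1, 27, true), (0, 26, true), (2, 41, true)], 235), ([(1, 32, true), (0, 31, true)], 502), ([(1, 36, true), (0, 35, true), (0, 41, true)], 205), ([(1, 39, true)], 82), ([], 327), ([], 120)],
  [([(2, 7, true), (1, 3, true), (0, 1, true), (3, 27, true), (4, 39, true), (4, 43, true), (5, 44, true)], 284), ([(2, 15, true), (1, 11, true), (0, 9, true)], 125), ([(2, 22, true), (1, 18, true)], 415), ([(2, 28, true), (1, 24, true)], 310), ([(2, 33, true)], 321), ([(2, 37, true)], 203), ([(2, 40, true)], 30), ([(2, 42, true)], 497), ([], 122)],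
  [([(4, 8, true), (3, 7, true), (2, 6, true), (1, 5, true), (0, 1, true), (3, 36, true), (5, 41, true), (4, 39, true), (4, 43, true), (5, 44, true)], 118), ([(4, 16, true), (3, 15, true), (2, 14, true), (1, 13, true), (0, 9, true), (1, 41, true), (2, 43, true), (3, 44, true), (2, 42, true)], 120), ([(4, 23, true), (3, 22, true), (2, 21, true), (1, 20, true), (4, 43, true), (5, 44, true)], 74), ([(4, 29, true), (3, 28, true), (2, 27, true), (1, 26, true), (3, 41, true), (4, 43, true), (5, 44, true)], 218), ([(4, 34, true), (3, 33, true), (2, 32, true), (1, 31, true), (4, 43, true), (5, 44, true)], 501), ([(4, 38, true), (3, 37, true), (2, 36, true), (1, 35, true), (1, 41, true), (2, 43, true), (3, 44, true)], 23), ([(4, 41, true), (3, 40, true), (2, 39, true)], 31), ([(4, 43, true), (3, 42, true)], 324), ([(4, 44, true)], 123)]]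

/-- Derivations closing the normal words, part 15. -/
def multClosing15 : List (List (List (ℕ × ℕ × Bool) × ℕ)) := [
  [([(3, 6, true), (2, 4, true), (1, 3, true), (0, 2, true), (2, 29, true), (3, 41, true), (4, 44, true), (3, 32, true), (5, 38, true), (4, 36, true), (6, 41, true), (5, 39, true), (5, 44, true)], 149), ([(3, 14, true), (2, 12, true), (1, 11, true), (0, 10, true), (2, 28, true), (4, 34, true), (3, 33, true), (5, 34, true), (4, 33, true), (3, 30, true), (4, 41, true), (3, 40, true), (5, 43, true), (4, 42, true), (4, 44, true)], 314), ([(3, 21, true), (2, 19, true), (1, 18, true), (0, 17, true), (2, 32, true), (1, 31, true), (4, 43, true), (5, 41, true), (4, 40, true), (3, 39, true), (4, 44, true)], 200), ([(3, 27, true), (2, 25, true), (1, 24, true)], 224), ([(3, 32, true), (2, 30, true)], 382), ([(3, 36, true)], 262), ([(3, 39, true)], 41), ([], 166), ([], 316)],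
  [([(2, 5, true), (1, 4, true), (0, 2, true), (2, 34, true), (3, 38, true), (4, 41, true), (5, 44, true), (4, 36, true), (3, 35, true), (3, 41, true), (4, 44, true)], 387), ([(2, 13, true), (1, 12, true), (0, 10, true), (2, 33, true), (3, 37, true)], 318), ([(2, 20, true), (1, 19, true), (0, 17, true), (1, 37, true)], 458), ([(2, 26, true), (1, 25, true)], 493), ([(2, 31, true), (1, 30, true)], 163), ([(2, 35, true)], 340), ([], 40), ([], 378), ([], 317)],
  [([(6, 8, true), (5, 7, true), (4, 6, true), (3, 4, true), (2, 3, true), (1, 2, true), (0, 1, true), (3, 21, true), (2, 17, true), (3, 44, true), (2, 27, true), (3, 39, true), (3, 34, true), (4, 38, true), (5, 41, true), (6, 44, true), (5, 39, true), (6, 44, true)], 55), ([(6, 16, true), (5, 15, true), (4, 14, true), (3, 12, true), (2, 11, true), (1, 10, true), (0, 9, true), (1, 28, true), (3, 34, true), (2, 33, true), (4, 34, true), (3, 33, true), (2, 30, true), (3, 41, true), (2, 40, true), (4, 43, true), (3, 42, true), (3, 44, true)], 313), ([(6, 23, true), (5, 22, true), (4, 21, true), (3, 19, true),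 (2, 18, true), (1, 17, true), (3, 32, true), (2, 31, true), (5, 43, true), (6, 41, true), (5, 40, true), (4, 39, true), (5, 44, true), (4, 42, true)], 206), ([(6, 29, true), (5, 28, true), (4, 27, true), (3, 25, true), (2, 24, true), (5, 44, true)], 1), ([(6, 34, true), (5, 33, true), (4, 32, true), (3, 30, true), (4, 43, true), (5, 44, true)], 380), ([(6, 38, true), (5, 37, true), (4, 36, true)], 337), ([(6, 41, true), (5, 40, true), (4, 39, true)], 366), ([(6, 43, true), (5, 42, true)], 165), ([(6, 44, true)], 319)],
  [([(4, 7, true), (3, 5, true), (2, 4, true), (1, 2, true), (0, 1, true), (3, 21, true), (2, 17, true), (3, 44, true), (2, 32, true), (4, 38, true), (3, 36, true), (5, 41, true), (4, 39, true), (4, 44, true), (3, 35, true), (3, 44, true)], 250), ([(4, 15, true), (3, 13, true), (2, 12, true), (1, 10, true), (0, 9, true), (1, 33, true), (2, 37, true), (4, 43, true), (3, 42, true)], 317), ([(4, 22, true), (3, 20, true), (2, 19, true), (1, 17, true), (2, 37, true), (3, 42, true)], 26), ([(4, 28, true), (3, 26, true), (2, 25, true), (5, 43, true),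 (6, 44, true)], 373), ([(4, 33, true), (3, 31, true), (2, 30, true)], 160), ([(4, 37, true), (3, 35, true), (3, 43, true)], 259), ([(4, 40, true)], 367), ([(4, 42, true)], 377), ([], 318)],
  [([(3, 8, true), (2, 7, true), (1, 5, true), (0, 2, true), (2, 38, true), (3, 44, true), (4, 44, true)], 401), ([(3, 16, true), (2, 15, true), (1, 13, true), (0, 10, true), (2, 37, true), (4, 43, true), (3, 42, true), (3, 44, true)], 315), ([(3, 23, true), (2, 22, true), (1, 20, true), (0, 17, true)], 28), ([(3, 29, true), (2, 28, true), (1, 26, true), (3, 43, true), (4, 44, true)], 228), ([(3, 34, true), (2, 33, true), (1, 31, true)], 167), ([(3, 38, true), (2, 37, true), (1, 35, true), (1, 43, true), (2, 44, true)], 343), ([(3, 41, true), (2, 40, true)], 73), ([(3, 43, true), (2, 42, true)], 383), ([(3, 44, true)], 312)],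
  [([(3, 7, true), (2, 6, true), (1, 3, true), (0, 2, true), (2, 29, true), (3, 41, true), (4, 44, true), (3, 39, true)], 281), ([(3, 15, true), (2, 14, true), (1, 11, true), (0, 10, true), (2, 28, true), (4, 34, true), (3, 33, true), (5, 41, true), (4, 40, true), (6, 43, true), (5, 42, true), (5, 44, true)], 319), ([(3, 22, true), (2, 21, true), (1, 18, true), (0, 17, true), (2, 39, true), (2, 43, true)], 94), ([(3, 28, true), (2, 27, true), (1, 24, true)], 488), ([(3, 33, true), (2, 32, true), (4, 43, true)], 379), ([(3, 37, true), (2, 36, true)], 261), ([(3, 40, true), (2, 39, true)], 72), ([(3, 42, true)], 162), ([], 313)],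
  [([(3, 8, true), (2, 5, true), (1, 2, true), (0, 1, true), (3, 21, true), (2, 17, true), (3, 44, true), (2, 36, true), (4, 44, true)], 110), ([(3, 16, true), (2, 13, true), (1, 10, true), (0, 9, true), (1, 37, true), (3, 44, true)], 312), ([(3, 23, true), (2, 20, true), (1, 17, true)], 460), ([(3, 29, true), (2, 26, true), (4, 44, true)], 5), ([(3, 34, true), (2, 31, true)], 164), ([(3, 38, true), (2, 35, true), (2, 44, true)], 257), ([(3, 41, true)], 158), ([(3, 43, true)], 381), ([(3, 44, true)], 315)],
  [([(4, 8, true), (3, 6, true), (2, 3, true), (1, 2, true), (0, 1, true), (3, 21, true), (2, 17, true), (3, 44, true), (2, 27, true), (3, 39, true), (3, 41, true), (4, 44, true)], 134), ([(4, 16, true), (3, 14, true), (2, 11, true), (1, 10, true), (0, 9, true), (1, 28, true), (3, 34, true), (2, 33, true), (4, 41, true), (3, 40, true), (5, 43, true), (4, 42, true), (4, 44, true)], 316), ([(4, 23, true), (3, 21, true), (2, 18, true), (1, 17, true), (3, 39, true), (3, 44, true)], 88), ([(4, 29, true), (3, 27, true), (2, 24, true)], 369), ([(4, 34, true), (3,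 32, true), (5, 44, true)], 376), ([(4, 38, true), (3, 36, true)], 339), ([(4, 41, true), (3, 39, true)], 159), ([(4, 43, true)], 161), ([(4, 44, true)], 314)],
  [([(3, 8, true), (2, 7, true), (1, 6, true), (0, 2, true), (2, 41, true), (3, 43, true), (4, 44, true)], 394), ([(3, 16, true), (2, 15, true), (1, 14, true), (0, 10, true), (2, 40, true), (3, 42, true), (3, 43, true), (4, 44, true)], 230), ([(3, 23, true), (2, 22, true), (1, 21, true), (0, 17, true), (1, 43, true), (2, 44, true)], 95), ([(3, 29, true), (2, 28, true), (1, 27, true), (4, 44, true)], 485), ([(3, 34, true), (2, 33, true), (1, 32, true), (3, 43, true), (4, 44, true)], 3), ([(3, 38, true), (2, 37, true), (1, 36, true)], 73), ([(3, 41, true), (2, 40, true), (1, 39, true)], 260), ([(3, 43, true), (2, 42, true)], 370), ([(3, 44, true)], 229)],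
  [([(3, 7, true), (2, 5, true), (1, 3, true), (0, 2, true), (2, 29, true), (3, 41, true), (4, 44, true), (3, 36, true), (5, 43, true), (6, 44, true)], 144), ([(3, 15, true), (2, 13, true), (1, 11, true), (0, 10, true), (2, 28, true), (4, 34, true), (3, 33, true), (5, 38, true), (4, 37, true), (6, 44, true), (5, 42, true)], 227), ([(3, 22, true), (2, 20, true), (1, 18, true), (0, 17, true), (2, 36, true), (1, 35, true), (1, 41, true), (2, 43, true)], 176), ([(3, 28, true), (2, 26, true), (1, 24, true), (2, 43, true), (3, 44, true)], 312), ([(3, 33, true), (2, 31, true)], 374), ([(3, 37, true), (2, 35, true), (2, 43, true)], 46), ([(3, 40, true)], 261), ([(3, 42, true)], 7), ([], 228)],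
  [([(4, 7, true), (3, 5, true), (2, 3, true), (1, 2, true), (0, 1, true), (3, 21, true), (2, 17, true), (3, 44, true), (2, 27, true), (3, 39, true), (3, 38, true), (4, 44, true)], 328), ([(4, 15, true), (3, 13, true), (2, 11, true), (1, 10, true), (0, 9, true), (1, 28, true), (3, 34, true), (2, 33, true), (4, 38, true), (3, 37, true), (5, 44, true), (4, 42, true)], 225), ([(4, 22, true), (3, 20, true), (2, 18, true), (1, 17, true), (3, 36, true), (2, 35, true), (2, 41, true), (3, 43, true)], 179), ([(4, 28, true), (3, 26, true), (2, 24, true), (3, 43, true), (4, 44, true)], 160), ([(4, 33, true), (3, 31, true)], 373), ([(4, 37, true), (3, 35, true), (3, 43, true)], 75), ([(4, 40, true)], 415), ([(4, 42, true)], 5), ([], 231)],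
  [([(4, 8, true), (3, 7, true), (2, 6, true), (1, 2, true), (0, 1, true), (3, 21, true), (2, 17, true), (3, 44, true), (2, 39, true), (3, 44, true)], 447), ([(4, 16, true), (3, 15, true), (2, 14, true), (1, 10, true), (0, 9, true), (1, 40, true), (2, 42, true), (2, 43, true), (3, 44, true)], 229), ([(4, 23, true), (3, 22, true), (2, 21, true), (1, 17, true), (2, 43, true), (3, 44, true)], 23), ([(4, 29, true), (3, 28, true), (2, 27, true), (5, 44, true)], 380), ([(4, 34, true), (3, 33, true), (2, 32, true), (4, 43, true), (5, 44, true)], 1), ([(4, 38, true), (3, 37, true), (2, 36, true)], 45), ([(4, 41, true), (3, 40, true), (2, 39, true)], 414), ([(4, 43, true), (3, 42, true)], 369), ([(4, 44, true)], 230)],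
  [([(3, 8, true), (2, 6, true), (1, 4, true), (0, 2, true), (2, 34, true), (3, 38, true), (4, 41, true), (5, 44, true), (4, 39, true)], 407), ([(3, 16, true), (2, 14, true), (1, 12, true), (0, 10, true), (2, 33, true), (3, 40, true), (4, 42, true), (4, 44, true)], 226), ([(3, 23, true), (2, 21, true), (1, 19, true), (0, 17, true), (1, 40, true), (3, 44, true)], 20), ([(3, 29, true), (2, 27, true), (1, 25, true)], 316), ([(3, 34, true), (2, 32, true), (1, 30, true), (2, 44, true)], 6), ([(3, 38, true), (2, 36, true)], 78), ([(3, 41, true), (2, 39, true)], 340), ([(3, 43, true)], 375), ([(3, 44, true)], 224)],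
  [([(4, 8, true), (3, 5, true), (2, 4, true), (1, 3, true), (0, 2, true), (2, 29, true), (3, 41, true), (4, 44, true), (3, 32, true), (5, 38, true), (4, 36, true), (6, 41, true), (5, 39, true), (5, 44, true), (4, 35, true), (4, 44, true)], 352), ([(4, 16, true), (3, 13, true), (2, 12, true), (1, 11, true), (0, 10, true), (2, 28, true), (4, 34, true), (3, 33, true), (5, 34, true), (4, 33, true), (3, 30, true), (4, 38, true), (3, 37, true), (5, 44, true)], 231), ([(4, 23, true), (3, 20, true), (2, 19, true), (1, 18, true), (0, 17, true), (2, 32, true), (1, 31, true), (4, 43, true), (5, 38, true), (4, 37, true), (3, 36, true), (2, 35, true), (2, 41, true), (3, 43, true), (4, 44, true)], 459), ([(4, 29, true), (3, 26, true), (2, 25, true), (1, 24, true), (3, 44, true)], 481), ([(4, 34, true), (3, 31, true), (2, 30, true)], 371), ([(4, 38, true), (3, 35, true), (3, 44, true)], 41), ([(4, 41, true)], 341), ([(4, 43, true)], 2), ([(4, 44, true)], 225)],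
  [([(5, 8, true), (4, 5, true), (3, 4, true), (2, 3, true), (1, 2, true), (0, 1, true), (3, 21, true), (2, 17, true), (3, 44, true), (2, 27, true), (3, 39, true), (3, 34, true), (4, 38, true), (5, 41, true), (6, 44, true), (5, 36, true), (4, 35, true), (4, 41, true), (5, 44, true)], 136), ([(5, 16, true), (4, 13, true), (3, 12, true), (2, 11, true), (1, 10, true), (0, 9, true), (1, 28, true), (3, 34, true), (2, 33, true), (4, 34, true), (3, 33, true), (2, 30, true), (3, 38, true), (2, 37, true), (4, 44, true)], 228), ([(5, 23, true), (4, 20, true), (3, 19, true), (2, 18, true), (1, 17, true), (3, 32, true), (2, 31, true), (5, 43, true), (6, 38, true), (5, 37, true), (4, 36, true), (3, 35, true), (3, 41, true), (4, 43, true), (5, 44, true)], 457), ([(5, 29, true), (4, 26, true), (3, 25, true), (2, 24, true), (4, 44, true)], 377), ([(5, 34, true), (4, 31, true), (3, 30, true)], 368), ([(5, 38, true), (4, 35, true), (4, 44, true)], 76), ([(5, 41, true)], 199), ([(5, 43, true)], 0), ([(5, 44, true)], 227)],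
  [([(4, 8, true), (3, 6, true), (2, 4, true), (1, 2, true), (0, 1, true), (3, 21, true), (2, 17, true), (3, 44, true), (2, 32, true), (4, 38, true), (3, 36, true), (5, 41, true), (4, 39, true), (4, 44, true)], 452), ([(4, 16, true), (3, 14, true), (2, 12, true), (1, 10, true), (0, 9, true), (1, 33, true), (2, 40, true), (3, 42, true), (3, 44, true)], 224), ([(4, 23, true), (3, 21, true), (2, 19, true), (1, 17, true), (2, 40, true), (4, 44, true)], 93), ([(4, 29, true), (3, 27, true), (2, 25, true)], 165), ([(4, 34, true), (3, 32, true), (2, 30, true), (3, 44, true)], 4), ([(4, 38, true), (3, 36, true)], 42), ([(4, 41, true), (3, 39, true)], 198), ([(4, 43, true)], 372), ([(4, 44, true)], 226)],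
  [([(2, 6, true), (1, 5, true), (0, 1, true), (3, 36, true), (5, 41, true), (4, 39, true)], 276), ([(2, 14, true), (1, 13, true), (0, 9, true), (1, 41, true), (2, 43, true), (3, 44, true)], 327), ([(2, 21, true), (1, 20, true)], 158), ([(2, 27, true), (1, 26, true), (3, 41, true)], 505), ([(2, 32, true), (1, 31, true)], 474), ([(2, 36, true), (1, 35, true), (1, 41, true)], 301), ([(2, 39, true)], 80), ([], 123), ([], 324)],
  [([(1, 3, true), (0, 1, true), (3, 27, true), (4, 39, true)], 96), ([(1, 11, true), (0, 9, true)], 322), ([(1, 18, true)], 256), ([(1, 24, true)], 237), ([], 126), ([], 88), ([], 81), ([], 478), ([], 325)],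
  [([(1, 7, true), (0, 3, true), (3, 43, true), (4, 44, true)], 426), ([(1, 15, true), (0, 11, true)], 321), ([(1, 22, true), (0, 18, true)], 261), ([(1, 28, true), (0, 24, true)], 220), ([(1, 33, true)], 125), ([(1, 37, true)], 298), ([(1, 40, true)], 29), ([(1, 42, true)], 476), ([], 326)],
  [([(3, 8, true), (2, 7, true), (1, 6, true), (0, 5, true), (2, 41, true), (3, 43, true), (4, 44, true)], 108), ([(3, 16, true), (2, 15, true), (1, 14, true), (0, 13, true), (2, 41, true), (3, 43, true), (4, 44, true), (3, 42, true)], 324), ([(3, 23, true), (2, 22, true), (1, 21, true), (0, 20, true), (3, 43, true), (4, 44, true)], 47), ([(3, 29, true), (2, 28, true), (1, 27, true), (0, 26, true), (2, 41, true), (3, 43, true), (4, 44, true)], 304), ([(3, 34, true), (2, 33, true), (1, 32, true), (0, 31, true), (3, 43, true), (4, 44, true)], 473), ([(3, 38, true), (2, 37, true), (1, 36, true), (0, 35, true), (0, 41, true), (1, 43, true), (2, 44, true)], 95), ([(3, 41, true), (2, 40, true), (1, 39, true)], 28), ([(3, 43, true), (2, 42, true)], 120), ([(3, 44, true)], 327)],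
  [([(4, 8, true), (3, 7, true), (2, 4, true), (1, 3, true), (0, 1, true), (3, 27, true), (4, 39, true), (4, 34, true), (5, 38, true), (6, 41, true), (7, 44, true), (8, 44, true)], 150), ([(4, 16, true), (3, 15, true), (2, 12, true), (1, 11, true), (0, 9, true), (1, 30, true)], 326), ([(4, 23, true), (3, 22, true), (2, 19, true), (1, 18, true), (4, 32, true), (3, 31, true), (6, 43, true), (7, 43, true), (6, 42, true), (6, 44, true)], 412), ([(4, 29, true), (3, 28, true), (2, 25, true), (1, 24, true), (3, 44, true)], 508), ([(4, 34, true), (3, 33, true), (2, 30, true)], 122), ([(4, 38, true), (3, 37, true)], 92), ([(4, 41, true), (3, 40, true)], 457), ([(4, 43, true), (3, 42, true)], 475), ([(4, 44, true)], 321)],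
  [([(4, 7, true), (3, 6, true), (2, 5, true), (1, 4, true), (0, 1, true), (3, 32, true), (5, 38, true), (4, 36, true), (6, 41, true), (5, 39, true), (5, 44, true), (4, 35, true), (4, 44, true)], 417), ([(4, 15, true), (3, 14, true), (2, 13, true), (1, 12, true), (0, 9, true), (2, 41, true), (3, 43, true), (4, 44, true), (3, 42, true)], 323), ([(4, 22, true), (3, 21, true), (2, 20, true), (1, 19, true), (3, 37, true), (4, 40, true), (6, 43, true), (5, 42, true)], 42), ([(4, 28, true), (3, 27, true), (2, 26, true), (1, 25, true), (4, 41, true), (5, 43, true), (6, 44, true)], 233), ([(4, 33, true), (3, 32, true), (2, 31, true), (1, 30, true), (3, 43, true)], 479), ([(4, 37, true), (3, 36, true), (2, 35, true), (2, 41, true), (3, 43, true)], 296), ([(4, 40, true), (3, 39, true)], 456), ([(4, 42, true)], 127), ([], 320)],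
  [([(3, 8, true), (2, 6, true), (1, 5, true), (0, 4, true), (4, 38, true), (3, 36, true), (2, 35, true), (2, 41, true), (3, 44, true), (3, 41, true), (2, 39, true), (2, 44, true)], 443), ([(3, 16, true), (2, 14, true), (1, 13, true), (0, 12, true), (3, 41, true), (4, 43, true), (5, 44, true)], 320), ([(3, 23, true), (2, 21, true), (1, 20, true), (0, 19, true), (2, 37, true), (3, 40, true), (5, 44, true)], 155), ([(3, 29, true), (2, 27, true), (1, 26, true), (0, 25, true), (3, 41, true), (4, 44, true)], 216), ([(3, 34, true), (2, 32, true), (1, 31, true), (0, 30, true), (2, 44, true)], 477), ([(3, 38, true), (2, 36, true), (1, 35, true), (1, 41, true), (2, 44, true)], 91), ([(3, 41, true), (2, 39, true)], 180), ([(3, 43, true)], 124), ([(3, 44, true)], 323)],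
  [([(2, 8, true), (1, 4, true), (0, 3, true), (3, 34, true), (2, 32, true), (4, 44, true), (3, 36, true), (4, 39, true), (4, 44, true)], 211), ([(2, 16, true), (1, 12, true), (0, 11, true), (2, 30, true)], 325), ([(2, 23, true), (1, 19, true), (0, 18, true), (3, 32, true), (2, 31, true), (5, 43, true), (6, 44, true)], 409), ([(2, 29, true), (1, 25, true), (0, 24, true)], 308), ([(2, 34, true), (1, 30, true)], 121), ([(2, 38, true)], 302), ([(2, 41, true)], 181), ([(2, 43, true)], 472), ([(2, 44, true)], 322)],
  [([(1, 8, true), (0, 1, true)], 418), ([(1, 16, true), (0, 9, true)], 234), ([(1, 23, true)], 338), ([(1, 29, true)], 325), ([(1, 34, true)], 223), ([(1, 38, true)], 460), ([(1, 41, true)], 301), ([(1, 43, true)], 310), ([(1, 44, true)], 237)],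
  [([(4, 8, true), (3, 6, true), (2, 5, true), (1, 3, true), (0, 1, true), (3, 27, true), (4, 39, true), (4, 38, true), (5, 44, true)], 175), ([(4, 16, true), (3, 14, true), (2, 13, true), (1, 11, true), (0, 9, true), (3, 41, true), (4, 43, true), (5, 44, true)], 239), ([(4, 23, true), (3, 21, true), (2, 20, true), (1, 18, true), (4, 36, true), (3, 35, true), (3, 41, true), (4, 41, true), (3, 39, true), (3, 44, true)], 159), ([(4, 29, true), (3, 27, true), (2, 26, true), (1, 24, true), (2, 41, true), (3, 44, true)], 496), ([(4, 34, true), (3, 32, true), (2, 31, true), (5, 44, true)], 306), ([(4, 38, true), (3, 36, true), (2, 35, true), (2, 41, true), (3, 44, true)], 81), ([(4, 41, true), (3, 39, true)], 300), ([(4, 43, true)], 218), ([(4, 44, true)], 236)],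
  [([(2, 8, true), (1, 7, true), (0, 4, true), (4, 43, true), (5, 44, true)], 434), ([(2, 16, true), (1, 15, true), (0, 12, true)], 232), ([(2, 23, true), (1, 22, true), (0, 19, true), (2, 42, true)], 340), ([(2, 29, true), (1, 28, true), (0, 25, true), (3, 44, true)], 125), ([(2, 34, true), (1, 33, true), (0, 30, true)], 220), ([(2, 38, true), (1, 37, true)], 86), ([(2, 41, true), (1, 40, true)], 201), ([(2, 43, true), (1, 42, true)], 308), ([(2, 44, true)], 238)],
  [([(4, 7, true), (3, 6, true), (2, 5, true), (1, 4, true), (0, 3, true), (3, 34, true), (2, 32, true), (4, 44, true), (3, 36, true), (4, 39, true), (4, 38, true), (3, 35, true), (3, 44, true), (3, 41, true), (4, 43, true), (5, 44, true)], 129), ([(4, 15, true), (3, 14, true), (2, 13, true), (1, 12, true), (0, 11, true), (2, 30, true), (3, 41, true), (4, 43, true), (5, 44, true), (4, 42, true)], 236), ([(4, 22, true), (3, 21, true), (2, 20, true), (1, 19, true), (0, 18, true), (3, 32, true), (2, 31, true), (5, 43, true), (6, 38, true), (5, 37, true), (4, 36, true), (3, 35, true), (3, 41, true),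 (4, 43, true), (5, 44, true), (4, 40, true), (3, 39, true), (4, 43, true), (3, 42, true)], 79), ([(4, 28, true), (3, 27, true), (2, 26, true), (1, 25, true), (0, 24, true), (2, 41, true), (3, 43, true), (4, 44, true)], 473), ([(4, 33, true), (3, 32, true), (2, 31, true), (1, 30, true), (3, 43, true)], 304), ([(4, 37, true), (3, 36, true), (2, 35, true), (2, 41, true), (3, 43, true)], 459), ([(4, 40, true), (3, 39, true)], 200), ([(4, 42, true)], 216), ([], 239)],
  [([(2, 7, true), (1, 4, true), (0, 1, true), (3, 32, true), (5, 38, true), (4, 36, true), (6, 41, true), (5, 39, true), (5, 44, true)], 405), ([(2, 15, true), (1, 12, true), (0, 9, true)], 238), ([(2, 22, true), (1, 19, true), (3, 42, true)], 413), ([(2, 28, true), (1, 25, true)], 500), ([(2, 33, true), (1, 30, true)], 219), ([(2, 37, true)], 456), ([(2, 40, true)], 93), ([(2, 42, true)], 307), ([], 232)],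
  [([(6, 8, true), (5, 7, true), (4, 6, true), (3, 5, true), (2, 4, true), (1, 3, true), (0, 1, true), (3, 27, true), (4, 39, true), (4, 34, true), (5, 38, true), (6, 41, true), (7, 44, true), (6, 36, true), (5, 35, true), (5, 41, true), (6, 44, true), (5, 39, true), (6, 44, true)], 102), ([(6, 16, true), (5, 15, true), (4, 14, true), (3, 13, true), (2, 12, true), (1, 11, true), (0, 9, true), (1, 30, true), (2, 41, true), (3, 43, true), (4, 44, true), (3, 42, true)], 235), ([(6, 23, true), (5, 22, true), (4, 21, true), (3, 20, true), (2, 19, true), (1, 18, true), (4, 32, true), (3, 31, true), (6, 43, true), (7, 38, true), (6, 37, true), (5, 36, true), (4, 35, true), (4, 41, true), (5, 43, true), (6, 44, true), (5, 40, true), (4, 39, true), (5, 43, true), (4, 42, true), (4, 44, true)], 76), ([(6, 29, true), (5, 28, true), (4, 27, true), (3, 26, true), (2, 25, true), (1, 24, true), (3, 41, true), (4, 43, true), (5, 44, true)], 320), ([(6, 34, true), (5, 33, true), (4, 32, true), (3, 31, true), (2, 30, true), (4, 43, true), (5, 44, true)], 311), ([(6, 38, true),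 (5, 37, true), (4, 36, true), (3, 35, true), (3, 41, true), (4, 43, true), (5, 44, true)], 84), ([(6, 41, true), (5, 40, true), (4, 39, true)], 92), ([(6, 43, true), (5, 42, true)], 222), ([(6, 44, true)], 233)],
  [([(2, 6, true), (1, 5, true), (0, 3, true), (3, 38, true), (2, 36, true), (4, 44, true), (3, 39, true)], 335), ([(2, 14, true), (1, 13, true), (0, 11, true), (4, 41, true), (5, 43, true), (6, 44, true)], 233), ([(2, 21, true), (1, 20, true), (0, 18, true), (3, 36, true), (2, 35, true), (2, 41, true), (3, 41, true), (2, 39, true), (2, 44, true)], 156), ([(2, 27, true), (1, 26, true), (0, 24, true), (1, 41, true)], 120), ([(2, 32, true), (1, 31, true)], 309), ([(2, 36, true), (1, 35, true), (1, 41, true)], 463), ([(2, 39, true)], 16), ([], 221), ([], 235)],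
  [([], 32), ([], 237), ([], 411), ([], 476), ([], 217), ([], 82), ([], 17), ([], 305), ([], 234)]]

/-- Derivations closing the normal words. -/
def multClosing : List (List (List (ℕ × ℕ × Bool) × ℕ)) :=
  multClosing0 ++ multClosing1 ++ multClosing2 ++ multClosing3 ++ multClosing4 ++ multClosing5 ++ multClosing6 ++ multClosing7 ++ multClosing8 ++ multClosing9 ++ multClosing10 ++ multClosing11 ++ multClosing12 ++ multClosing13 ++ multClosing14 ++ multClosing15

/-- Normal words, part 0. -/
def multWords0 : List (List ℕ) := [[1, 2, 3, 4, 5, 7, 8], [1, 2, 4, 6, 7], [2, 3, 4, 5, 7, 8], [2, 4, 6, 7], [1, 2, 6], [1, 2, 3, 5], [2, 6], [2, 3, 5], [0, 1, 2, 6], [0, 1, 2, 3, 5], [0, 1, 2, 4, 6, 7], [0, 1, 2, 3, 4, 5, 7, 8], [0, 2, 3, 5], [0, 2, 6], [0, 2, 4, 6, 7], [0, 2, 3, 4, 5, 7, 8], [3, 5], [6], [1, 3, 4, 5], [1, 4, 6], [4, 6, 7], [3, 4, 5, 7, 8], [1, 3, 5, 7, 8], [1, 6, 7], [4, 5], [3, 4, 6], [1, 4, 5], [1, 3, 4, 6], [5, 7, 8], [3, 6, 7], [1, 3, 6, 7], [1, 5, 7, 8], [0], [0, 3, 5, 6], [0, 1, 3, 5, 6, 8], [0, 1, 8], [0, 1, 3, 4, 5, 6, 7, 8], [0, 1, 4, 7], [0,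 4, 7, 8], [0, 3, 4, 5, 6, 7], [2, 4, 5, 6], [2, 3, 4], [1, 2, 4, 5, 6, 8], [1, 2, 3, 4, 8], [1, 2, 3, 7], [1, 2, 5, 6, 7, 8], [2, 3, 7, 8], [2, 5, 6, 7], [0, 4, 6, 8], [0, 3, 4, 5, 8], [0, 3, 5, 7], [0, 6, 7, 8], [0, 1, 6, 8], [0, 1, 3, 5, 8], [0, 1, 4, 6, 7, 8], [0, 1, 3, 4, 5, 7], [0, 3, 6, 8], [0, 5, 8], [0, 1, 3, 6, 8], [0, 1, 5, 8], [0, 3, 4, 6, 7, 8], [0, 4, 5, 7], [0, 1, 4, 5, 7], [0, 1, 3, 4, 6, 7, 8]]

/-- Normal words, part 1. -/
def multWords1 : List (List ℕ) := [[0, 1, 2, 4], [0, 1, 2, 3, 4, 5, 6], [0, 2, 3, 4, 5, 6, 7], [0, 2, 4, 7, 8], [0, 1, 2, 3, 5, 6, 7], [0, 1, 2, 7, 8], [0, 2], [0, 2, 3, 5, 6], [2, 3, 7], [2, 5, 6, 7, 8], [1, 2, 5, 6, 7], [1, 2, 3, 7, 8], [1, 2, 3, 4], [1, 2, 4, 5, 6], [2, 4, 5, 6, 8], [2, 3, 4, 8], [1, 5], [1, 3, 6], [5], [3, 6], [1, 3, 4, 6, 7], [1, 4, 5, 7, 8], [4, 5, 7, 8], [3, 4, 6, 7], [1, 3, 5], [1, 6], [3, 4, 5], [4, 6], [1, 3, 4, 5, 7, 8], [1, 4, 6, 7], [3, 5, 7, 8], [6, 7], [0, 1, 2, 3, 8], [0, 1, 2, 5, 6, 8], [0, 2, 4, 5, 6, 7], [0, 2, 3, 4, 7, 8], [0, 2, 5, 6], [0, 2, 3], [0, 1, 2, 3, 4, 7], [0, 1, 2, 4, 5, 6,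 7, 8], [0, 3, 4, 8], [0, 4, 5, 6, 8], [0, 1, 3, 4, 7, 8], [0, 1, 4, 5, 6, 7], [0, 5, 6, 7, 8], [0, 3, 7], [0, 1, 5, 6], [0, 1, 3], [0, 1, 2, 3, 4, 6], [0, 1, 2, 4, 5], [0, 2, 3, 4, 6, 7, 8], [0, 2, 4, 5, 7], [0, 2, 3, 6, 8], [0, 2, 5, 8], [0, 1, 2, 5, 7, 8], [0, 1, 2, 3, 6, 7], [5, 6, 8], [3, 8], [1, 3, 7, 8], [1, 5, 6, 7], [4, 5, 6, 7, 8], [3, 4, 7], [1, 3, 4], [1, 4, 5, 6]]

/-- Normal words, part 2. -/
def multWords2 : List (List ℕ) := [[0, 4, 5, 7, 8], [0, 3, 4, 6, 7], [0, 1, 3, 4, 6, 7], [0, 1, 4, 5, 7, 8], [0, 3, 6], [0, 5], [0, 1, 3, 6], [0, 1, 5], [0, 1, 3, 4, 6, 8], [0, 1, 4, 5, 8], [0, 3, 4, 6, 8], [0, 4, 5, 8], [0, 1, 5, 7], [0, 1, 3, 6, 7, 8], [0, 5, 7], [0, 3, 6, 7, 8], [0, 2, 3, 5, 6, 7], [0, 2, 7, 8], [0, 1, 2, 3, 5, 6], [0, 1, 2], [0, 2, 4], [0, 2, 3, 4, 5, 6], [0, 1, 2, 3, 4, 5, 6, 7], [0, 1, 2, 4, 7, 8], [1, 2, 4, 5, 6, 7, 8], [1, 2, 3, 4, 7], [2, 3, 4, 7, 8], [2, 4, 5, 6, 7], [2, 3], [2, 5, 6], [1, 2, 5, 6, 8], [1, 2, 3, 8], [1, 2, 5, 7], [1, 2, 3, 6, 7, 8], [2, 3, 6], [2, 5], [1, 2, 4, 5, 8], [1, 2, 3, 4, 6, 8], [2, 3, 4, 6, 7], [2, 4, 5,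 7, 8], [0, 2, 3, 4, 5, 6, 8], [0, 2, 4, 8], [0, 1, 2, 4, 7], [0, 1, 2, 3, 4, 5, 6, 7, 8], [0, 2, 3, 5, 6, 7, 8], [0, 2, 7], [0, 1, 2, 8], [0, 1, 2, 3, 5, 6, 8], [3, 6, 7, 8], [5, 7], [1, 5, 7], [1, 3, 6, 7, 8], [4, 5, 8], [3, 4, 6, 8], [1, 4, 5, 8], [1, 3, 4, 6, 8], [0, 1, 4, 6, 8], [0, 1, 3, 4, 5, 8], [0, 1, 6, 7, 8], [0, 1, 3, 5, 7], [0, 6, 8], [0, 3, 5, 8], [0, 4, 6, 7, 8], [0, 3, 4, 5, 7]]

/-- Normal words, part 3. -/
def multWords3 : List (List ℕ) := [[2, 3, 5, 6, 8], [2, 8], [2, 4, 7], [2, 3, 4, 5, 6, 7, 8], [1, 2, 3, 5, 6, 7, 8], [1, 2, 7], [1, 2, 4, 8], [1, 2, 3, 4, 5, 6, 8], [3, 4, 5, 7], [4, 6, 7, 8], [1, 6, 7, 8], [1, 3, 5, 7], [3, 5, 8], [6, 8], [1, 3, 4, 5, 8], [1, 4, 6, 8], [0, 6, 7], [0, 3, 5, 7, 8], [0, 4, 6], [0, 3, 4, 5], [0, 1, 3, 4, 5, 7, 8], [0, 1, 4, 6, 7], [0, 1, 3, 5], [0, 1, 6], [3, 4, 5, 6], [4], [1, 3, 5, 6, 7, 8], [1, 7], [7, 8], [3, 5, 6, 7], [1, 3, 4, 5, 6, 8], [1, 4, 8], [2, 4, 6], [2, 3, 4, 5], [1, 2, 4, 6], [1, 2, 3, 4, 5], [2, 3, 5, 7, 8], [2, 6, 7], [1, 2, 6, 7], [1, 2, 3, 5, 7, 8], [1, 4, 7, 8], [1, 3, 4, 5, 6, 7], [8],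 [3, 5, 6, 8], [1, 3, 5, 6], [1], [4, 7], [3, 4, 5, 6, 7, 8], [0, 1, 7, 8], [0, 1, 3, 5, 6, 7], [0, 3, 5, 6, 7, 8], [0, 7], [0, 4, 8], [0, 3, 4, 5, 6, 8], [0, 1, 3, 4, 5, 6], [0, 1, 4], [0, 3, 4, 5, 6, 7, 8], [0, 4, 7], [0, 1, 4, 7, 8], [0, 1, 3, 4, 5, 6, 7], [0, 1, 3, 5, 6], [0, 1], [0, 3, 5, 6, 8], [0, 8]]

/-- Normal words, part 4. -/
def multWords4 : List (List ℕ) := [[1, 2, 3, 5, 6], [1, 2], [1, 2, 3, 4, 5, 6, 7], [1, 2, 4, 7, 8], [2, 7, 8], [2, 3, 5, 6, 7], [2, 3, 4, 5, 6], [2, 4], [0, 1, 2, 3, 6, 7, 8], [0, 1, 2, 5, 7], [0, 2, 5], [0, 2, 3, 6], [0, 2, 3, 4, 6, 7], [0, 2, 4, 5, 7, 8], [0, 1, 2, 3, 4, 6, 8], [0, 1, 2, 4, 5, 8], [0, 2, 4, 5], [0, 2, 3, 4, 6], [0, 1, 2, 3, 4, 6, 7, 8], [0, 1, 2, 4, 5, 7], [0, 1, 2, 5, 8], [0, 1, 2, 3, 6, 8], [0, 2, 3, 6, 7], [0, 2, 5, 7, 8], [0, 2, 5, 6, 7], [0, 2, 3, 7, 8], [0, 1, 2, 4, 5, 6, 8], [0, 1, 2, 3, 4, 8], [0, 1, 2, 3, 7], [0, 1, 2, 5, 6, 7, 8], [0, 2, 3, 4], [0, 2, 4, 5, 6], [0, 1, 2, 4, 5, 6, 7], [0, 1, 2, 3, 4, 7, 8], [0, 2, 3, 8], [0, 2, 5, 6, 8], [0, 2, 4, 5, 6, 7, 8], [0, 2, 3, 4, 7], [0, 1, 2, 5, 6], [0,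 1, 2, 3], [1, 4, 6, 7, 8], [1, 3, 4, 5, 7], [3, 5, 7], [6, 7, 8], [1, 3, 5, 8], [1, 6, 8], [3, 4, 5, 8], [4, 6, 8], [3, 5, 6, 7, 8], [7], [1, 3, 4, 5, 6], [1, 4], [4, 8], [3, 4, 5, 6, 8], [1, 7, 8], [1, 3, 5, 6, 7], [2, 5, 7], [2, 3, 6, 7, 8], [1, 2, 3, 6], [1, 2, 5], [2, 3, 4, 6, 8], [2, 4, 5, 8], [1, 2, 4, 5, 7, 8], [1, 2, 3, 4, 6, 7]]

/-- Normal words, part 5. -/
def multWords5 : List (List ℕ) := [[1, 4, 5, 6, 7, 8], [1, 3, 4, 7], [3, 4], [4, 5, 6], [1, 5, 6, 8], [1, 3, 8], [3, 7, 8], [5, 6, 7], [0, 1, 3, 5, 7, 8], [0, 1, 6, 7], [0, 1, 4, 6], [0, 1, 3, 4, 5], [0, 3, 4, 5, 7, 8], [0, 4, 6, 7], [0, 6], [0, 3, 5], [1, 2, 4, 7], [1, 2, 3, 4, 5, 6, 7, 8], [1, 2, 8], [1, 2, 3, 5, 6, 8], [2, 4, 8], [2, 3, 4, 5, 6, 8], [2, 3, 5, 6, 7, 8], [2, 7], [0, 1, 2, 7], [0, 1, 2, 3, 5, 6, 7, 8], [0, 2, 8], [0, 2, 3, 5, 6, 8], [0, 1, 2, 3, 4, 5, 6, 8], [0, 1, 2, 4, 8], [0, 2, 3, 4, 5, 6, 7, 8], [0, 2, 4, 7], [0, 2, 3, 4, 8], [0, 2, 4, 5, 6, 8], [0, 1, 2, 5, 6, 7], [0, 1, 2, 3, 7, 8], [0, 1, 2, 3, 4], [0, 1, 2, 4, 5, 6], [0, 2, 5, 6, 7, 8], [0, 2, 3, 7], [1, 2, 3], [1, 2,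 5, 6], [2, 5, 6, 8], [2, 3, 8], [2, 4, 5, 6, 7, 8], [2, 3, 4, 7], [1, 2, 3, 4, 7, 8], [1, 2, 4, 5, 6, 7], [1, 2, 3, 5, 8], [1, 2, 6, 8], [2, 6, 8], [2, 3, 5, 8], [1, 2, 4, 6, 7, 8], [1, 2, 3, 4, 5, 7], [2, 3, 4, 5, 7], [2, 4, 6, 7, 8], [1, 2, 3, 4, 6], [1, 2, 4, 5], [2, 4, 5, 7], [2, 3, 4, 6, 7, 8], [1, 2, 3, 6, 7], [1, 2, 5, 7, 8], [2, 3, 6, 8], [2, 5, 8]]

/-- Normal words, part 6. -/
def multWords6 : List (List ℕ) := [[0, 2, 6, 7], [0, 2, 3, 5, 7, 8], [0, 2, 3, 4, 5], [0, 2, 4, 6], [0, 1, 2, 6, 7], [0, 1, 2, 3, 5, 7, 8], [0, 1, 2, 4, 6], [0, 1, 2, 3, 4, 5], [0, 2, 4, 6, 8], [0, 2, 3, 4, 5, 8], [0, 2, 6, 7, 8], [0, 2, 3, 5, 7], [0, 1, 2, 3, 4, 5, 8], [0, 1, 2, 4, 6, 8], [0, 1, 2, 6, 7, 8], [0, 1, 2, 3, 5, 7], [0, 2, 3, 6, 7, 8], [0, 2, 5, 7], [0, 1, 2, 3, 6], [0, 1, 2, 5], [0, 1, 2, 3, 4, 6, 7], [0, 1, 2, 4, 5, 7, 8], [0, 2, 3, 4, 6, 8], [0, 2, 4, 5, 8], [2, 4, 7, 8], [2, 3, 4, 5, 6, 7], [2, 3, 5, 6], [2], [1, 2, 3, 4, 5, 6], [1, 2, 4], [1, 2, 7, 8], [1, 2, 3, 5, 6, 7], [0, 1, 2, 3, 4, 5, 7], [0, 1, 2, 4, 6, 7, 8], [0, 1, 2, 6, 8], [0, 1, 2, 3, 5, 8], [0,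 2, 4, 6, 7, 8], [0, 2, 3, 4, 5, 7], [0, 2, 6, 8], [0, 2, 3, 5, 8], [0, 1, 3, 6, 7], [0, 1, 5, 7, 8], [0, 3, 6, 7], [0, 5, 7, 8], [0, 1, 4, 5], [0, 1, 3, 4, 6], [0, 3, 4, 6], [0, 4, 5], [0, 1, 4, 5, 6], [0, 1, 3, 4], [0, 4, 5, 6, 7, 8], [0, 3, 4, 7], [0, 1, 3, 7, 8], [0, 1, 5, 6, 7], [0, 5, 6, 8], [0, 3, 8], [0, 1, 3, 4, 5, 6, 8], [0, 1, 4, 8], [0, 3, 4, 5, 6], [0, 4], [0, 7, 8], [0, 3, 5, 6, 7], [0, 1, 3, 5, 6, 7, 8], [0, 1, 7]]

/-- Normal words, part 7. -/
def multWords7 : List (List ℕ) := [[0, 1, 5, 6, 7, 8], [0, 1, 3, 7], [0, 3], [0, 5, 6], [0, 1, 4, 5, 6, 8], [0, 1, 3, 4, 8], [0, 3, 4, 7, 8], [0, 4, 5, 6, 7], [1, 4, 5, 7], [1, 3, 4, 6, 7, 8], [4, 5, 7], [3, 4, 6, 7, 8], [1, 5, 8], [1, 3, 6, 8], [5, 8], [3, 6, 8], [0, 3, 7, 8], [0, 5, 6, 7], [0, 1, 5, 6, 8], [0, 1, 3, 8], [0, 4, 5, 6], [0, 3, 4], [0, 1, 4, 5, 6, 7, 8], [0, 1, 3, 4, 7], [3, 4, 7, 8], [4, 5, 6, 7], [1, 4, 5, 6, 8], [1, 3, 4, 8], [3], [5, 6], [1, 3, 7], [1, 5, 6, 7, 8], [2, 3, 4, 6], [2, 4, 5], [1, 2, 3, 4, 6, 7, 8], [1, 2, 4, 5, 7], [2, 5, 7, 8], [2, 3, 6, 7], [1, 2, 5, 8], [1, 2, 3, 6, 8],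 [2, 6, 7, 8], [2, 3, 5, 7], [1, 2, 3, 5, 7], [1, 2, 6, 7, 8], [2, 4, 6, 8], [2, 3, 4, 5, 8], [1, 2, 3, 4, 5, 8], [1, 2, 4, 6, 8], [1, 5, 6], [1, 3], [3, 7], [5, 6, 7, 8], [1, 3, 4, 7, 8], [1, 4, 5, 6, 7], [4, 5, 6, 8], [3, 4, 8], [1, 8], [1, 3, 5, 6, 8], [4, 7, 8], [3, 4, 5, 6, 7], [1, 4, 7], [1, 3, 4, 5, 6, 7, 8], [3, 5, 6], []]

/-- The certificate. -/
def multCert : Ext.SplitCert where
  pres := multPres
  sylRules := 45
  sylGens := 9
  eqs := multEqs
  masks := [18141944086596, 17592186044672, 20340965114176, 927712936288, 23639510631424, 20890735673472, 32184478810128, 23575091830784, 68720591104, 9895619330432, 3298547531776, 2199031644160, 17592194433024, 69266833504, 3728043147392, 274886295552, 8796101410816, 20341636202496, 2289955766272, 344134254848, 2199023255552, 9896141521152, 676457349120, 2284922601472, 343597383936, 4398046543872, 1073745920, 4398050705408, 19136495771648, 8589967360, 1107296256, 2684420096, 9034687055921600, 20340965245249, 11263098892320816, 3412128849723448, 4503600298983752, 20342726721536, 4194624, 2882337493701492884,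 3963174195783678962, 15117211140608, 864696647423138854, 1152946039607653376, 17901423829504, 2305873804145467392, 18446744091426361344, 295147905471410671616, 442721866864159369216, 17891323805696, 37383397441540, 35184372088832]
  adj := [[0], [0], [14], [0], [2048], [24], [12], [1024], [4]]
  sel := [[3377708311517187], [0], [0], [0], [0], [3377974618404384], [274898357794], [3377699720535072], [1054722], [565427661953796], [0], [0], [563228123798532], [582744969045293], [275031588881], [187176480], [68130], [3377699721582599], [583017716032971], [583017713506710], [17924898], [3377699721576448], [19404320], [1050624], [563365495512068], [563226982947844], [3377976771060748], [274880140836], [3377702734241154], [17301504], [563228056689668], [2164853282], [3377701881754152], [724047392], [26251266], [3377974600578606], [16814082], [27844354], [1083392], [274897309220], [19468290], [1048576], [153622048], [1116160], [1054720]]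
  words := multWords0 ++ multWords1 ++ multWords2 ++ multWords3 ++ multWords4 ++ multWords5 ++ multWords6 ++ multWords7
  closing := multClosing

/-- Generators of a Sylow subgroup of order 9 and an involution normalising it. -/
def threeData : List ℕ := [0x54c2a170b5142295b560022544d502553471f121a075a344b24373b4319450d52151d484e633d234026110a270f46622032361c603804412b100333490257180c0659285e4f2c141b1e354a2f445d305f550961310e163c132e39083f583e015c3a2d21, 0x4a2a4d512f5f3e035b6225062c4c31412b3b0b364f1634100e42353a4011450a486321020d183d232643494e463339615032281c5e3f2d001b5a5c5519521d150c585412131e5914531a095d1f380530170f375620082e3c6007274b4422240429470157, 0x505a61463949313c456259302c4c3e41533b37634f3834564b335e4340605b44483654472e55325c523a5f4e51422f4d4a3d5d58353f2d571b2a23181f261d20291c2124271e25222b1a172819160f0609050b1015080d031107130e0a1412040c020100]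

/-- The elements of that subgroup. -/
def threeSteps : List (ℕ × ℕ × ℕ) := [
  (0x3e34102f131f15035b4d2106255a125753435e551e3f56624b18274052354516475d2c3b07053d0c4802092e4931194c28320f14170a011d2b615c20373a544a3c580033511a41301b4f4624600d421c0b50392a360e44235f3811084e22632d29260459, 0, 0),
  (0x24105a1f600b635c5b4c57584134361d2b40130f1a4462610e1546264809452e3b05593a164a3d0c025237071920112a12323314514e04211b56295035472c5d3c2225555f4f0030531e39425e0a3e1c2f31274d28083823173f494b0d06180103432d54, 1, 2),
  (0x425a340b5e2f18295b2a1d22001028211b2660334f38615608633943023745073a4a54472e5d3d0c524835161150494d363255145f0d2d5753620331093b59053c06410f171e25302b1a273e134e241c1f20464c124b3f235144190e0a5815045c40012c, 3, 3),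
  (0x636261605f5e5d5c5b5a595857565554535251504f4e4d4c4b4a494847464544434241403f3e3d3c3b3a393837363534333231302f2e2d2c2b2a292827262524232221201f1e1d1c1b1a191817161514131211100f0e0d0c0b0a09080706050403020100, 2, 3),
  (0x1861565e171305295b3454221d620f2c2b485f311e0d4c2a0e5d19023b394538403e002644243d3c3a47273f35280910553220301f0701591b4d031246434142230657500b1a211c534f1115512e63146036495a33080a0c2f4e374b16584a2d5c520425, 3, 5),
  (0x1556621351604a035b102c06216133591b0217201a0a2a4d080511523a27453f2624254338423d3c473b46440912375a0f3250300b160454534c5c363940003e23581d312f4f571c2b1e49635f0718145e281934554b4e0c1f0d350e2e225d0129482d41, 3, 6),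
  (0x5d4d4c5f1f17245c5b614158592a20001b3a2f281e2e105a083e09472649454e021857520a153d234340190d395527563132121c134401255334290f114821630c222c36601a54142b4f37050b3f4a3051333562504b073c5e16460e3806422d033b041d, 1, 7)]

/-- Generators of a Sylow subgroup of order 125 and an involution normalising it. -/
def fiveData : List ℕ := [0x23452618634e0b1c2a28103e394a610e4f0642505f2d2c364d0d49111455091a1b5d1e585a1d0c1512135c520331163a3f33415b2f0a4302403b51325919541f53483562344c2b005e25463d2108223824303c2e2044370129270f170747054b56046057, 0x63362b1122605e6162333239000446264e505f4a3d3c352e162c3748073a3b0e51422a443034290b5b2524050245474041204c10560f4f211d1e1559121a1f135d0c5209555a19581b575c5314382d491c3f23270a3e4b4318312806032f0d084d170154, 0x6345190c2343515c3b3359580006461a4f4a5d50532d3531165249480355620e5e421e3e3f4018155b1f1c0d14364d345a284c122f0a4e211d2a0b32102625135f112c093a412b391b54613d024b3c37243022270f443860292e20040756050847170157]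

/-- The elements of that subgroup. -/
def fiveSteps : List (ℕ × ℕ × ℕ) := [
  (0x5309193d232d29003b322e1d5c0d26445f475d50634302312c37493c38610f255e0b4c3e282b012230241c06564108135a3f1e2a2f271b045812423310460e344f1116453a3640574e54550c351748521f5b150a621a0360515920210714054d4a4b1839, 0, 0),
  (0x2331403c48184e26453f335c574b55192d50630d0c15160a0802031107131244425d3b1a5b3a51292a541f05040914581e62362e4a205f352b4c2210302534240b01060f6128463e5e391c4f38524349005a5359271d4d1b3d413247562f37172c21600e, 1, 2),
  (0x5d3b1a53633c18581e592734242c2b3e3d2f424a224f2145354b3723494628571b5e5a393319432d3f1c61504d4c382530412a6256315117445b5f20325c26554e484736402e1d54601f3a2952060c0513100b0f090e020115120a1403070d1604081100, 3, 2),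
  (0x63451d230c11602b3641202454083a1a3c4a222c290b470f3821024803255b3e5f421e0e10401518621f130d173b07442a092e27040a3d52195a2d323f57551c5e43502846335c391b00614e49054f3758305d1231341651534c592f4d564b0635140126, 4, 4),
  (0x4f0f460c5343515712330a2b1c37191a63140b50231b044102034915522620544e29361d324060485b1f00474a1e1724285a4c3b2f595e4b3e305d3f2e55443a5f3c0809133158392d0e610116211106342a222745255618421062350738052c0d4d3d5c, 3, 4),
  (0x53415815113d2d19095a3f1c394d614643502337012208271704563c0724301a5d0b12252a1342513b0e34054b0f383e4c45310a0d6263164036482e5b543a1f296047202632551d4e5c005f52061b4957284f10592b2c5e0c1e33144a2f032102351844, 4, 6),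
  (0xb12254f23153d3e4c10593a1f02401d0c2f5d0d485f3509164d0353495532395e4e285c3f461b435a0026502c3652545b1e3b454a4142211a2a6362331c19612d111431580a2b0e1834135106470105242e29200f44046022302738560737084b173c57, 4, 6),
  (0x23092b53013c1840311e621f0e171325150d4802512914205235041156542a1d635d4c442e58223d453424372112071a3b0f0a594b270c06462843335a3961004e1b5032553f1c5c5e57262d49055f033e5b0b30413a08424f36102f2c4a4d4716386019, 5, 8),
  (0x4e285c295d4f15545b200f19614b1a0e22075e4a6351174c2102370b052b0a1f60182e34591d010c1013582f042a061c33305a1e56121b08393f4241273a3e403d23383b254544003c2646434714485055622d3136574d115f32095203490d352c165324, 5, 8),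
  (0x5d4c440b48533c1a3b3041610016465c4f4a634b432d383106174d23031c3f0e425e5b5762255f151e26550d082849395a36450f2c0922471d2e0c27101f401318012f0a2b593a346024583d0550513754334e321219351b292a2007045602142152113e, 6, 10),
  (0x5e5b574e630b53395a32124013211d342956422c0c3d523b4716025d373a59001b603324415c514f30582b4a352e051f102a1e36044c5f140e62220920611a463c480745440f192611552515502f430d1c27180a283e17012d3f31494d034b3808062354, 6, 10),
  (0x633b195d4323111d452a0913260625570b2c0c211518070a055217484d1f623422425a3e27442d5336551c4b145b030e1e280f12083129505c334f203000465860514a593a4161241b542b3c370d3d0239105e3f4c40385f4e2e32563504162f4749011a, 7, 12),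
  (0x5f2055014f1b4239303f27400003462523382950535e4b1e045649220619620e2d51312b335818112a3457140d4c211f322836122f104e4d1d5b0b5a0a611a136315170f24413e5c4344266008353c473a3b485909544a3d5d2e451607520502372c0c1c, 7, 12),
  (0x4f1e3e223c0c43460f285a005c2c26551b50530360481759214b4a15071f5b250b2930543b245d4212443a054d20521d36094127374523085831110a2a0e1334511814621933612b2d1c576306475e4939325f2e1040024e014c3f380d2f563504163d1a, 8, 14),
  (0x2930545f53220c1d362e10133404582b012f0b371163160f082c564f4961335c4e2d321c5a555e1b285719500231060e2a4c12090d1e5d35253b23453f004626433c38413e2740443d3a2442471460051f0a5162201a4b18485b59524a0703174d211539, 8, 14),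
  (0x530f404f60153d58414c453444212454223711044251386206164b3c4a0e3b2b230b361a0a3e480c093a1f0335300725122027104d59014755321b3f285c26572d5e5033615a001c4e391943490563561d2a295b1e13175d5f312e2f020d2c1408521846, 9, 16),
  (0x2d321c510b5f220e2a622046264d254448074e0d234221363504032905402734183d0a3a102b60012e243e2f4b3b47003f5b284c4a305e175c5a5d1e59131d580c53521254091a571519551b143811506145434131392c3c63330f065649371602084f1f, 9, 16),
  (0xb361a29114f1525125b1e265708551c5f0d234d1b43524147212c5356005a445d4e2a39455463224c1961371732495c28310920020f48142b0a01592e3458243d602f274010133a181f3e0c055042030e3f2d333046165e513b62074b4a043835063c1d, 10, 18),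
  (0x4e2a392d23294f5c2833305824352b3a514a5d02010c06121408040b031310575e183f1f1e1c425f5b3e400d160a05342e3b4c314b3663384445480f62262555151107091a2046193c615422502f1b3700593d27321d2160435a41492c564d521747530e, 10, 18),
  (0x2312460b1b533c2b093b0f241947543929020135223d0727050621112c34453a485d281d591a434f3161004d382a56444c322030174151501c3f5f625b57553e18420d10131e261f5e0e401503370c045c2e4e5a365852632d0a334a164b082f14496025, 11, 20),
  (0x3d0a3a434e515f003f41311d58025c576349184a5d1b082a174d372d501a09263c15451920441148625554072c5a141359332e5b5632601634105e300f460e25220b06281c4c39244f3e2b013852232f401e0c123b1f04534227364703050d214b352961, 11, 20),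
  (0x183f1f3d5d2d29342e2732255517441943565e4b4822472838354d4e37462024603c5961303a1b5133541a4a21455026625a5b3b2c2a4252571e633641585c2b4f23494c39311d3e53401c5f2f07010d130f15090a0e08110c1012050403020616140b00, 11, 21),
  (0x5d281d4e010b53444c5a36553e141c1f2d4b48175f1549095047082304261e19635e2e0e0f390c293b401302523f03575b0a31321612432f3a59514133242b543c1b4a204630586160001a4f370d224d346218102a2506423d452756212c35073805115c, 12, 23),
  (0x3c5961155e3d2d2662090a5c2b16573e0c03602c635f142e521702180d1d315511530f4032190143271c3956081e2f584110335a043f1b062430422a12253444295d055b1f3b0e540b1a3a510749484a46364f4c45003523222028504d374b4721384e13, 12, 23),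
  (0x5e2e0e18484e0b575b102a2b54383a613d2c6316514f054c2f14355d4d58303e42606200361f222d5a1a464b0659372433453b0a21280c07190f43122755441c530156311d322540111339290d4a5f0226413c203f5c471b151e09030804174952502334, 13, 25),
  (0x6062003c63184e2433203f441c521940150442214329505b0738175e022532541b1141132a615f3d10391d2c470f0d55271e5a45082e22493e360c28092b573a0b48033b0e0a5c1a23461f2d4a56514b58125331593414014f304c37354d1605062f5d26, 13, 25),
  (0x635b5c5e515d23193b1e281c1a2f1f00182143522d5303310d501448355536400c423334120e4f4e4546581649624d3e5a590a3f064c154a61413d0910543a39115f2c32252a2b131b261d0b024b2917242760302e4405223c0f20044708385607370157, 14, 27),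
  (0x636261605f5e5d5c5b5a595857565554535251504f4e4d4c4b4a494847464544434241403f3e3d3c3b3a393837363534333231302f2e2d2c2b2a292827262524232221201f1e1d1c1b1a191817161514131211100f0e0d0c0b0a09080706050403020100, 14, 27),
  (0x5f4c1d4815011b55203228571c0219615e504f5618112110354d0d2207342a5429515b0e121f0b5d301a13052c62062b310f1e59030953173e413c273b44243a423d3845463f26404300392347144e495c33630a2e58042d60365a52372f4a164b080c25, 15, 29),
  (0x515b0e634f48012b310a2e243a4b3e40602f29033c23082017024a5f49263f1c2d43330028614e5e32394650044147443b36300f374c0b16541253095a5755191b15521e1d59581a0c131f5d143818053427424562254d3d112a10060d0756212c35225c, 15, 29),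
  (0x4f20585f18220c3e1e36093a1a351f0e48033c4b5d42524547084d150d44124053293125271d11010f133456165b07543062592e2c10601461335e5a321c1939434e503f262857002d5c461b4905234a2b3b512a4c24210b63410a2f0437023817063d55, 16, 31),
  (0x43330042296348443b456255192c541a11072d37535d3531164b56510558593a3d0c27132e4018600a1f1d2f4d1214575a2a32360d5b4e211c280b4c10242b3e014f06300e0f25392246615e38523c5026091b1e415c0215233f20474a49030804175f34, 16, 31),
  (0x293125513c5f2254302a4c19391761006337532c5e1b061e1435024f4a57281a0b2d3b5c090e2348364626032133491c32410f6204201138402760100a3a3e1f0c182f59582e24133d341d0105505d56445a433f5b55084e421245074d0d4b521647152b, 17, 33),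
  (0x2d3b5c4353515f1c323f5b3e1f164013420d0b046001473038174b2956242e394e3d5a344c005d632a1d58370827053a0a1236414d3123521a09112045195461223c070f2562554615260e48502f5e0357100c59332b35181b281e49024a2c0621144f44, 17, 33),
  (0x533055295e4f15400f12201f46140e5c51046016480c07590547353c023a0913110b322b10251b5f4126572c523b4a1a3633625b211e4250005a63452a39611d3d5d372e244c19344e4458225603014b1c0a2d28313e062343273f0d084d172f38491854, 18, 35),
  (0xc27131b2d4263575a1e412b3e041c3923493d0d0b5e173b212c034350250f1915220946621a3c1145610e0702283824103f0a2a4a3318083a2e4e5b205544544829473200365c1f5f1d40605206532f584c013012344b4f5d593114560537354d165126, 18, 35),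
  (0x3d5a340c0b43513a0a59335461211a461b4a4e4d1148143252162c2d0355621f181510265b135e423f0e250d3509501945282a12023b5d06394c23311e3e1c405f5349365c412b1d4f5800632f0760372420220f2744173c012e30054b56044708382957, 18, 36),
  (0xb322b2d60294f1a362831611d380034434d11216322490f501417534b194c46234e0a44205c015112582404065a56392a27413308301b2f1310421e3f1f400e155e0d62555b3e261857255f0337482c3a453d2e3b54475d0c09594a3502160752053c1c, 19, 38),
  (0x151026224e0c4319450f271c4008391d015618022363380a0621043d372b41613c4f20583346601b59005c4a174c2f3e1e2e3f284b5a5e471f5b5d3b30543a1a510b052a3412440e292513420749110d55315f3609571653486232502c034d1435522d24, 19, 38),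
  (0x4e0a443d112d29392a2e3b400e5213260c022308425f05362f38160b2c3e5b1d5d184557313448432825554d4710031f3f0912273532010746201b3059611a004f604a412b3354583c245c51370d6304191e15625a1c145e224c0f56174b21490650533a, 20, 40),
  (0x18455715233d2d1f3f625a1a00064658224b5d351b51502a0752214e0454330e5e3c1e243b26630c2e5c2b0214203761594c2809170a48491d3101320f4039132911561244271c25535534430d4a424d3e304f41103a38605f5b3603162c0805472f0b19, 20, 40),
  (0x232a1c4e420b5346124c3200252f34573d351b06434f56413750381116613158015d3f3a30445f2d09553e0849452c1d2810275a4736220d261e0c0f2e0e135c3c630233543b40245e192b29044d51211f59185b0a1a05481520624b1417524a07036039, 21, 42),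
  (0x220946013d1b422410301244544d3a1f5d05154a4e60165a0804370c2f5c363e4f5f4c1d413953231e4000494b2e52552059453f56273c3519621833312b571c632d140a132a3461510e1a1106470b07255b483228262c295e0f3b3803500d1702214358, 21, 42),
  (0x3c1e244f5d153d615941103913471d255f2c5e1701432f3f490608184d1c2700605330555a5842226234444b38310d400f5b2e4c164563050e3b480a361a1f462d23032857093a5c0b2b260c4a561b02543229122019521151332a372104355014074e3e, 20, 43),
  (0x5d3f3a181b4e0b1d285b0a135c072624151701470c2903120d2f522321403b25485e59193257513d4c2b5435051e040e2e200910142a5f4a583022366200463453424b271c5a1a55603e442d4d024308610f3c33453950634f31412c381606564937111f, 21, 45),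
  (0x5e59193c01184e0e2e334546344958554f164814222d37284a07065d081a5a5c63600f3e0a2443155b441c1750304d0062314c20383f515625325f2a41131d260b1b2c093a10392b1154573d024b0c35403653271e1f2f42293b120452214703050d2361, 20, 46),
  (0x600f3e53483c180062271e1d2605252b292163385f3d0d2e5649475e353910344211365445550c4f33573a162f320213413b5b31525943035c0a513f12460e584e01044c19201f44231c24154b2c22171a2a0b093061071b2d5a284d06081437504a5d40, 20, 47),
  (0x1136540b63533c134109300e58505c442d08425251154a6203051460171f20261b232a1c1e2b222927241921070a4b46125a333b060f0c3734454359281d002518484d5b3e3161575d3a554f2c045f16393f4e4c324049013d102e024735380d2f565e1a, 20, 47),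
  (0x422a44235f11604041270a1f134d1d58182f51561553176221040d6349195a00431b3f5732262d4e335c55504b1e141a12315b20033629080e304f0f283961465e22064c2b103e250124340b38523d053a595d0945542c0c3c3b2e4737074a350216481c, 19, 48),
  (0x5f623e633d48011d4c310f13251634441156154d0b5d060914172c22371a30584f514154592b3c6020243a4a082a070e5b45100a022e1838263f4e283300465c1b2d505a19323957431c555e4905530d4012423b361f3529231e272f4b03045221470c61, 20, 50),
  (0x1b3f575d5123111a1209456146020e253c0743034f0b1641084d4a42053e10130c0159240a583d1827342b2f2c303839283b3331372a2d35003229362e1f401d605f475b4420545c4855264e52061550190f5e4c1e1c0422535a62140d4956174b21633a, 20, 50),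
  (0x514154421563480e5b3b36465c21265723034f024e5e474c3816045f0d3932252943121c0f44531131551956353f4900331e20454b623c525859182e27131d34013d2f103e0a1f240c3a2b6005500b4a1a281b5a2a61172d5d3009072c374d0608142240, 21, 52),
  (0x43121c1b4f426300335a2a1d340858245d37294b1860145b52214d514a1f0a5c2d0c283a36570b233b2b3e03175905132730311e2c415306250f3c6209460e26481507205445615522194411502f4e56392e01103f40163d5e324c49040d024735385f1a, 21, 52),
  (0x4f5b61514e5f2258203062345538441c424b1808110107100514161504130f243c2933402e545e631e19390206120d25313f452a354c5d50572823093b5c262b0c0b030a1f36463a2d1a3e484a56604d00274332411d47531b595a37172c212f52493d0e, 22, 54),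
  (0x159245e435d2339284c1e401d4b005c53490c37294e21123502561b5054204622480f554525153c092644070432521f2e5a273b0d3f3d17130a2d2a62611a0e1151143357311c34632b581806474f2f3e36605b303a4d5f0b1041384a0503162c084219, 22, 54),
  (0xc283a01291b421327103f0e263525555e0d2d2c3c11383306080243566145343d222e192a244e5d5a445437160f504609323b3004120b475c3653414c1d0058634f49311c1e402b5f3e57232f0718031f624820591a2115600a5b054d4a4b1417525139, 22, 55),
  (0x2933404318515f25313241262b52573a1b2c3c35234849205038214f4d463655532d271a621c6042303e1f4b47284a5c3b591e3f175b5e2f242e5d4c5a345844224e3745612a1d193d3954635603110213090c0a120e140b010f100d1604080706051500, 23, 57),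
  (0x222e19482d011b460920590058175c2b604a3d045323522747354b0c03401e26155f623e3f55185e10571c0d21362f1d4c0a5a324d284e14342a0b125b0e13254229053b3a301a445154245d07493c37614163310f39084f1145335002562c381606431f, 23, 57),
  (0x2d271a0c3c43515c3b0a125844062419010453175d6305312f520829021d2a2b0b3d0939413a111b3254612c142e56345a0f30591633600755625e5b102625575f180d1e403f0e3e151f1c420337234b464c22452800384e4836204a214d354947504f13, 24, 59),
  (0x3d093922530c43345a4528255747553e484d0b165e42503b0706352d4b0e3f444e154c1f121923010a1c4004386203261036320f212711492b41603320585c24513c4a301a5900544f613a1b370d5d2c1d5b5f1e2e135218632a315608021705142f2946, 24, 59),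
  (0x533b002d5d294f5530363357542f3a390c165e471b5f4a1e0350523c0826413e600b5a135b1a63430f611d174909022b322e592814314837194c01200a44241c1523043f0e12581f4e4640514b2c423534103d2a272505112262454d3821060d0756185c, 25, 61),
  (0x480f55600c5e5d1f2e5b301a0e2c13340b05220d2d180828174b03012f1c311d5f63362b1e5c4f534c5857494d0a06616210095a4a59151646453d3f4140390023433827243b3a264244253c47142907542a1133321902514e2012525650372104351b3e, 25, 61),
  (0x154c1f5f0b220c26101e2e5c24142b5463024e21601b2f5a4947173d2c005957184f5b61283e5d48453a1a4d52413758202a0a3608092305441211273125345543535632390f131c294019010d4a5e040e3351306246063c423f3b03354b165038072d1d, 24, 62),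
  (0xb5a133d5e2d292b322a27241c07191f2221601401515630372f065335581254114e10463339420c36400e16054c4b440a620f2e383b630d3e5b48314557553a4f5d4d5900282561181d1a432c041b172620153f095c50235f411e025208474a49033c34, 25, 64),
  (0x4e104615603d2d440a3f09553a493e615f081138484303320d07470b1725281c2318201d271f1b222a1a0021505b2c5745413662525a424a5433633b1e242b19295e020f132e5c403c0e390c044d011658314f594c342f5d5112304b0635145605375326, 24, 65),
  (0x18201d4f11153d5745594c2b1905544051352352630c370a4a49144e165c2e3a5d3c310e0961015f3f3913082f3304241e122a4106101b561c27425a3055443e2d604b364662341a53001f224d024821253b290f5b26075e4328322c47173803500d0b58, 24, 66),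
  (0x3c310e29234f15241e0f5b443e501c1a43175d0642220d4556053818213462195e533b004c404851591f463507274d5530283f12472001033a091b10322b57543d112c2a1d4126390b13615f024b63085c5a2d36335849600c2e0a04141652372f4a4e25, 24, 66),
  (0x5d1e583c42184e3a3f2e20541f56400029471b2f513d042a024a0523382b4c39015e3025100e224f28463406373b21195927123307450c4b1a5a430a0f3e1c610b631741265b4413605c1d1508355f525532536231570d482d0936164914502c034d1124, 22, 68),
  (0x5e3025531b3c18195962311c61031a132d14010743154d3f4b56505d52445b1f4860325c20005f292e1d26470d5a083e0f092827491e222c39100c4536543a404e4216125833574611340e4f351751062b0a0b413b244a633d4c2a2105382f0437022355, 22, 69),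
  (0x60325c0b01533c3e0f413b3a403739463d3848490c4f02592c032f5e0657336163110a343113512d620e58144a103554364c2e0905305f041f20221e2a1c191a181b21282527241d232600291716434744454e125a555642155b3f085052074d0d4b5d2b, 22, 70),
  (0x110a344e480b535436125a191a0d1f1d1552630522294b0f0437076047242740422345263b46433d410025385620171c2a5b624c5032514d61315f303f3a3e393c01082e5c09550e5d58132d16210c14571e1828102b031b4f3359352f0649024a2c5e44, 22, 71),
  (0x5e5a390b42533c25300f09265504445415071b565f29081e172c0d5d051d2e240160101f273e0c3d593a402f025b525c32123f41033b4316573351310a34582b1863142a1a620e1c1161192d0647225046204e364c004b484f28453837494a214d352313, 22, 71),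
  (0x421e0e5d222311442a1231551c35193953565f042d4e143652084b63375c3354511b3000201a4f3c4161464a165a49573f4c62094d4515063e103d0a59242b3a600c2f2e1d27341f011340180550290d25325e283b2621430b5b0f0702032c4717384858, 23, 73),
  (0x1b30005e5f5d23573f283b2b3a173e1f0b03514d3d18382a06352c420d34271c430132133139295312401d5621100524595b414c021e4f47542015450f554419112207620e09266148461a3c502f2d4a5c0a602e5a58080c4e3336494b37041416526325, 23, 73),
  (0x5f2a26422d63483e625b453a61521a005d4d3d173c60072e053808224b24201f15513f580a0e4e234c465c0447303754415a093b16360b503932530f121c1940012956273431551343251d110d4a182c57591b331e2b144f5e1028032102352f06490c44, 24, 75),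
  (0x60101f4e1b0b535c32364c582b4d571c4f490103512d353016044a5e500e625548112061095422150f191a074b3306340a285912375a0c212427433b452625443c42383f3941003a23403e3d47145f2f1d31182a5b132c63292e1e520d05560802175d46, 24, 75),
  (0x1321360515e5d24592e5a44191654614e374302153c523f4717041b4a26093a0c480a463b1f2d0b281a0e03082050550f33125b4b3029141c314f1e362b573e235f4941004c5840631d39532f073d56344511621025352218272a052c0d4d382106425c, 24, 76),
  (0x513f581b3d42635441331e19400639135e021516531149625052355f2c5531614f4359254500185d5b1d344d14320d1c12104c5a212a4e2f1f0a0b36283a3e1a482d0309263b2b460c5c0e234a563c04240f01273044382960202e37084b170747052257, 25, 78),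
  (0x480a461143605e550f6210573e211c40180d0c4b4f53065914164d0156584c192263451d5a613d4e2e39003735312f2b362728332c322d383a3b29302a4424545d510512135b251a420e1f0b07491503261e2341205c175f3c093f50044a025208471b34, 25, 78),
  (0x43592501151b421c1227303e1a471f46604b4f210b2305412f061751042b3b40290c0f5c1e133c5e330e2602380a4a3a28205b10083f180761454e2a2e195439633d374c585a441d2234005d5603534d553648093257522d1131620d352c164914505f24, 26, 80),
  (0xc0f5c484f011b3a280932543914611d112c29084e5d5012074716434d445a1a2d223634304653602700584b524556192e31332035593c49401e183f623e1c1f42150d5b2510570e5f26135e03370b022b2a634c0a24063d233b414a17042105382f5155, 26, 80),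
  (0x4f1257430b515f615b313f390e2f135c01084e145e630d4c5650061517191e1d182928242a25231b20262b21490f0440330a10323841110346366062271a1f0022534b5a44303e342d5558424d025d163a2e0c3b5954053c4845092c52354737074a3d1c, 27, 82),
  (0x11206118014e0b340a2a5b254402243a29054837433d1732214d56602f00412b632331404c1c5f4f363e39492c274726452e0f280d10220855090c5a1e585c57531b52591f1213195d1a5415143851070e3b3c3f334604422d6230064a5003354b165e1d, 27, 82),
  (0x22363463294801192e4c0a1c1f38400e23042d35185e2f284914210c025710393d5f2a26321d0b110913252c061e033e623b2731170f53051a303c5941543a611b4f4a335c20240051584660370d4e4b443f425b455547155d5a1256164d08505207432b, 26, 83),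
  (0x2928240c4e435140333b591f000746344835183860424a5b032f474f163e300e3c2d2e553f5c5d013158440805364d1a2745200a521223371d2a1141093961135f0b2c10573254263d2b251b024b5e211962225a0f1c5053631e4c040617140d4956153a, 27, 85),
  (0x2d2e5522180c431a275a0f6113491d2663173c52111b56333707142921543200533d622b59345e483b255735502a0239091e314506285d0d0e3f23124c1f4046514e0420240a1c5815445c014b2c60083e415f10363a2f0b42305b4d4716384a05034f19, 26, 86),
  (0x3d622b5f3c220c390910364046050e5842165306230103270d49382d081c0a130b1541440f2660635a5c24172f3f4b1f4c303b1e472e5e4a00595d285b611a1d43184d3155453a254f5734482c041135541251202a19074e1b323302142152565037293e, 26, 87),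
  (0x15414451535f221f4c202a1a1d5000251b210b475d4837094a05523d353a45464e4f1257365811421034551607592c615b325a3014626056130f5e2e3340390e0c3c023b2b1e195c29242663044d23171c2843313f3e4918010a274b380806032f0d2d54, 26, 87),
  (0xb4c3e155d3d2d135a0a620e344a585751145e2f420c4b3b040d05535240365c604e5b542e44485f32553a47031235461059303f0709014d25281b27201d00262923211e192a1a24181c2b221716630661334f4541393711430f310849385002562c3c1f, 24, 89),
  (0x4e5b544f5e153d461045410026562524433860071b222c5a4d4a500b061a2a341118331c625763510a2b19143728171d200f3259494c48025c2e0109310e13582d5d08303e3f39553c3a445f162142474027291e121f0d230c363b3505522f4b03045361, 24, 90),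
  (0x18331c29604f151d201e121358035c550c521149015f041002562f4e47393f26233c273a4124424345443e380d2e160e31360a0f055b634b3462484c3b0046253d5e353254591f2b5319575121081b141a092d3028614a5d222a5a175006072c374d0b40, 24, 91),
  (0x3c273a2d11294f0e313028462537342b2206230548514d204b030718141f59585d53091912551b0c1e5754524a6221003b2a45365033422c2641635b5a131d5c1560170a1c0f61440b3e244308350138394c3d322e40565e5f3f10162f4749040d024e1a, 24, 92),
  (0x182e342d5e294f1c3331363e402c39005f4960564243165b084b0d4e50444561113c62260f0e4822204625074d3f473a27321030032801351f591b120919541a155d525a5c1e571353581d0c1438632f2b413d3b2a240223510a4c0637054a1704210b55, 20, 92),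
  (0x60332418424e0b1f100a281a46080e262d031b042215065a14214b5e0d190f1301112755123443293225445617625061203f302a4d5b513800415f4c3140391d5363491e57363e58232b5c4f2f070c4a3a093c452e5416483d593b0502372c5235475d1c, 20, 93),
  (0x425a3e5e0c5d230e1e3f4c4658475c244e0422084f3c494550061663026141265f1b105409573d0b2a2b3a2c38333700302e3628353b2d2f3427293132131d251143560f19124055011c44530d4a154b1f2060595b1a525118620a03174d210714054839, 21, 95),
  (0x1127553c1b184e6120452e391d3500583d37014d5f4f471038082c604a3e36464823092b28260c2d0a5c570316412f403159323f023343521312515b3b1a1f0e0b420530242a54255d44342907492256194c531e621c2163150f5a504b0d040617145e3a, 21, 95),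
  (0x1b105460225e5d0030595b1d25143455184d5f352953051e2f4721424b4012585101201c4c24154e3f44190452270d1332622a2e175a3d0726092d3b0a460e5c230c03363e281a2b483a570b4a564f2c6131110f333906433c414537160208493850631f, 22, 97),
  (0x1201c115f605e13320f330e5c38262b3c0251172d0b50300714081b2c1a28254348313a5b554f1859573e4d06094a460a413f6216101549584c3d5a451d00345d22372a542e39446319244e56032904403b2336271f470c53121e0d214b3505522f4261, 22, 97),
  (0x5f30391b294263262a415a5c442f241c60172d384e2337364a50472221464c2b3d51321f3b54535e6219403549204b583f272e33521e3c565531184559253457484f4d281a5b1d3a43613e5d2c040b08130a0112100e051511090f0206161403070d0c00, 23, 99),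
  (0x3c62263d602d293a273b2a541a041f13510511031b0c2133352c4a182f571e40235341583600635f311d5c4902591419090a2032372e4817610f01284c3e1c394f5e0610343024460b250e22385242074412155a3f554b5d43455b470d5056164d084e2b, 23, 99),
  (0x48313a23511160460a36270034525844534b43163d4e2f324938350104392e5c0c633b19332b293c0f245402474c561d4512594121204f05255b15101e0e13265e5f0d3f1c621f57423e551803372d4d1a5a5d2a096114220b28304a082c175006071b40, 22, 100),
  (0x51321f012d1b42583f1210345707553a11163d52185d0d2a562f145f081d5b4415430a615a1c0b60413e1a1705312c2559096227063053032b3b3c1e0f5c26246329022e39330e190c40545e044d4e35464548282000504f234c364b47213837494a2213, 23, 102),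
  (0x430a61483d011b255928202624492b19232115063c5e4a3f03073851350e33574f0c4540103a4e1112543916503b045c0f4c410947320b37445a533036345855422d4b621f27003e221a1c604d0218171d1e632e31132f295d5b2a2c1408520d05565f46, 22, 103),
  (0xc4540631548015c0f2e31585505443e5d084f4753605659374952431700272429221e1a20191823281c1f212f5a4d34365b124c140a4e0d57100b322a26252b1b3d2c41610913545f393a11024b3c160e3042623b46072d5e333f043835064a5003511d, 22, 104),
  (0x221e1a424f63483436623b252b5057545e3529140b11030f0d05060c161309552d5f3039313e3c5d2e3a6108071002262a33285b3845184a24204e0a3f585c4401150412404c461c511f19234b2c532100321b415a1d493d6027594d521747562f37430e, 22, 104),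
  (0x29361d220b0c4324282745443a0d3e3942384e2f5d014d124b37054f0658311c182d2a0e0a1a116333611314563016552e105b5a070f602c54325e59622b57195153354c463b251f3d00404821082347263f5f091e5c033c1b204117495250044a021534, 20, 106),
  (0x2d2a0e5f4e220c552e091e57194a541f1b5218075e4802282c0d502947253b3a3c3d3f0045392342274046380332212b62203310493611041c0a600f4144243e430b175b1d5a5c6115131a6308355d145859514c303437530131121605062f4d564b4f26, 20, 107),
  (0x3d3f0051185f222b624c30243e561c6101063c4960634b2e044a2f2d145c5a19531559131e1f5d1b091a1d52370a084441312720052a234d3a451136125755540c4e16330e1034404f46394235175e38250f435b32260d0b483b282150470702032c2958, 20, 108),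
  (0x155913433c515f44415b325554033a404847530511422c624d56073d3834103e0b4f0f4630615e014c390e060d453557123b0931503f5d02191e232a28242b1c221821270020261a291d1f1b171660525c360c330a584a4e635a2e082f14494b37042d25, 20, 109),
  (0x1545190c1843511359123b0e254b342442053c565e01353f16020d3d2f394c58534f1e3e31572363412b1c49041038460f276233030a112126206032361d005c5f4e472e3a5b1f552954444852065d071a3022285a614d0b1b092a1437504a082c172d40, 16, 109),
  (0x11411353423c1855273159573a063e1a4f4d1b080c2d2f33495216604b5c0a1c012312463f405115201f0e0414364a2b0930101e35625f05542a222e4c4424194e63375a004534395d1d613d5603432c25280b3b0f26384829325b0d1702215047075e58, 15, 110),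
  (0x42333460435e5d3e5a302e3a390761133c080c063d0b373b4a2f3863172b2a1a221b2726280029181e1d252105410254100f4559475b4f564012154c201c191f2351040a5c3f444601580e4e4b2c2d16550911326257505f5336314d14355203490d4824, 16, 112),
  (0x1b2726110c605e54103262191f49404653352247154e0d5a5607524216443f395f0109582e132d3c300e5c0850124b1c20361e0f143329031a284f5b313a3e615d434d453459571d482500182c043d212b4c230a41242f510b2a3b0238170637054a6355, 15, 113),
  (0x10958232211601c200a413e61051a1d0b175f144f184a100349061b2157591f51484c2562463d53320034352f282c3a312a303638272d37392e29333b1954405e0c021e260f240e635c133c044d1508445b5d45125507434e3f5a4b5216470d5056422b, 15, 114),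
  (0x484c255d5f23113a314512544050390e4e165138293c56203705470108240f6143635b5c411d150b0a132617072e04193b3f322a52093d0d1f622d275a3e1c1a60224b3058365500423446534d024f3557335e1e282b490c1859102c0621144a2f031b44, 15, 114),
  (0x51312b4829011b1f3259091a13371d5c5d522d2f0b602c304d03055f473e41003d433b4427253c233f2624384a5b08610a2e2a28072018020e334e1045403946424f1636551254340c57581135175314195a630f4c1c56155e621e214906504b0d04223a, 13, 116),
  (0x433b44632d4801610a0f4c39460d0e345e063d074e1104320237505114541213150c5a57095c535d595855525633354045623f2e49313c4b002718201e1a1f1d1b29212a2b281c262224252317160b383e1042365b3a034f6041300805472f2c4a4d5f19, 13, 117),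
  (0xc5a57423d63484045365b1f1d4a00266047154918234d0a4b0d2f43381c28464f2210244c340b5e0f252b060327171a1e415962053b532c13093c313039610e012d083f442e3a585f555c5d16214e5254201b2a3319372911123235501407045602513e, 13, 118),
  (0x2210241b1542631a1e2a33610e56135811144f053c5d02452c4a070c523a2e1d295f20555b264e60365c44473709163930120f41505a0b04464c533b321f4000483d355957621925512b345e210818061c31013f273e0d2d23280a172f38494d034b4354, 13, 119),
  (0x4241401151605e3433100f2524032b1c0b06432f2918025b2c560563141d1e570c1b121a595415535a191f520d2a1726270a3b3207623d04443f2d2e09585c555d5f083161300e3a01393e3c16214f384628232036004a224e454c354947504d374b4813, 7, 120),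
  (0x1b121a23431160262720365c5537443a4e470c072d3c4b3304035042380e3024220128390f1c4f0b103e61064a3f165809455a0a4941154d57593d624c25342b5e51353b40320019481f5453210829521d2e5d312a13565f181e5b1705142f020d2c6346, 7, 121),
  (0x128395d0c23115809312a342b0d5719181422493d532c274d372f1b520032555f482e1f363a294e20544047565921254c1e104505124f02240f15415b5c26446043175a1a0a133e63611c0b08352d060e625e3b3f4603513c3033165038074b4a04421d, 7, 122),
  (0x482e1f5e225d23254c3b3f26444a243e3c385f05150b0409020d070106130a2b516362612a192d18311c1a14030f085c5b30201e5028294b55364f1233345857110c16103945465442403a4e35173d470041605a591d3743533227212f52492c564d1b0e, 7, 123)]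

end Cfsg.Agent.HSMult
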