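import Cfsg.Agent.Lib.Mathieu.ExtensionCert

/-!
A faster way to establish the conditions on a Sylow subgroup in a split certificate: the normal words are listed
with increasing packed products.
-/

set_option autoImplicit false

namespace Cfsg.Agent.HSMult

open Cfsg.Agent.Mathieu

/-- The images of a packed permutation as one number. -/
def keyOf (n p : ℕ) : ℕ := (List.range n).foldr (fun x acc => Nat.add (app p x) (Nat.mul 256 acc)) 0

/-- Strictly increasing lists. -/
def incrOK : List ℕ → Bool
  | [] => true
  | [_] => true
  | a :: b :: l => decide (a < b) && incrOK (b :: l)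

theorem incrOK_get : ∀ (l : List ℕ), incrOK l = true → ∀ a b, b < a → a < l.length → l.getD b 0 < l.getD a 0
  | [], _, a, b, _, ha => absurd ha (Nat.not_lt_zero a)
  | [_], _, a, b, hba, ha => absurd ha (by simp only [List.length_cons, List.length_nil]; omega)
  | x :: y :: l, h, a, b, hba, ha => by
    rw [incrOK, Bool.and_eq_true, decide_eq_true_eq] at h
    obtain ⟨a, rfl⟩ := Nat.exists_eq_add_of_lt hba
    rcases Nat.eq_zero_or_pos b with rfl | hb
    · simp only [List.getD_cons_zero, Nat.zero_add, List.getD_cons_succ]
      have hl : a < (y :: l).length := by simpa using ha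
      rcases Nat.eq_zero_or_pos a with rfl | ha'
      · simpa using h.1
      · exact h.1.trans_le (le_of_lt (by simpa using incrOK_get (y :: l) h.2 a 0 ha' hl))
    · obtain ⟨b, rfl⟩ := Nat.exists_eq_add_of_le hb
      rw [show 1 + b + a + 1 = (b + a + 1) + 1 by omega, show 1 + b = b + 1 by omega, List.getD_cons_succ,
        List.getD_cons_succ]
      exact incrOK_get (y :: l) h.2 _ _ (by omega) (by simp only [List.length_cons] at ha ⊢; omega)

variable (C : Ext.SplitCert) (n : ℕ)

/-- The conditions on rules and words. -/
def sylBase : Bool :=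
  decide (C.sylRules ≤ C.pres.rules.length) && decide (C.sylGens ≤ C.pres.gens.length) &&
    (C.pres.rules.take C.sylRules).all (fun r => r.1.all (fun i => decide (i < C.sylGens)) &&
      r.2.all fun i => decide (i < C.sylGens)) &&
    C.words.contains [] &&
    C.words.all (fun w => w.all fun i => decide (i < C.sylGens))

/-- The closing derivation of a word and a generator. -/
def closeOne (a : ℕ) (w : List ℕ) (row : List (List (ℕ × ℕ × Bool) × ℕ)) : Bool :=
  (List.range C.sylGens).all fun i =>
    (row.getD i ([], 0)).1.all (fun s => decide (s.2.1 < C.sylRules)) &&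
      match C.pres.run 0 (w ++ [i]) (row.getD i ([], 0)).1 with
      | some (_, z) => decide ((row.getD i ([], 0)).2 < C.words.length) &&
          z == C.words.getD (row.getD i ([], 0)).2 []
      | none => false

/-- The closing derivations. -/
def sylClose : Bool :=
  (C.closing.length == C.words.length) &&
    ((C.words.zip C.closing).zipIdx).all fun p => closeOne C p.2 p.1.1 p.1.2

/-- Distinctness. -/
def sylDistinct : Bool := incrOK (C.words.map fun w => keyOf n (C.pres.prod n w))

theorem sylOK_of (h1 : sylBase C = true) (h2 : sylClose C = true) (h3 : sylDistinct C n = true) :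
    C.sylOK n = true := by
  simp only [sylBase, Bool.and_eq_true] at h1
  simp only [sylClose, Bool.and_eq_true, beq_iff_eq, List.all_eq_true, closeOne, List.mem_range] at h2
  obtain ⟨hlen, h2⟩ := h2
  simp only [Ext.SplitCert.sylOK, Bool.and_eq_true, List.all_eq_true, List.mem_range]
  obtain ⟨⟨⟨⟨a1, a2⟩, a3⟩, a4⟩, a5⟩ := h1
  simp only [List.all_eq_true, Bool.and_eq_true] at a3 a5
  refine ⟨⟨⟨⟨⟨⟨a1, a2⟩, a3⟩, a4⟩, a5⟩, fun a ha i hi => ?_⟩, fun a ha b hb => ?_⟩
  · have hc : a < C.closing.length := hlen ▸ ha
    have hmem : ((C.words.getD a [], C.closing.getD a []), a) ∈ (C.words.zip C.closing).zipIdx := by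
      rw [List.mk_mem_zipIdx_iff_getElem?, List.getElem?_zip_eq_some, List.getD_eq_getElem _ _ ha,
        List.getD_eq_getElem _ _ hc]
      exact ⟨List.getElem?_eq_getElem ha, List.getElem?_eq_getElem hc⟩
    exact h2 _ hmem i hi
  · have hk := incrOK_get _ h3 a b hb (by simpa using ha)
    rw [List.getD_eq_getElem _ _ (by simpa using hb.trans ha), List.getD_eq_getElem _ _ (by simpa using ha),
      List.getElem_map, List.getElem_map] at hk
    rw [Bool.not_eq_eq_eq_not, Bool.not_true, Bool.eq_false_iff]
    intro hall
    simp only [List.all_eq_true, List.mem_range, beq_iff_eq] at hall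
    rw [List.getD_eq_getElem _ _ ha, List.getD_eq_getElem _ _ (hb.trans ha)] at hall
    refine hk.ne ?_
    unfold keyOf
    have : ∀ l : List ℕ, (∀ x ∈ l, x < n) →
        l.foldr (fun x acc => Nat.add (app (C.pres.prod n C.words[b]) x) (Nat.mul 256 acc)) 0 =
          l.foldr (fun x acc => Nat.add (app (C.pres.prod n C.words[a]) x) (Nat.mul 256 acc)) 0 := by
      intro l
      induction l with
      | nil => intro _; rfl
      | cons x l ih =>
        intro hl
        rw [List.foldr_cons, List.foldr_cons, hall x (hl x List.mem_cons_self),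
          ih fun y hy => hl y (List.mem_cons_of_mem _ hy)]
    exact this _ fun x hx => List.mem_range.1 hx

end Cfsg.Agent.HSMult
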