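import Cfsg.Agent.Lib.Mathieu.ListGroup
import Cfsg.Agent.Lib.HSOut.Data
import Cfsg.Agent.Lib.HSMult.MultData
import Cfsg.Agent.Lib.HSMult.SylCheck

/-!
Kernel checks of the certificates for the Schur multiplier of the Higman–Sims group.
-/

set_option autoImplicit false
set_option maxRecDepth 100000
set_option maxHeartbeats 1000000

namespace Cfsg.Agent.HSMult

open Cfsg.Agent.Mathieu

/-- Representatives known to be in the group. -/
def knownM : List ℕ := allReps HSOut.levels ++ slpM.map fun s => s.1

/-- Membership test used for the certificate. -/
def memM (l : ℕ) : Bool := knownM.contains l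

/-- The kernel is central: only the identity matrix. -/
def matM (_ : ℕ) (M : List ℕ) : Bool := M == [1]

/-- The index of the commuting rule. -/
def extraRule : ℕ := 45

theorem slpM_ok : slpOK 100 (allReps HSOut.levels) slpM = true := by decide +kernel

theorem multPres_ok : multPres.ok 100 memM matM = true := by decide +kernel

theorem mult_base : sylBase multCert = true := by decide +kernel

theorem mult_close : sylClose multCert = true := by decide +kernel

theorem mult_distinct : sylDistinct multCert 100 = true := by decide +kernel

theorem mult_linOK : multCert.linOK 1 [2 ^ extraRule] = true := by decide +kernel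

theorem mult_eqs_lt : (multCert.eqs.all fun q =>
    q.1.all fun i => decide (i < multCert.pres.gens.length)) = true := by decide +kernel

theorem mult_words : multCert.words.length = 512 := by decide +kernel

theorem mult_extra : (decide (extraRule < multPres.rules.length) &&
    (multPres.rules.getD extraRule ([], []) == ([2, 0, 6], [0, 6, 2])) &&
    isId 100 (multPres.prod 100 [2, 2]) && decide (6 < multPres.gens.length)) = true := by decide +kernel

theorem three_check : ((threeData.all fun l => memM l) &&
    listGroupOK 100 [threeData.getD 0 0, threeData.getD 1 0] threeSteps &&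
    distinctList 100 (slpList [threeData.getD 0 0, threeData.getD 1 0] threeSteps) &&
    ((slpList [threeData.getD 0 0, threeData.getD 1 0] threeSteps).length == 9) &&
    (let a := threeData.getD 0 0; let b := threeData.getD 1 0; let g := threeData.getD 2 0
     samePack 100 (packMulS 100 a b) (packMulS 100 b a) &&
      samePack 100 (packMulS 100 g a) (packMulS 100 a g) &&
      isIdS 100 (packPowS 100 b 3) &&
      samePack 100 (packMulS 100 g b) (packMulS 100 (packPowS 100 b 2) g))) = true := by decide +kernel

theorem five_check : ((fiveData.all fun l => memM l) &&
    listGroupOK 100 [fiveData.getD 0 0, fiveData.getD 1 0] fiveSteps &&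
    distinctList 100 (slpList [fiveData.getD 0 0, fiveData.getD 1 0] fiveSteps) &&
    ((slpList [fiveData.getD 0 0, fiveData.getD 1 0] fiveSteps).length == 125) &&
    (let a := fiveData.getD 0 0; let b := fiveData.getD 1 0; let t := fiveData.getD 2 0
     let a4 := packPowS 100 a 4; let b4 := packPowS 100 b 4
     let c := packMulS 100 (packMulS 100 a b) (packMulS 100 a4 b4)
     isIdS 100 (packPowS 100 a 5) && isIdS 100 (packPowS 100 b 5) &&
      !isIdS 100 c && isIdS 100 (packPowS 100 c 5) &&
      samePack 100 (packMulS 100 a c) (packMulS 100 c a) &&
      samePack 100 (packMulS 100 b c) (packMulS 100 c b) &&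
      samePack 100 (packMulS 100 t a) (packMulS 100 a4 t) &&
      samePack 100 (packMulS 100 t b) (packMulS 100 b4 t))) = true := by decide +kernel

end Cfsg.Agent.HSMult
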