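import Cfsg.Agent.Lib.HSMult.MultChecks
import Cfsg.Agent.Lib.HSOut.Model
import Cfsg.Agent.Lib.Schur.OddLocal
import Cfsg.Agent.Lib.Schur.Exponent
import Cfsg.Agent.Lib.Schur.SylowLocal
import Cfsg.Agent.Lib.Schur.Basic

/-!
The kernel of a stem extension of the Higman–Sims group has order at most 2.

For 2, an extension with kernel of order 2 in which a chosen commuting pair lifts to commuting elements splits: a
certificate on the tails of a Sylow subgroup.  For 3 and 5 involutions normalising the Sylow subgroups kill the local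
contribution; the other primes divide once.
-/

set_option autoImplicit false
set_option maxRecDepth 20000
set_option maxHeartbeats 1000000

namespace Cfsg.Agent.HSMult

open Cfsg Cfsg.Agent.Mathieu Cfsg.Agent.Schur Subgroup Cfsg.Agent.HSOut
open scoped commutatorElement

theorem memM_mem (σ : Equiv.Perm (Fin 100)) (l : ℕ) (hσ : Rep enc σ l) (hl : memM l = true) : σ ∈ grp := by
  obtain ⟨τ, hτ, hτr⟩ := rep_of_slp (e := enc) (H := grp) (allReps HSOut.levels) slpM
    (fun l hl => reps_levels l hl) slpM_ok l (List.mem_append.1 (List.contains_iff_mem.1 hl))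
  exact hσ.unique hτr ▸ hτ

theorem repM_mul {g h : grp} {a b : ℕ} (hg : Rep enc (g : Equiv.Perm (Fin 100)) a)
    (hh : Rep enc (h : Equiv.Perm (Fin 100)) b) :
    Rep enc ((g * h : grp) : Equiv.Perm (Fin 100)) (packMulS 100 a b) := by
  rw [packMulS_eq]; exact rep_packMul hg hh

theorem repM_pow {g : grp} {a : ℕ} (hg : Rep enc (g : Equiv.Perm (Fin 100)) a) (k : ℕ) :
    Rep enc ((g ^ k : grp) : Equiv.Perm (Fin 100)) (packPowS 100 a k) := by
  rw [packPowS_eq, Subgroup.coe_pow]; exact rep_packPow (by norm_num) hg k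

theorem eqM_of_same {g h : grp} {a b : ℕ} (hg : Rep enc (g : Equiv.Perm (Fin 100)) a)
    (hh : Rep enc (h : Equiv.Perm (Fin 100)) b) (he : samePack 100 a b = true) : g = h :=
  Subtype.ext ((hg.of_same he).unique hh)

theorem oneM_of_isId {g : grp} {a : ℕ} (hg : Rep enc (g : Equiv.Perm (Fin 100)) a)
    (h : isIdS 100 a = true) : g = 1 := by
  rw [isIdS, Mathieu.force_eq] at h
  exact Subtype.ext (hg.eq_one h)

theorem neM_one {g : grp} {a : ℕ} (hg : Rep enc (g : Equiv.Perm (Fin 100)) a)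
    (h : isIdS 100 a = false) : g ≠ 1 := by
  rintro rfl
  rw [isIdS, Mathieu.force_eq] at h
  have : isId 100 a = true := by
    simp only [isId, List.all_eq_true, List.mem_range, beq_iff_eq]
    exact fun i hi => (hg ⟨i, hi⟩).symm
  rw [this] at h
  exact Bool.noConfusion h

/-- A Sylow subgroup generated by two listed permutations. -/
theorem exists_sylow_pair {p k m : ℕ} [Fact p.Prime] (hk : 44352000 = p ^ k * m) (hm : ¬ p ∣ m)
    {la lb : ℕ} {steps : List (ℕ × ℕ × ℕ)} (hlist : listGroupOK 100 [la, lb] steps = true)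
    (hd : distinctList 100 (slpList [la, lb] steps) = true)
    (hlen : (slpList [la, lb] steps).length = p ^ k) {a b : grp}
    (ha : Rep enc (a : Equiv.Perm (Fin 100)) la) (hb : Rep enc (b : Equiv.Perm (Fin 100)) lb) :
    ∃ Q : Sylow p grp, (Q : Subgroup grp) = closure {a, b} := by
  have hgen : genGroup enc [la, lb] = (closure {a, b}).map grp.subtype := by
    rw [MonoidHom.map_closure, Set.image_pair, genGroup]
    congr 1
    ext σ
    simp only [List.mem_cons, List.not_mem_nil, or_false, Set.mem_setOf_eq, Set.mem_insert_iff,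
      Set.mem_singleton_iff, Subgroup.coe_subtype]
    refine ⟨?_, ?_⟩
    · rintro ⟨l, rfl | rfl, hr⟩
      · exact Or.inl (hr.unique ha)
      · exact Or.inr (hr.unique hb)
    · rintro (rfl | rfl)
      · exact ⟨la, Or.inl rfl, ha⟩
      · exact ⟨lb, Or.inr rfl, hb⟩
  have hcard : Nat.card (closure {a, b} : Subgroup grp) = p ^ k := by
    rw [← Subgroup.card_map_of_injective grp.subtype_injective, ← hgen,
      card_genGroup_of_list (by norm_num) hlist hd, hlen]
  refine ⟨Sylow.ofCard (closure {a, b}) ?_, rfl⟩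
  rw [hcard, card_grp, hk, Nat.factorization_mul (pow_ne_zero _ (Nat.Prime.ne_zero Fact.out))
    (fun h => hm (by rw [h]; exact dvd_zero p)), Nat.Prime.factorization_pow Fact.out]
  simp [Nat.factorization_eq_zero_of_not_dvd hm]

variable {Γ : Type} [Group Γ] [Finite Γ]

theorem local_five (σ : Γ →* grp) (hσ : Function.Surjective σ) (hz : σ.ker ≤ center Γ) :
    ∃ P : Sylow 5 Γ, ⁅(P : Subgroup Γ), (P : Subgroup Γ)⁆ ⊓ σ.ker = ⊥ := by
  haveI : Fact (Nat.Prime 5) := ⟨by norm_num⟩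
  have h := five_check
  simp only [Bool.and_eq_true, beq_iff_eq, List.all_eq_true, Bool.not_eq_eq_eq_not, Bool.not_true] at h
  obtain ⟨⟨⟨⟨hmem, hlist⟩, hd⟩, hlen⟩, ⟨⟨⟨⟨⟨⟨ha5, hb5⟩, hc1⟩, hc5⟩, hca⟩, hcb⟩, hta⟩, htb⟩ := h
  have get : ∀ l ∈ fiveData, permOK 100 l = true → ∃ g : grp, Rep enc (g : Equiv.Perm _) l := fun l hl hp => by
    obtain ⟨τ, hτ⟩ := exists_rep (e := enc) hp
    exact ⟨⟨τ, memM_mem τ l hτ (hmem l hl)⟩, hτ⟩
  obtain ⟨a, ha⟩ := get (fiveData.getD 0 0) (by decide +kernel) (by decide +kernel)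
  obtain ⟨b, hb⟩ := get (fiveData.getD 1 0) (by decide +kernel) (by decide +kernel)
  obtain ⟨g, hg⟩ := get (fiveData.getD 2 0) (by decide +kernel) (by decide +kernel)
  obtain ⟨Q, hQ⟩ := exists_sylow_pair (p := 5) (k := 3) (m := 354816) (by norm_num) (by norm_num)
    hlist hd hlen ha hb
  obtain ⟨P, hP⟩ := exists_sylow_map_eq σ hσ Q
  obtain ⟨A, rfl⟩ := hσ a
  obtain ⟨B, rfl⟩ := hσ b
  obtain ⟨T, rfl⟩ := hσ g
  have a5 : σ A ^ 5 = 1 := oneM_of_isId (repM_pow ha 5) ha5
  have b5 : σ B ^ 5 = 1 := oneM_of_isId (repM_pow hb 5) hb5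
  have ia : (σ A)⁻¹ = σ A ^ 4 := inv_eq_of_mul_eq_one_right (by rw [← pow_succ']; exact a5)
  have ib : (σ B)⁻¹ = σ B ^ 4 := inv_eq_of_mul_eq_one_right (by rw [← pow_succ']; exact b5)
  have hc : ⁅σ A, σ B⁆ = σ A * σ B * (σ A ^ 4 * σ B ^ 4) := by
    rw [commutatorElement_def, ia, ib, mul_assoc]
  have rc := repM_mul (repM_mul ha hb) (repM_mul (repM_pow ha 4) (repM_pow hb 4))
  rw [← hc] at rc
  refine ⟨P, commutator_inf_ker_eq_bot_of_oddPrime (p := 5) (by decide) σ hz (P : Subgroup Γ) (t := T) a5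
    (oneM_of_isId (repM_pow rc 5) hc5) (neM_one rc hc1)
    (eqM_of_same (repM_mul ha rc) (repM_mul rc ha) hca).symm
    (eqM_of_same (repM_mul hb rc) (repM_mul rc hb) hcb).symm (i := 0) (j := 0) ?_ ?_ b5
    (hP.trans hQ).le⟩
  · rw [pow_zero, mul_one, mul_inv_eq_iff_eq_mul, ia]
    exact eqM_of_same (repM_mul hg ha) (repM_mul (repM_pow ha 4) hg) hta
  · rw [pow_zero, mul_one, mul_inv_eq_iff_eq_mul, ib]
    exact eqM_of_same (repM_mul hg hb) (repM_mul (repM_pow hb 4) hg) htb

theorem local_three (σ : Γ →* grp) (hσ : Function.Surjective σ) (hz : σ.ker ≤ center Γ) :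
    ∃ P : Sylow 3 Γ, ⁅(P : Subgroup Γ), (P : Subgroup Γ)⁆ ⊓ σ.ker = ⊥ := by
  haveI : Fact (Nat.Prime 3) := ⟨by norm_num⟩
  have h := three_check
  simp only [Bool.and_eq_true, beq_iff_eq, List.all_eq_true] at h
  obtain ⟨⟨⟨⟨hmem, hlist⟩, hd⟩, hlen⟩, ⟨⟨hab, hga⟩, hb3⟩, hgb⟩ := h
  have get : ∀ l ∈ threeData, permOK 100 l = true → ∃ g : grp, Rep enc (g : Equiv.Perm _) l := fun l hl hp => by
    obtain ⟨τ, hτ⟩ := exists_rep (e := enc) hp
    exact ⟨⟨τ, memM_mem τ l hτ (hmem l hl)⟩, hτ⟩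
  obtain ⟨a, ha⟩ := get (threeData.getD 0 0) (by decide +kernel) (by decide +kernel)
  obtain ⟨b, hb⟩ := get (threeData.getD 1 0) (by decide +kernel) (by decide +kernel)
  obtain ⟨g, hg⟩ := get (threeData.getD 2 0) (by decide +kernel) (by decide +kernel)
  obtain ⟨Q, hQ⟩ := exists_sylow_pair (p := 3) (k := 2) (m := 4928000) (by norm_num) (by norm_num)
    hlist hd hlen ha hb
  obtain ⟨P, hP⟩ := exists_sylow_map_eq σ hσ Q
  obtain ⟨A, rfl⟩ := hσ a
  obtain ⟨B, rfl⟩ := hσ b
  obtain ⟨T, rfl⟩ := hσ g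
  refine ⟨P, ?_⟩
  rw [commutator_eq_bot_of_inverted σ hz (P : Subgroup Γ) (a := A) (b := B) (g := T) (n := 3)
    (by decide) (oneM_of_isId (repM_pow hb 3) hb3) (eqM_of_same (repM_mul ha hb) (repM_mul hb ha) hab)
    (eqM_of_same (repM_mul hg ha) (repM_mul ha hg) hga) ?_ (hP.trans hQ).le, bot_inf_eq]
  have e : (σ B)⁻¹ = σ B ^ 2 := inv_eq_of_mul_eq_one_right (by
    rw [← pow_succ']; exact oneM_of_isId (repM_pow hb 3) hb3)
  rw [e]
  exact eqM_of_same (repM_mul hg hb) (repM_mul (repM_pow hb 2) hg) hgb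

theorem prime_of_sq_dvd {p : ℕ} (hp : p.Prime) (h : p ^ 2 ∣ 44352000) : p = 2 ∨ p = 3 ∨ p = 5 := by
  have hle : p ≤ 11 := by
    have h1 : p ∣ 2 ^ 9 * 3 ^ 2 * 5 ^ 3 * 7 * 11 := (dvd_pow_self p two_ne_zero).trans (by norm_num; exact h)
    have e : ∀ q k : ℕ, q.Prime → q ≤ 11 → p ∣ q ^ k → p ≤ 11 := fun q k hq hle hd => by
      rw [(Nat.prime_dvd_prime_iff_eq hp hq).1 (hp.dvd_of_dvd_pow hd)]; exact hle
    rcases hp.dvd_mul.1 h1 with h2 | h2
    · rcases hp.dvd_mul.1 h2 with h3 | h3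
      · rcases hp.dvd_mul.1 h3 with h4 | h4
        · rcases hp.dvd_mul.1 h4 with h5 | h5
          · exact e 2 9 Nat.prime_two (by norm_num) h5
          · exact e 3 2 Nat.prime_three (by norm_num) h5
        · exact e 5 3 (by norm_num) (by norm_num) h4
      · exact e 7 1 (by norm_num) (by norm_num) (by rwa [pow_one])
    · exact e 11 1 (by norm_num) le_rfl (by rwa [pow_one])
  have := hp.two_le
  interval_cases p
  all_goals first | omega | (exfalso; revert hp; norm_num) | (exfalso; norm_num at h)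

/-- A stem extension with kernel of odd prime exponent is injective. -/
theorem ker_eq_bot_odd (σ : Γ →* grp) (hσ : IsStemExtension σ) {p : ℕ} (hp : p.Prime) (hp2 : p ≠ 2)
    (hexp : ∀ z ∈ σ.ker, z ^ p = 1) : σ.ker = ⊥ := by
  obtain ⟨hs, hz, hc⟩ := hσ
  haveI := Fact.mk hp
  obtain ⟨P, hP⟩ : ∃ P : Sylow p Γ, ⁅(P : Subgroup Γ), (P : Subgroup Γ)⁆ ⊓ σ.ker = ⊥ := by
    by_cases h : p ^ 2 ∣ Nat.card grp
    · rw [card_grp] at h
      rcases prime_of_sq_dvd hp h with rfl | rfl | rfl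
      · exact absurd rfl hp2
      · exact local_three σ hs hz
      · exact local_five σ hs hz
    · exact local_of_not_sq_dvd σ hs hz hp h
  exact ker_eq_bot_of_local σ hz hc hp hexp P P.not_dvd_index hP

theorem rule_extra : extraRule < multPres.rules.length ∧
    multPres.rules.getD extraRule ([], []) = ([2, 0, 6], [0, 6, 2]) ∧ 6 < multPres.gens.length ∧
    isId 100 (multPres.prod 100 [2, 2]) = true := by
  have h := mult_extra
  simp only [Bool.and_eq_true, decide_eq_true_eq, beq_iff_eq] at h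
  exact ⟨h.1.1.1, h.1.1.2, h.2, h.1.2⟩

/-- An extension with kernel of order 2 in which the commuting pair lifts to commuting elements
has no stem kernel. -/
theorem split_two {E : Type} [Group E] [Finite E] (σ : E →* grp) (hσ : IsStemExtension σ) {z : E}
    (hz1 : z ≠ 1) (hzker : ∀ g, σ g = 1 ↔ g = 1 ∨ g = z) (hz2 : z * z = 1)
    (hcomm : ∀ x y : E, Rep enc (σ x : Equiv.Perm (Fin 100)) (multPres.prod 100 [2]) →
      Rep enc (σ y : Equiv.Perm (Fin 100)) (multPres.prod 100 [0, 6]) → x * y = y * x) :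
    False := by
  let ν : Ext.V 1 → E := fun x => if x 0 = 1 then z else 1
  have two : ∀ a : ZMod 2, a = 0 ∨ a = 1 := by decide
  have funext1 : ∀ x y : Ext.V 1, x 0 = y 0 → x = y := fun x y h => by
    funext r; rw [Subsingleton.elim r 0]; exact h
  let X : Ext.ExtData grp E 1 :=
    { π := σ
      ν := ν
      ν_add := fun x y => by
        rcases two (x 0) with h | h <;> rcases two (y 0) with h' | h' <;>
          simp [ν, h, h', hz2, show (1 + 1 : ZMod 2) = 0 by decide]
      ν_inj := fun x y h => funext1 x y (by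
        rcases two (x 0) with h1 | h1 <;> rcases two (y 0) with h2 | h2 <;>
          simp [ν, h1, h2, hz1, Ne.symm hz1] at h ⊢)
      surj := hσ.1
      range_eq := fun g => by
        rw [hzker]
        constructor
        · rintro (rfl | rfl)
          · exact ⟨0, by simp [ν]⟩
          · exact ⟨fun _ => 1, by simp [ν]⟩
        · rintro ⟨x, rfl⟩
          rcases two (x 0) with h | h <;> simp [ν, h] }
  have heq : X.Equivariant enc matM := by
    intro g l M _ hM x
    simp only [matM, beq_iff_eq] at hM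
    subst hM
    have e : Ext.matApply [1] x = x := funext1 _ _ (by simp [Ext.matApply])
    rw [e, mem_center_iff.1 (hσ.2.1 (X.π_ν x)) g, mul_inv_cancel_right]
  obtain ⟨ls, τ, hL⟩ := Ext.exists_lifts (P := multPres) (e := enc) (memH := memM)
    (matOK := matM) (by norm_num) memM_mem X multPres_ok
  obtain ⟨hextraRule, hrule, hlen, -⟩ := rule_extra
  have hlt : ∀ w : List ℕ, (∀ i ∈ w, i ≤ 6) → ∀ i ∈ w, i < multPres.gens.length :=
    fun w h i hi => lt_of_le_of_lt (h i hi) hlen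
  have r0 : Rep enc (σ (Ext.liftW ls [2]) : Equiv.Perm (Fin 100)) (multPres.prod 100 [2]) :=
    Ext.rep_liftW (X := X) (by norm_num) hL.rep _ (hlt _ (by simp))
  have r13 : Rep enc (σ (Ext.liftW ls [0, 6]) : Equiv.Perm (Fin 100)) (multPres.prod 100 [0, 6]) :=
    Ext.rep_liftW (X := X) (by norm_num) hL.rep _ (hlt _ (by simp))
  have hsame : Ext.liftW ls [2, 0, 6] = Ext.liftW ls [0, 6, 2] := by
    rw [show [2, 0, 6] = [2] ++ [0, 6] from rfl, show [0, 6, 2] = [0, 6] ++ [2] from rfl,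
      Ext.liftW_append, Ext.liftW_append, hcomm _ _ r0 r13]
  have hτ := hL.rule extraRule hextraRule
  rw [List.getD_eq_getElem _ _ hextraRule] at hrule
  rw [hrule] at hτ
  simp only at hτ
  rw [hsame, right_eq_mul, ← X.ν_zero] at hτ
  have ht : τ extraRule = 0 := by
    have := congrFun (X.ν_inj hτ) 0
    simpa using this
  obtain ⟨K, hK⟩ := Ext.exists_complement (C := multCert) (e := enc) (by norm_num) hL heq
    multPres_ok (sylOK_of multCert 100 mult_base mult_close mult_distinct) mult_linOK mult_eqs_lt (fun m hm => by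
      rw [List.mem_singleton.1 hm, Ext.evalMask_two_pow _ _ (show extraRule < multCert.pres.rules.length * 1 by
        rw [mul_one]; exact hextraRule)]
      exact ht)
    ⟨9, mult_words.trans (by norm_num), 86625, by decide, by rw [card_grp]; norm_num⟩
  have hb : ⁅(⊤ : Subgroup E), ⊤⁆ ⊓ σ.ker = ⊥ := by
    refine commutator_inf_ker_eq_bot_of_complement σ hσ.2.1 ⊤ K ?_ ?_
    · rw [inf_comm]; exact hK.disjoint.eq_bot
    · rintro g ⟨x, -, rfl⟩
      obtain ⟨k, hk⟩ : ∃ k ∈ K, σ k = σ x := by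
        obtain ⟨⟨⟨u, hu⟩, ⟨k, hk⟩⟩, e⟩ := hK.2 x
        refine ⟨k, hk, ?_⟩
        rw [← (show u * k = x from e), map_mul, show σ u = 1 from hu, one_mul]
      exact ⟨k, hk⟩
  have hzk : z ∈ σ.ker := (hzker z).2 (Or.inr rfl)
  rw [← _root_.commutator_def] at hb
  exact hz1 (Subgroup.mem_bot.1 (hb ▸ ⟨hσ.2.2 hzk, hzk⟩))

/-- A stem extension with kernel of exponent 2 in which the commuting pair lifts to commuting
elements is injective. -/
theorem ker_eq_bot_two (σ : Γ →* grp) (hσ : IsStemExtension σ) (hexp : ∀ z ∈ σ.ker, z ^ 2 = 1)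
    (hcomm : ∀ x y : Γ, Rep enc (σ x : Equiv.Perm (Fin 100)) (multPres.prod 100 [2]) →
      Rep enc (σ y : Equiv.Perm (Fin 100)) (multPres.prod 100 [0, 6]) → x * y = y * x) :
    σ.ker = ⊥ := by
  rw [eq_bot_iff]
  intro z hz
  rw [Subgroup.mem_bot]
  by_contra hz1
  let S : Set (Subgroup Γ) := {M | M ≤ σ.ker ∧ z ∉ M}
  obtain ⟨M, hM⟩ := S.toFinite.exists_maximal ⟨⊥, bot_le, fun h => hz1 (Subgroup.mem_bot.1 h)⟩
  obtain ⟨hMk, hzM⟩ := hM.1
  haveI : M.Normal := ⟨fun x hx g => by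
    rwa [mem_center_iff.1 (hσ.2.1 (hMk hx)) g, mul_inv_cancel_right]⟩
  let σ' : Γ ⧸ M →* grp := QuotientGroup.lift M σ hMk
  have hker : σ'.ker = σ.ker.map (QuotientGroup.mk' M) := QuotientGroup.ker_lift M σ hMk
  have hst : IsStemExtension σ' := by
    refine ⟨fun g => ?_, ?_, ?_⟩
    · obtain ⟨x, rfl⟩ := hσ.1 g; exact ⟨x, rfl⟩
    · rw [hker]
      rintro _ ⟨x, hx, rfl⟩
      rw [mem_center_iff]
      intro y
      obtain ⟨y, rfl⟩ := QuotientGroup.mk'_surjective M y
      rw [← map_mul, ← map_mul, mem_center_iff.1 (hσ.2.1 hx) y]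
    · rw [hker]
      refine (Subgroup.map_mono hσ.2.2).trans ?_
      rw [_root_.commutator_def, _root_.commutator_def, Subgroup.map_commutator]
      exact Subgroup.commutator_mono le_top le_top
  have hcov : ∀ x ∈ σ.ker, x ∈ M ∨ z⁻¹ * x ∈ M := by
    intro x hx
    by_cases hxM : x ∈ M
    · exact Or.inl hxM
    right
    by_contra hzx
    let M' : Subgroup Γ := M ⊔ zpowers x
    have hle : M ≤ M' := le_sup_left
    have hxM' : x ∈ M' := (le_sup_right : zpowers x ≤ M') (mem_zpowers x)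
    refine hxM (hM.2 ⟨sup_le hMk (zpowers_le.2 hx), fun hzM' => ?_⟩ hle hxM')
    rw [Subgroup.mem_sup_of_normal_left] at hzM'
    obtain ⟨m, hm, q, hq, hmq⟩ := hzM'
    obtain ⟨k, rfl⟩ := mem_zpowers_iff.1 hq
    have hx2 : x ^ (2 : ℤ) = 1 := by rw [zpow_ofNat]; exact hexp x hx
    obtain ⟨j, rfl | rfl⟩ := Int.even_or_odd' k
    · rw [zpow_mul, hx2, one_zpow, mul_one] at hmq
      exact hzM (hmq ▸ hm)
    · rw [zpow_add, zpow_one, zpow_mul, hx2, one_zpow, one_mul] at hmq
      refine hzx ?_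
      rw [← hmq, mul_inv_rev, mul_assoc, mem_center_iff.1 (hσ.2.1 hx) m⁻¹, inv_mul_cancel_left]
      exact inv_mem hm
  refine split_two σ' hst (z := (z : Γ ⧸ M)) (fun h => hzM ((QuotientGroup.eq_one_iff z).1 h))
    (fun g => ?_) ?_ (fun x y hx hy => ?_)
  · obtain ⟨g, rfl⟩ := QuotientGroup.mk_surjective g
    rw [QuotientGroup.eq_one_iff]
    refine ⟨fun h => (hcov g h).imp id fun h' => ?_, fun h => ?_⟩
    · exact (QuotientGroup.eq.2 h').symm
    · rcases h with h | h
      · exact hMk h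
      · have h1 := hMk (QuotientGroup.eq.1 h.symm)
        have := mul_mem hz h1
        rwa [mul_inv_cancel_left] at this
  · rw [← QuotientGroup.mk_mul, ← pow_two, hexp z hz, QuotientGroup.mk_one]
  · obtain ⟨x, rfl⟩ := QuotientGroup.mk_surjective x
    obtain ⟨y, rfl⟩ := QuotientGroup.mk_surjective y
    rw [← QuotientGroup.mk_mul, ← QuotientGroup.mk_mul, hcomm x y hx hy]

/-- The kernel of a stem extension has order at most 2. -/
theorem stem_le_two (σ : Γ →* grp) (hσ : IsStemExtension σ) :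
    ∃ π : Multiplicative (ZMod 2) →* σ.ker, Function.Surjective π := by
  obtain ⟨hs, hz, hc⟩ := hσ
  have get : ∀ w : List ℕ, (∀ i ∈ w, i ≤ 6) →
      ∃ g : grp, Rep enc (g : Equiv.Perm (Fin 100)) (multPres.prod 100 w) := by
    intro w hw
    induction w with
    | nil => exact ⟨1, rep_packId (by norm_num)⟩
    | cons i w ih =>
      obtain ⟨g, hg⟩ := ih fun j hj => hw j (List.mem_cons_of_mem _ hj)
      have hi : i < multPres.gens.length :=
        lt_of_le_of_lt (hw i List.mem_cons_self) rule_extra.2.2.1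
      have hok := multPres_ok
      simp only [Ext.Pres.ok, Bool.and_eq_true, List.all_eq_true] at hok
      have hi' : multPres.gens.getD i 0 ∈ multPres.gens := by
        rw [List.getD_eq_getElem _ _ hi]; exact List.getElem_mem _
      obtain ⟨τ, hτ⟩ := exists_rep (e := enc) (hok.1.1.1.1 _ hi')
      exact ⟨⟨τ, memM_mem τ _ hτ (hok.1.1.1.2 _ hi')⟩ * g, rep_packMul hτ hg⟩
  obtain ⟨a, ha⟩ := get [2] (by simp)
  obtain ⟨b, hb⟩ := get [0, 6] (by simp)
  obtain ⟨A, rfl⟩ := hs a
  obtain ⟨B, rfl⟩ := hs b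
  set d := ⁅A, B⁆ with hd
  have hcom : σ A * σ B = σ B * σ A := by
    have hsame : samePack 100 (packMulS 100 (multPres.prod 100 [2]) (multPres.prod 100 [0, 6]))
        (packMulS 100 (multPres.prod 100 [0, 6]) (multPres.prod 100 [2])) = true := by decide +kernel
    exact eqM_of_same (repM_mul ha hb) (repM_mul hb ha) hsame
  have hA2 : σ A ^ 2 = 1 := by
    have h2 : isIdS 100 (packPowS 100 (multPres.prod 100 [2]) 2) = true := by decide +kernel
    exact oneM_of_isId (repM_pow ha 2) h2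
  have hdk : d ∈ σ.ker := by
    rw [MonoidHom.mem_ker, hd, map_commutatorElement, commutatorElement_eq_one_iff_mul_comm]
    exact hcom
  have hd2 : d ^ 2 = 1 :=
    pow_commutator_eq_one σ hz (mem_center_iff.1 (hz hdk) A) hA2
  refine exists_surjective_zmod_of_le_zpowers σ.ker 2 (c := d) (ker_le_of_exponent σ ⟨hs, hz, hc⟩ _
    (zpowers_le.2 hdk) fun p hp M _ hM hDM hst hexp => ?_) hd2
  rcases eq_or_ne p 2 with rfl | hp2
  · refine ker_eq_bot_two _ hst hexp fun x y hx hy => ?_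
    obtain ⟨x, rfl⟩ := QuotientGroup.mk_surjective x
    obtain ⟨y, rfl⟩ := QuotientGroup.mk_surjective y
    have e : ⁅x, y⁆ = d :=
      commutatorElement_eq_of_map_eq σ hz (Subtype.ext (Rep.unique (hx : Rep enc (σ x : Equiv.Perm _) _) ha))
        (Subtype.ext (Rep.unique (hy : Rep enc (σ y : Equiv.Perm _) _) hb))
    have h1 : QuotientGroup.mk' M ⁅x, y⁆ = 1 :=
      (QuotientGroup.eq_one_iff _).2 (hDM (e ▸ mem_zpowers d))
    rw [map_commutatorElement] at h1
    exact commutatorElement_eq_one_iff_mul_comm.1 h1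
  · exact ker_eq_bot_odd _ hst hp hp2 hexp

end Cfsg.Agent.HSMult
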